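import Cfsg.Agent.CoTwoThree.B.Interface

/-!
Coordinates on `J` and on `π = J ⊓ C(t)`.
-/

set_option autoImplicit false
set_option linter.unusedSectionVars false

open Subgroup
open Cfsg.Agent.U62Three.K (pt root ct jt frame_commute j_mem J_cube j_self j_symm j_ne j_sum)

namespace Cfsg.Agent.CoTwoThree.B

universe u

local notation "Z3" => ZMod 3

/-- Coordinates of `J`. -/
abbrev V4 := ZMod 3 × ZMod 3 × ZMod 3 × ZMod 3

/-- Coordinates of `π`. -/
abbrev V3 := ZMod 3 × ZMod 3 × ZMod 3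

/-- The vector of `e_a - e_4`. -/
def ev4 : Fin 6 → V4 :=
  ![(1, 0, 0, 0), (0, 1, 0, 0), (0, 0, 1, 0), (2, 2, 2, 2), 0, (0, 0, 0, 1)]

/-- The action of the transposition `(4 5)`. -/
def tau (x : V4) : V4 := (x.1, x.2.1, x.2.2.1, -(x.1 + x.2.1 + x.2.2.1 + x.2.2.2))

/-- The inclusion of `π`. -/
def emb (x : V3) : V4 := (x.1, x.2.1, x.2.2, x.1 + x.2.1 + x.2.2)

/-- The linear functional vanishing on `Q`. -/
def sumV (x : V3) : Z3 := x.1 + x.2.1 + x.2.2

/-- The coordinates of the four points. -/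
def pv : Fin 4 → V3 := ![(1, 0, 0), (0, 1, 0), (0, 0, 1), (2, 2, 2)]

/-- The linear map with the given images of the first three points. -/
def lin (u v w x : V3) : V3 :=
  (x.1 * u.1 + x.2.1 * v.1 + x.2.2 * w.1, x.1 * u.2.1 + x.2.1 * v.2.1 + x.2.2 * w.2.1,
    x.1 * u.2.2 + x.2.1 * v.2.2 + x.2.2 * w.2.2)

/-- The kernel condition at a point. -/
def kerAt (i : Fin 4) (x : V3) : Prop := x.1 + x.2.1 + x.2.2 = ![x.1, x.2.1, x.2.2, 0] i

theorem tau_fixed : ∀ x : V4, tau x = x → x = emb (x.1, x.2.1, x.2.2.1) := by decide +kernel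

theorem tau_emb : ∀ x : V3, tau (emb x) = emb x := by decide +kernel

theorem tau_neg : ∀ x : V4, tau x = -x → x = 0 ∨ x = ev4 4 - ev4 5 ∨ x = ev4 5 - ev4 4 := by decide +kernel

theorem ev4_pt : ∀ i : Fin 4, ev4 (i.castLE (by omega)) + ev4 5 = emb (pv i) := by decide +kernel

theorem points_fixed : ∀ a b c : Fin 6, a ≠ b → a ≠ c → b ≠ c →
    tau (ev4 a + ev4 b + ev4 c) = ev4 a + ev4 b + ev4 c →
      ∃ i : Fin 4, ev4 a + ev4 b + ev4 c = emb (pv i) ∨ ev4 a + ev4 b + ev4 c = emb (-pv i) := by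
  decide +kernel

theorem perm_of_images : ∀ i j k : Fin 4, ∀ a b c : Bool,
    let u := if a then pv i else -pv i
    let v := if b then pv j else -pv j
    let w := if c then pv k else -pv k
    (∃ l : Fin 4, lin u v w (pv 3) = pv l ∨ lin u v w (pv 3) = -pv l) →
      (∀ x : V3, lin u v w x = 0 → x = 0) →
        ∃ σ : Equiv.Perm (Fin 4), (∀ m : Fin 3, lin u v w (pv m.castSucc) = pv (σ m.castSucc)) ∨
          (∀ m : Fin 3, lin u v w (pv m.castSucc) = -pv (σ m.castSucc)) := by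
  decide +kernel

theorem lin_pv : ∀ u v w : V3, lin u v w (pv 0) = u ∧ lin u v w (pv 1) = v ∧ lin u v w (pv 2) = w := by
  decide +kernel

theorem roots_perp : ∀ x : V3, sumV x = 0 → (∃ c : Z3, x = (c, c, c)) ∨
    ∃ k l : Fin 4, k ≠ l ∧ k ≠ 3 ∧ l ≠ 3 ∧ x = pv k - pv l := by
  decide +kernel

theorem perp_span : ∀ x : V3, sumV x = 0 → ∃ a b : ℕ, a < 3 ∧ b < 3 ∧ x = a • (1, 1, 1) + b • (1, 2, 0) := by
  intro x hx
  refine ⟨x.2.2.val, (x.1 - x.2.2).val, ZMod.val_lt _, ZMod.val_lt _, ?_⟩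
  revert x
  decide +kernel

theorem span_three : ∀ x : V3, x = (x.1.val • (1, 0, 0) + x.2.1.val • (0, 1, 0) + x.2.2.val • (0, 0, 1) : V3) := by
  decide +kernel

theorem kerAt_all : ∀ x : V3, (∀ i, kerAt i x) → x = 0 := by
  unfold kerAt
  decide +kernel

theorem sum_pv_two : sumV (pv 2) ≠ 0 ∧ sumV (pv 0 - pv 1) = 0 := by decide +kernel

variable {G : Type u} [Group G] (L : Local G)

theorem j_cube_nat (a b : Fin 6) (n : ℕ) : L.j a b ^ n = L.j a b ^ (n % 3) := by
  conv_lhs => rw [← Nat.mod_add_div n 3]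
  rw [pow_add, pow_mul, pow_succ, pow_two, L.cube, one_pow, mul_one]

/-- The element of `J` with given coordinates. -/
def chi (x : V4) : G :=
  L.j 0 4 ^ x.1.val * L.j 1 4 ^ x.2.1.val * L.j 2 4 ^ x.2.2.1.val * L.j 5 4 ^ x.2.2.2.val

theorem chi_mem (x : V4) : chi L x ∈ L.J := by
  refine mul_mem (mul_mem (mul_mem (pow_mem ?_ _) (pow_mem ?_ _)) (pow_mem ?_ _)) (pow_mem ?_ _) <;>
    exact j_mem L.frame _ _

theorem chi_add (x y : V4) : chi L (x + y) = chi L x * chi L y := by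
  have h : ∀ (a b : Fin 6) (p q : Z3), L.j a b ^ (p + q).val = L.j a b ^ p.val * L.j a b ^ q.val := by
    intro a b p q
    rw [← pow_add, ZMod.val_add, ← j_cube_nat]
  have hc : ∀ a b c d (m n : ℕ), Commute (L.j a b ^ m) (L.j c d ^ n) := fun a b c d m n =>
    (L.comm a b c d).pow_pow m n
  simp only [chi, Prod.fst_add, Prod.snd_add, h]
  have h4 : ∀ A B C D A' B' C' D' : G, Commute A' B → Commute A' C → Commute A' D → Commute B' C →
      Commute B' D → Commute C' D → A * A' * (B * B') * (C * C') * (D * D') = A * B * C * D * (A' * B' * C' * D') := by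
    intro A B C D A' B' C' D' hab hac had hbc hbd hcd
    rw [hab.mul_mul_mul_comm, (hac.mul_left hbc).mul_mul_mul_comm, ((had.mul_left hbd).mul_left hcd).mul_mul_mul_comm]
  exact h4 _ _ _ _ _ _ _ _ (hc 0 4 1 4 _ _) (hc 0 4 2 4 _ _) (hc 0 4 5 4 _ _) (hc 1 4 2 4 _ _) (hc 1 4 5 4 _ _)
    (hc 2 4 5 4 _ _)

theorem chi_zero : chi L 0 = 1 := by simp [chi]

theorem chi_neg (x : V4) : chi L (-x) = (chi L x)⁻¹ :=
  eq_inv_of_mul_eq_one_left (by rw [← chi_add, neg_add_cancel, chi_zero])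

theorem chi_sub (x y : V4) : chi L (x - y) = chi L x * (chi L y)⁻¹ := by
  rw [sub_eq_add_neg, chi_add, chi_neg]

theorem chi_nsmul (x : V4) : ∀ n : ℕ, chi L (n • x) = chi L x ^ n
  | 0 => by rw [zero_smul, chi_zero, pow_zero]
  | n + 1 => by rw [succ_nsmul, chi_add, chi_nsmul x n, pow_succ]

theorem chi_ev (a : Fin 6) : chi L (ev4 a) = L.j a 4 := by
  fin_cases a
  · simp [chi, ev4, ZMod.val_one]
  · simp [chi, ev4, ZMod.val_one]
  · simp [chi, ev4, ZMod.val_one]
  · have e : ev4 3 = -(ev4 0 + ev4 1 + ev4 2 + ev4 5) := by decide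
    show chi L (ev4 3) = L.j 3 4
    rw [e, chi_neg, chi_add, chi_add, chi_add]
    refine inv_eq_of_mul_eq_one_right ?_
    simp only [chi, ev4, Matrix.cons_val, ZMod.val_one, ZMod.val_zero, pow_zero, pow_one, one_mul, mul_one]
    rw [mul_assoc _ (L.j 5 4), (L.comm 5 4 3 4).eq, ← mul_assoc]
    exact j_sum L.frame
  · show chi L (ev4 4) = L.j 4 4
    rw [show L.j 4 4 = 1 from j_self L.frame 4, show ev4 4 = 0 by decide, chi_zero]
  · simp [chi, ev4, ZMod.val_one]

theorem j_eq (a b : Fin 6) : L.j a b = chi L (ev4 a - ev4 b) := by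
  rw [chi_sub, chi_ev, chi_ev, show (L.j b 4)⁻¹ = L.j 4 b from j_symm L.frame b 4, L.cocycle]

theorem chi_surj {g : G} (hg : g ∈ L.J) : ∃ x, chi L x = g := by
  rw [L.span] at hg
  induction hg using closure_induction with
  | mem w hw => obtain ⟨⟨a, b⟩, rfl⟩ := hw; exact ⟨_, (j_eq L a b).symm⟩
  | one => exact ⟨0, chi_zero L⟩
  | mul p q _ _ hp hq => obtain ⟨x, rfl⟩ := hp; obtain ⟨y, rfl⟩ := hq; exact ⟨_, chi_add L x y⟩
  | inv p _ hp => obtain ⟨x, rfl⟩ := hp; exact ⟨_, chi_neg L x⟩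

theorem chi_inj {x y : V4} (h : chi L x = chi L y) : x = y := by
  classical
  let f : V4 → ↥L.J := fun v => ⟨chi L v, chi_mem L v⟩
  have hs : Function.Surjective f := fun g => by
    obtain ⟨v, hv⟩ := chi_surj L g.2
    exact ⟨v, Subtype.ext hv⟩
  have hf : Finite ↥L.J := Nat.finite_of_card_ne_zero (by rw [L.card]; decide)
  have hb : Function.Bijective f :=
    (Nat.bijective_iff_surjective_and_card f).2 ⟨hs, by simp [Nat.card_prod, L.card]⟩
  exact hb.1 (Subtype.ext h)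

theorem t_chi (x : V4) : L.t * chi L x * L.t⁻¹ = chi L (tau x) := by
  have hgen : ∀ a, L.t * chi L (ev4 a) * L.t⁻¹ = chi L (tau (ev4 a)) := by
    intro a
    rw [chi_ev, L.tJ, j_eq, show ev4 (Equiv.swap 4 5 a) - ev4 (Equiv.swap 4 5 4) = tau (ev4 a) from ?_]
    revert a
    decide +kernel
  have key : ∀ x : V4, x = x.1.val • ev4 0 + x.2.1.val • ev4 1 + x.2.2.1.val • ev4 2 + x.2.2.2.val • ev4 5 := by
    decide +kernel
  have htau : ∀ x : V4, tau x =
      x.1.val • tau (ev4 0) + x.2.1.val • tau (ev4 1) + x.2.2.1.val • tau (ev4 2) + x.2.2.2.val • tau (ev4 5) := by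
    decide +kernel
  conv_lhs => rw [key x]
  rw [htau x]
  simp only [chi_add, chi_nsmul, ← hgen, ← conj_mul, conj_pow]

/-- The element of `π` with given coordinates. -/
def psi (x : V3) : G := chi L (emb x)

theorem emb_add (x y : V3) : emb (x + y) = emb x + emb y := by
  simp only [emb, Prod.mk_add_mk, Prod.fst_add, Prod.snd_add, Prod.mk.injEq, true_and]
  ring

theorem psi_add (x y : V3) : psi L (x + y) = psi L x * psi L y := by rw [psi, emb_add, chi_add]; rfl

theorem psi_zero : psi L 0 = 1 := by rw [psi, show emb 0 = 0 by decide, chi_zero]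

theorem psi_neg (x : V3) : psi L (-x) = (psi L x)⁻¹ :=
  eq_inv_of_mul_eq_one_left (by rw [← psi_add, neg_add_cancel, psi_zero])

theorem psi_sub (x y : V3) : psi L (x - y) = psi L x * (psi L y)⁻¹ := by
  rw [sub_eq_add_neg, psi_add, psi_neg]

theorem psi_nsmul (x : V3) : ∀ n : ℕ, psi L (n • x) = psi L x ^ n
  | 0 => by rw [zero_smul, psi_zero, pow_zero]
  | n + 1 => by rw [succ_nsmul, psi_add, psi_nsmul x n, pow_succ]

theorem psi_inj {x y : V3} (h : psi L x = psi L y) : x = y := by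
  have := chi_inj L h
  simp only [emb, Prod.mk.injEq] at this
  exact Prod.ext this.1 (Prod.ext this.2.1 this.2.2.1)

theorem psi_mem (x : V3) : psi L x ∈ jt L.frame L.t :=
  ⟨chi_mem L _, mem_centralizer_singleton_iff.2 (by
    have h := t_chi L (emb x)
    rw [tau_emb] at h
    exact (mul_inv_eq_iff_eq_mul.1 h).symm)⟩

theorem psi_surj {g : G} (hg : g ∈ jt L.frame L.t) : ∃ x, psi L x = g := by
  obtain ⟨x, rfl⟩ := chi_surj L hg.1
  refine ⟨(x.1, x.2.1, x.2.2.1), congrArg (chi L) (tau_fixed x (chi_inj L ?_)).symm⟩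
  rw [← t_chi, ← mem_centralizer_singleton_iff.1 hg.2, mul_inv_cancel_right]

theorem pt_eq (i : Fin 4) : pt L.frame i = psi L (pv i) := by
  rw [psi, ← ev4_pt, chi_add, chi_ev, chi_ev]
  rfl

theorem root_psi (k l : Fin 4) : root L.frame k l = psi L (pv k - pv l) := by
  rw [U62Three.K.root_eq, psi_sub, pt_eq, pt_eq]

theorem z_eq : L.z = psi L (1, 1, 1) := by
  rw [L.hz, j_eq, j_eq, ← chi_add, psi,
    show ev4 0 - ev4 1 + (ev4 2 - ev4 1) = emb (1, 1, 1) by decide]

theorem pt_three : pt L.frame 3 = L.z⁻¹ :=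
  ((pt_eq L 3).trans (psi_neg L (1, 1, 1))).trans (congrArg Inv.inv (z_eq L).symm)

theorem a_eq : L.j 0 1 = psi L (1, 2, 0) := by
  rw [j_eq, psi, show ev4 0 - ev4 1 = emb (1, 2, 0) by decide]

theorem card_jt : Nat.card ↥(jt L.frame L.t) = 27 := by
  have h : Function.Bijective (fun x : V3 => (⟨psi L x, psi_mem L x⟩ : ↥(jt L.frame L.t))) :=
    ⟨fun x y h => psi_inj L (congrArg Subtype.val h), fun g => by
      obtain ⟨x, hx⟩ := psi_surj L g.2
      exact ⟨x, Subtype.ext hx⟩⟩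
  rw [← Nat.card_eq_of_bijective _ h]
  simp [Nat.card_prod]

theorem jt_comm {g h : G} (hg : g ∈ jt L.frame L.t) (hh : h ∈ jt L.frame L.t) : Commute g h :=
  frame_commute hg.1 hh.1

theorem psi_cube (x : V3) : psi L x * psi L x * psi L x = 1 := by
  rw [← psi_add, ← psi_add, show x + x + x = 0 from ?_, psi_zero]
  revert x
  decide +kernel

/-- Membership in `Q` is the vanishing of the functional. -/
theorem psi_mem_Q (x : V3) : psi L x ∈ L.Q ↔ sumV x = 0 := by
  constructor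
  · intro hx
    have h1 : psi L x ∈ L.Q ⊓ L.J := ⟨hx, chi_mem L _⟩
    rw [L.interQ] at h1
    have key : ∀ g ∈ closure ({L.j 0 1, L.j 3 4, L.j 4 5} : Set G),
        ∃ y : V4, y.1 + y.2.1 + y.2.2.1 = 0 ∧ chi L y = g := by
      intro g hg
      induction hg using closure_induction with
      | mem w hw =>
        rcases hw with rfl | rfl | rfl <;> exact ⟨_, by decide, (j_eq L _ _).symm⟩
      | one => exact ⟨0, by decide, chi_zero L⟩
      | mul p q _ _ hp hq =>
        obtain ⟨y, hy, rfl⟩ := hp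
        obtain ⟨y', hy', rfl⟩ := hq
        exact ⟨y + y', by simp only [Prod.fst_add, Prod.snd_add]; linear_combination hy + hy', chi_add L y y'⟩
      | inv p _ hp =>
        obtain ⟨y, hy, rfl⟩ := hp
        exact ⟨-y, by simp only [Prod.fst_neg, Prod.snd_neg]; linear_combination -hy, chi_neg L y⟩
    obtain ⟨y, hy, hye⟩ := key _ h1
    rw [chi_inj L hye] at hy
    exact hy
  · intro hx
    obtain ⟨a, b, -, -, rfl⟩ := perp_span x hx
    rw [psi_add, psi_nsmul, psi_nsmul, ← z_eq, ← a_eq]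
    refine mul_mem (pow_mem L.zQ _) (pow_mem ?_ _)
    exact ((L.interQ.symm ▸ subset_closure (Or.inl rfl) : L.j 0 1 ∈ L.Q ⊓ L.J)).1

/-- The points of `π` are the four and their inverses. -/
theorem psi_point (x : V3) (h : IsConj L.z (psi L x)) : ∃ i, x = pv i ∨ x = -pv i := by
  obtain ⟨σ, hσ⟩ := L.points _ (chi_mem L _) h
  set a := σ 0
  set b := σ 1
  set c := σ 2
  have hab : a ≠ b := fun e => absurd (σ.injective e) (by decide)
  have hac : a ≠ c := fun e => absurd (σ.injective e) (by decide)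
  have hbc : b ≠ c := fun e => absurd (σ.injective e) (by decide)
  rw [j_eq, j_eq, ← chi_add] at hσ
  have hv : emb x = ev4 a + ev4 b + ev4 c := by
    rw [chi_inj L hσ]
    have h3 : ∀ q : V4, -(q + q) = q := by decide +kernel
    calc ev4 a - ev4 b + (ev4 c - ev4 b) = ev4 a + -(ev4 b + ev4 b) + ev4 c := by abel
      _ = ev4 a + ev4 b + ev4 c := by rw [h3]
  obtain ⟨i, hi⟩ := points_fixed a b c hab hac hbc (by rw [← hv, tau_emb])
  refine ⟨i, hi.imp (fun h => ?_) (fun h => ?_)⟩ <;> apply psi_inj L <;> rw [psi, psi, hv, h]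

end Cfsg.Agent.CoTwoThree.B
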