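import Cfsg.Agent.CoTwoThree.B.Point

/-!
The four quaternion groups at the points of `π`.
-/

set_option autoImplicit false
set_option linter.unusedSectionVars false

open Subgroup
open Cfsg.Agent.U62Three.K (Cover pt root ct jt frame_commute j_mem J_cube j_ne)

namespace Cfsg.Agent.CoTwoThree.B

universe u

variable {G : Type u} [Group G] (L : Local G)

/-- An element carrying the last point to the point `i`. -/
noncomputable def mover (i : Fin 4) : G := if i = 3 then 1 else (exists_perm L (Equiv.swap 3 i)).choose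

theorem mover_mem (i : Fin 4) : mover L i ∈ njt L := by
  unfold mover
  split
  · exact one_mem _
  · exact (exists_perm L (Equiv.swap 3 i)).choose_spec.1

theorem mover_act (i k : Fin 4) :
    mover L i * psi L (pv k) * (mover L i)⁻¹ = psi L (pv (Equiv.swap 3 i k)) := by
  unfold mover
  split
  · next h => subst h; simp
  · exact (exists_perm L (Equiv.swap 3 i)).choose_spec.2 k

/-- The quaternion group at the point `i`. -/
noncomputable def RR (i : Fin 4) : Subgroup G := L.R.map (MulAut.conj (mover L i)).toMonoidHom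

theorem RR_three : RR L 3 = L.R := by
  rw [RR, mover, if_pos rfl, map_one]
  exact Subgroup.map_id _

theorem mem_RR {i : Fin 4} {x : G} : x ∈ RR L i ↔ (mover L i)⁻¹ * x * mover L i ∈ L.R := by
  rw [RR, mem_map_equiv, MulAut.conj_symm_apply]

theorem conj_t {n : G} (hn : n ∈ njt L) : n * L.t * n⁻¹ = L.t := (ct_iff L).1 hn.2

theorem conj_czt {n : G} (hn : n ∈ njt L) {g : G} {x : V3} (hg : g ∈ ct L.t) (hc : Commute g (psi L x)) :
    n * g * n⁻¹ ∈ ct L.t ∧ Commute (n * g * n⁻¹) (n * psi L x * n⁻¹) := by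
  refine ⟨?_, hc.map (MulAut.conj n)⟩
  exact (ct L.t).mul_mem ((ct L.t).mul_mem hn.2 hg) ((ct L.t).inv_mem hn.2)

theorem comm_z_iff {g : G} : g ∈ centralizer ({L.z} : Set G) ↔ Commute g (psi L (pv 3)) := by
  rw [mem_centralizer_singleton_iff, ← pt_eq, pt_three]
  exact ⟨fun h => (show Commute g L.z from h).inv_right, fun h => by simpa using h.inv_right.eq⟩

theorem cover_RR (i : Fin 4) : Cover L.t (RR L i) := by
  have hc := coverR L
  have ht := conj_t L (mover_mem L i)
  have hm : ∀ a ∈ L.R, mover L i * a * (mover L i)⁻¹ ∈ RR L i := fun a ha => ⟨a, ha, rfl⟩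
  refine ⟨ht ▸ hm _ hc.mem, ?_, ?_, ?_⟩
  · rintro _ ⟨a, ha, rfl⟩
    simp only [MulEquiv.coe_toMonoidHom, MulAut.conj_apply]
    rw [conj_mul]
    rcases hc.sq a ha with h | h <;> rw [h]
    · exact Or.inl (by group)
    · exact Or.inr ht
  · rintro _ ⟨a, ha, rfl⟩
    have := (hc.central a ha).map (MulAut.conj (mover L i))
    simp only [MulAut.conj_apply, ht] at this
    exact this
  · rintro _ ⟨a, ha, rfl⟩ hall
    rcases hc.centre a ha (fun b hb => by
      have := (hall _ ⟨b, hb, rfl⟩).map (MulAut.conj (mover L i)).symm.toMonoidHom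
      simpa [mul_assoc] using this) with h | h <;> rw [h]
    · exact Or.inl (map_one _)
    · exact Or.inr ht

theorem card_RR (i : Fin 4) : Nat.card ↥(RR L i) = 8 := by
  rw [RR, card_map_of_injective (MulAut.conj (mover L i)).injective, cardR]

theorem RR_le (i : Fin 4) : ∀ r ∈ RR L i, r ∈ ct L.t ∧ Commute r (psi L (pv i)) := by
  rintro _ ⟨r, hr, rfl⟩
  obtain ⟨hrt, hrz⟩ := R_le L hr
  have h := conj_czt L (mover_mem L i) hrt ((comm_z_iff L).1 hrz)
  rw [mover_act, Equiv.swap_apply_left] at h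
  exact h

/-- The centralizer of a point in `C(t)` is a conjugate of `C(z, t)`. -/
theorem back {i : Fin 4} {g : G} (hg : g ∈ ct L.t) (hc : Commute g (psi L (pv i))) :
    (mover L i)⁻¹ * g * mover L i ∈ czt L := by
  have hn := mover_mem L i
  have h := hc.map (MulAut.conj (mover L i)⁻¹)
  simp only [MulAut.conj_apply, inv_inv] at h
  have e : (mover L i)⁻¹ * psi L (pv i) * mover L i = psi L (pv 3) := by
    rw [← Equiv.swap_apply_left (3 : Fin 4) i, ← mover_act, Equiv.swap_apply_left]
    group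
  rw [e] at h
  exact ⟨(ct L.t).mul_mem ((ct L.t).mul_mem ((ct L.t).inv_mem hn.2) hg) hn.2, (comm_z_iff L).2 h⟩

theorem norm_RR (i : Fin 4) {g : G} (hg : g ∈ ct L.t) (hc : Commute g (psi L (pv i))) :
    g ∈ normalizer (RR L i : Set G) := by
  have h := R_norm L (back L hg hc)
  rw [mem_normalizer_iff] at h ⊢
  intro x
  rw [mem_RR, mem_RR, h]
  rw [show (mover L i)⁻¹ * g * mover L i * ((mover L i)⁻¹ * x * mover L i) * ((mover L i)⁻¹ * g * mover L i)⁻¹ =
    (mover L i)⁻¹ * (g * x * g⁻¹) * mover L i by group]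

theorem jt_norm_RR (i : Fin 4) : jt L.frame L.t ≤ normalizer (RR L i : Set G) :=
  fun _ hg => norm_RR L i hg.2 (jt_comm L hg (psi_mem L _))

theorem max_RR [Finite G] (i : Fin 4) (X : Subgroup G) (hX : ∀ x ∈ X, x ∈ ct L.t ∧ Commute x (psi L (pv i)))
    (hcop : (Nat.card ↥X).Coprime 3) (hn : jt L.frame L.t ≤ normalizer (X : Set G)) : X ≤ RR L i := by
  have hm := mover_mem L i
  set Y := X.map (MulAut.conj (mover L i)⁻¹).toMonoidHom with hY
  have hle : Y ≤ L.R := by
    refine max3 L Y ?_ (by rwa [hY, card_map_of_injective (MulAut.conj _).injective]) ?_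
    · rintro _ ⟨x, hx, rfl⟩
      simpa using back L (hX x hx).1 (hX x hx).2
    · intro y hy
      have hy' : mover L i * y * (mover L i)⁻¹ ∈ normalizer (X : Set G) := hn (conj_jt L hm hy)
      rw [mem_normalizer_iff] at hy' ⊢
      intro w
      simp only [hY, mem_map_equiv, MulAut.conj_symm_apply, inv_inv]
      rw [hy']
      rw [show mover L i * y * (mover L i)⁻¹ * (mover L i * w * (mover L i)⁻¹) * (mover L i * y * (mover L i)⁻¹)⁻¹
        = mover L i * (y * w * y⁻¹) * (mover L i)⁻¹ by group]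
  intro x hx
  rw [mem_RR]
  exact hle ⟨x, hx, by simp⟩

/-- An element of the normalizer of the frame maps one quaternion group onto another. -/
theorem map_RR [Finite G] {n : G} (hn : n ∈ njt L) {i m : Fin 4}
    (he : n * psi L (pv i) * n⁻¹ = psi L (pv m) ∨ n * psi L (pv i) * n⁻¹ = (psi L (pv m))⁻¹) :
    (RR L i).map (MulAut.conj n).toMonoidHom = RR L m := by
  have hcard : Nat.card ↥((RR L i).map (MulAut.conj n).toMonoidHom) = 8 := by
    rw [card_map_of_injective (MulAut.conj n).injective, card_RR]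
  refine eq_of_le_of_card_ge (max_RR L m _ ?_ ?_ ?_) (by rw [hcard, card_RR])
  · rintro _ ⟨r, hr, rfl⟩
    obtain ⟨hrt, hrp⟩ := RR_le L i r hr
    obtain ⟨h1, h2⟩ := conj_czt L hn hrt hrp
    refine ⟨h1, ?_⟩
    rcases he with e | e <;> rw [e] at h2
    · exact h2
    · simpa using h2.inv_right
  · rw [hcard]; decide
  · intro y hy
    have hy' : n⁻¹ * y * n ∈ jt L.frame L.t := by
      have := conj_jt L (inv_mem hn) hy
      rwa [inv_inv] at this
    have hN := jt_norm_RR L i hy'
    rw [mem_normalizer_iff] at hN ⊢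
    intro w
    simp only [mem_map_equiv, MulAut.conj_symm_apply]
    rw [hN]
    rw [show n⁻¹ * y * n * (n⁻¹ * w * n) * (n⁻¹ * y * n)⁻¹ = n⁻¹ * (y * w * y⁻¹) * n by group]

/-- A point fixes only the centre of the quaternion group of another point. -/
theorem free_RR [Finite G] {i k : Fin 4} (hik : i ≠ k) {r : G} (hr : r ∈ RR L i) (h : Commute (psi L (pv k)) r) :
    r = 1 ∨ r = L.t := by
  -- move `i` to the last point and `k` to the point two
  have key : ∀ i k : Fin 4, i ≠ k → ∃ σ : Equiv.Perm (Fin 4), σ i = 3 ∧ σ k = 2 := by decide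
  obtain ⟨σ, hσi, hσk⟩ := key i k hik
  obtain ⟨n, hn, hna⟩ := exists_perm L σ
  have h1 : n * r * n⁻¹ ∈ RR L 3 := by
    rw [← map_RR L hn (Or.inl (by rw [hna, hσi]))]
    exact ⟨r, hr, rfl⟩
  rw [RR_three] at h1
  have h2 := h.map (MulAut.conj n)
  simp only [MulAut.conj_apply, hna, hσk] at h2
  rcases free3 L h1 h2 with e | e
  · exact Or.inl (conj_eq_one_iff.1 e)
  · right
    calc r = n⁻¹ * (n * r * n⁻¹) * n := by group
      _ = n⁻¹ * (n * L.t * n⁻¹) * n := by rw [e, conj_t L hn]
      _ = L.t := by group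

theorem root_comm3 {x : V3} (hx : sumV x = 0) {r : G} (hr : r ∈ L.R) : Commute (psi L x) r :=
  (L.commR r hr _ (psi_EE L hx)).symm

theorem kerAt_shift : ∀ (i : Fin 4) (x : V3), kerAt i x ↔ sumV (lin (pv (Equiv.swap 3 i 0))
    (pv (Equiv.swap 3 i 1)) (pv (Equiv.swap 3 i 2)) x) = 0 := by
  unfold kerAt
  decide +kernel

/-- The kernel of the action of `π` on the quaternion group at `i`. -/
theorem comm_RR {i : Fin 4} {x : V3} (hx : kerAt i x) {r : G} (hr : r ∈ RR L i) : Commute (psi L x) r := by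
  obtain ⟨r, hr, rfl⟩ := hr
  have hm := mover_mem L i
  have hp : ∀ k, (mover L i)⁻¹ * psi L (pv k) * mover L i = psi L (pv (Equiv.swap 3 i k)) := fun k => by
    rw [← Equiv.swap_apply_self (3 : Fin 4) i k, ← mover_act, Equiv.swap_apply_self]
    group
  have hh := hom_on L (x := (mover L i)⁻¹) (by rw [inv_inv]; exact hp 0) (by rw [inv_inv]; exact hp 1)
    (by rw [inv_inv]; exact hp 2) x
  rw [inv_inv] at hh
  have h := (root_comm3 L ((kerAt_shift i x).1 hx) hr).map (MulAut.conj (mover L i))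
  rw [← hh] at h
  simp only [MulAut.conj_apply] at h
  rw [show mover L i * ((mover L i)⁻¹ * psi L x * mover L i) * (mover L i)⁻¹ = psi L x by group] at h
  exact h

theorem kerAt_root : ∀ i k l : Fin 4, i ≠ k → i ≠ l → kerAt i (pv k - pv l) := by
  unfold kerAt
  decide +kernel

theorem kerAt_or : ∀ (i : Fin 4) (x : V3), kerAt i x ∨ ∃ k, k ≠ i ∧ ∃ y, kerAt i y ∧ (x = pv k + y ∨ x = -pv k + y) := by
  unfold kerAt
  decide +kernel

theorem nonab_RR (i : Fin 4) : ∃ a ∈ RR L i, ∃ b ∈ RR L i, a * b ≠ b * a := by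
  by_contra h
  push Not at h
  have hall : ∀ x ∈ RR L i, x = 1 ∨ x = L.t := fun x hx => (cover_RR L i).centre x hx fun b hb => h x hx b hb
  classical
  have h2 : (RR L i : Set G) ⊆ {1, L.t} := fun x hx => hall x hx
  have h3 := Set.ncard_le_ncard h2 (Set.toFinite _)
  rw [← Nat.card_coe_set_eq] at h3
  have h4 : ({1, L.t} : Set G).ncard ≤ 2 := by
    refine le_trans (Set.ncard_insert_le _ _) ?_
    simp
  have h8 : Nat.card ↥((RR L i : Subgroup G) : Set G) = 8 := card_RR L i
  omega

theorem exists_order_four [Finite G] (i : Fin 4) : ∃ r ∈ RR L i, r ≠ 1 ∧ r ≠ L.t := by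
  obtain ⟨a, ha, b, hb, hab⟩ := nonab_RR L i
  refine ⟨a, ha, fun e => hab (by rw [e, one_mul, mul_one]), fun e => hab ?_⟩
  rw [e]
  exact ((cover_RR L i).central b hb).eq.symm

/-- An element of `π` that centralizes a quaternion group lies in the kernel at that point. -/
theorem kerAt_of_comm [Finite G] {i : Fin 4} {x : V3} (h : ∀ r ∈ RR L i, Commute (psi L x) r) : kerAt i x := by
  rcases kerAt_or i x with h0 | ⟨k, hk, y, hy, hxy⟩
  · exact h0
  exfalso
  obtain ⟨r, hr, hr1, hrt⟩ := exists_order_four L i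
  refine (free_RR L hk.symm hr ?_).elim hr1 hrt
  have hy' := comm_RR L hy hr
  rcases hxy with e | e
  · have := (h r hr).mul_left hy'.inv_left
    rwa [e, psi_add, mul_inv_cancel_right] at this
  · have := ((h r hr).mul_left hy'.inv_left).inv_left
    rwa [e, psi_add, mul_inv_cancel_right, psi_neg, inv_inv] at this

/-- Only `1` and `t` centralize `π` and all four quaternion groups in `C(t)`. -/
theorem scalar [Finite G] {x : G} (hx : x ∈ ct L.t) (hπ : ∀ y ∈ jt L.frame L.t, Commute x y)
    (hR : ∀ i, ∀ r ∈ RR L i, Commute x r) : x = 1 ∨ x = L.t := by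
  have hz : x ∈ czt L := ⟨hx, mem_centralizer_singleton_iff.2 (hπ _ (z_mem L)).eq⟩
  obtain ⟨r, hr, y, hy, rfl⟩ := cza L hz (hπ _ (a_jt L))
  have hr2 : Commute (psi L (pv 2)) r := by
    have := (hπ _ (psi_mem L (pv 2))).mul_left (jt_comm L hy (psi_mem L _)).inv_left
    rw [mul_inv_cancel_right] at this
    exact this.symm
  obtain ⟨v, rfl⟩ := psi_surj L hy
  have hv : v = 0 := kerAt_all v fun i => kerAt_of_comm L fun s hs => by
    have h1 : Commute r s := by
      rcases free3 L hr hr2 with e | e <;> rw [e]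
      · exact Commute.one_left _
      · exact ((cover_RR L i).central s hs).symm
    have := h1.inv_left.mul_left (hR i s hs)
    rwa [inv_mul_cancel_left] at this
  rw [hv, psi_zero, mul_one]
  exact free3 L hr hr2

end Cfsg.Agent.CoTwoThree.B
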