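import Cfsg.Agent.CoTwoThree.B.Types
import Cfsg.Agent.CoTwoThree.B.Aut.Outer

/-!
An element of order fifteen in the centralizer of `t`: the involution is outer in the automorphism group of the
quotient at a sum of two points.
-/

set_option autoImplicit false
set_option linter.unusedSectionVars false

open Subgroup Cfsg
open Cfsg.Agent.U62Three.K (Cover pt root ct jt frame_commute j_mem J_cube)

namespace Cfsg.Agent.CoTwoThree.B

universe u

/-- The coordinates of `j 0 1 * j 2 3`. -/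
abbrev bv : V3 := (2, 0, 2)

theorem bv_B : IsB bv := ⟨0, 2, by decide, Or.inr (by decide)⟩

theorem sum_B : ∀ x : V3, IsB x → sumV x ≠ 0 := by
  unfold IsB
  decide +kernel

theorem lin_B : ∀ (σ : Equiv.Perm (Fin 4)) (x : V3), IsB x →
    IsB (lin (pv (σ 0)) (pv (σ 1)) (pv (σ 2)) x) := by
  unfold IsB
  decide +kernel

theorem lin_swap : ∀ (i : Fin 4) (x : V3),
    lin (pv (Equiv.swap 3 i 0)) (pv (Equiv.swap 3 i 1)) (pv (Equiv.swap 3 i 2))
      (lin (pv (Equiv.swap 3 i 0)) (pv (Equiv.swap 3 i 1)) (pv (Equiv.swap 3 i 2)) x) = x := by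
  decide +kernel

variable {G : Type u} [Group G] [Finite G] (L : Local G)

theorem b_eq : L.j 0 1 * L.j 2 3 = psi L bv := by
  rw [j_eq, j_eq, ← chi_add, psi]
  congr 1

theorem t_njt : L.t ∈ njt L := ⟨t_normJ L, mem_centralizer_singleton_iff.2 rfl⟩

/-- No square root of `t` centralizes a point and a sum of two points. -/
theorem no_sqrt_pt (i : Fin 4) {x : V3} (hx : IsB x) {g : G} (hg : g ∈ ct L.t) (h2 : g * g = L.t)
    (hp : Commute g (psi L (pv i))) (hb : Commute g (psi L x)) : False := by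
  set n := mover L i with hn
  have hni : (Equiv.swap 3 i) 3 = i := Equiv.swap_apply_left _ _
  set y := lin (pv (Equiv.swap 3 i 0)) (pv (Equiv.swap 3 i 1)) (pv (Equiv.swap 3 i 2)) x with hy
  have hact : n * psi L y * n⁻¹ = psi L x := by
    rw [hom_on L (mover_act L i 0) (mover_act L i 1) (mover_act L i 2) y, hy, lin_swap]
  have hh := back L hg hp
  set h := n⁻¹ * g * n with hhdef
  have hhy : Commute h (psi L y) := by
    have := hb.map (MulAut.conj n⁻¹)
    simp only [MulAut.conj_apply, inv_inv] at this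
    rwa [show n⁻¹ * psi L x * n = psi L y by rw [← hact]; group] at this
  have hout : psi L y ∉ L.Q := fun hq => sum_B y (lin_B _ x hx) ((psi_mem_Q L y).1 hq)
  have hnt : n⁻¹ * L.t * n⁻¹⁻¹ = L.t := (ct_iff L).1 (inv_mem (mover_mem L i)).2
  rw [inv_inv] at hnt
  refine no_sqrt L (r := h) ⟨L.centOut _ (psi_mem L y).1 hout
    ⟨hh.2, mem_centralizer_singleton_iff.2 hhy.eq⟩, hh.1⟩ ?_
  calc h * h = n⁻¹ * (g * g) * n := by rw [hhdef]; group
    _ = L.t := by rw [h2, hnt]

/-- No square root of `t` centralizes a root and a sum of two points. -/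
theorem no_sqrt_rt {k l : Fin 4} (hkl : k ≠ l) {x : V3} (hx : IsB x) {g : G} (hg : g ∈ ct L.t)
    (h2 : g * g = L.t) (hr : Commute g (psi L (pv k - pv l))) (hb : Commute g (psi L x)) : False := by
  obtain ⟨D⟩ := exists_rootData L
  obtain ⟨σ, hk, hl⟩ : ∃ σ : Equiv.Perm (Fin 4), σ k = 0 ∧ σ l = 1 := by
    have key : ∀ k l : Fin 4, k ≠ l → ∃ σ : Equiv.Perm (Fin 4), σ k = 0 ∧ σ l = 1 := by decide +kernel
    exact key k l hkl
  obtain ⟨n, hn, hna⟩ := exists_perm L σ
  have hroot : n * psi L (pv k - pv l) * n⁻¹ = psi L av := by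
    rw [psi_sub, ← conj_mul, ← conj_inv, hna, hna, hk, hl, ← psi_sub]
    congr 1
  set y := lin (pv (σ 0)) (pv (σ 1)) (pv (σ 2)) x with hy
  have hact : n * psi L x * n⁻¹ = psi L y := hom_on L (hna 0) (hna 1) (hna 2) x
  set h := n * g * n⁻¹ with hhdef
  have hht : h ∈ ct L.t := (ct L.t).mul_mem ((ct L.t).mul_mem hn.2 hg) ((ct L.t).inv_mem hn.2)
  have hha : Commute h (psi L av) := hroot ▸ hr.map (MulAut.conj n)
  have hhy : Commute h (psi L y) := hact ▸ hb.map (MulAut.conj n)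
  have hh2 : h * h = L.t := by
    rw [hhdef, conj_mul, h2]
    exact (ct_iff L).1 hn.2
  obtain ⟨o, ho, m, hm, -, hom⟩ := D.gen h ⟨hht, mem_centralizer_singleton_iff.2 hha.eq⟩
  set w := m * psi L y * m⁻¹ with hw
  have hwj : w ∈ jt L.frame L.t := conj_jt L hm (psi_mem L y)
  have how : o * w * o⁻¹ = psi L y := by
    calc o * w * o⁻¹ = h * psi L y * h⁻¹ := by rw [hom, hw]; group
      _ = psi L y := by rw [hhy.eq, mul_inv_cancel_right]
  have hoK := D.le_KK ho
  have hc1 : psi L y * w⁻¹ ∈ KK L := by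
    rw [← how, mul_assoc o, mul_assoc o]
    exact mul_mem hoK ((mem_normalizer_iff.1 (jt_local L hwj).1 _).1 (inv_mem hoK))
  have hc3 : (psi L y * w⁻¹) ^ 3 = 1 := by
    obtain ⟨v, hv⟩ := psi_surj L (mul_mem (psi_mem L y) (inv_mem hwj))
    rw [← hv, pow_succ, pow_two, psi_cube]
  have hwy : psi L y = w :=
    mul_inv_eq_one.1 (cop_eq_one hc3 (cop_of_mem (by rw [(four_KK L).2.1]; decide) hc1))
  have hyo : Commute (psi L y) o := by
    rw [← hwy] at how
    exact (mul_inv_eq_iff_eq_mul.1 how).symm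
  have hot : o ∈ njt L := by
    rcases zpow_t L (fpf L (lin_B σ x hx) hoK hyo) with e | e <;> rw [e]
    exacts [one_mem _, t_njt L]
  exact no_sqrt L (hom ▸ mul_mem hot hm) hh2

/-- No square root of `t` centralizes a sum of two points and another element of `π` outside its line. -/
theorem no_sqrt_line {x y : V3} (hx : IsB x) (hy0 : y ≠ 0) (hy1 : y ≠ x) (hy2 : y ≠ -x) {g : G}
    (hg : g ∈ ct L.t) (h2 : g * g = L.t) (hgx : Commute g (psi L x)) (hgy : Commute g (psi L y)) : False := by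
  have hadd : Commute g (psi L (x + y)) := by rw [psi_add]; exact hgx.mul_right hgy
  have hsub : Commute g (psi L (x - y)) := by rw [psi_sub]; exact hgx.mul_right hgy.inv_right
  have main : ∀ v : V3, IsPt v ∨ IsRt v → Commute g (psi L v) → False := by
    intro v hv hgv
    rcases hv with ⟨i, rfl | rfl⟩ | ⟨k, l, hkl, rfl⟩
    · exact no_sqrt_pt L i hx hg h2 hgv hgx
    · rw [psi_neg] at hgv
      exact no_sqrt_pt L i hx hg h2 (by simpa using hgv.inv_right) hgx
    · exact no_sqrt_rt L hkl hx hg h2 hgv hgx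
  rcases b_line x hx y hy0 hy1 hy2 with h | h | h | h | h | h
  exacts [main _ (Or.inl h) hadd, main _ (Or.inr h) hadd, main _ (Or.inl h) hsub, main _ (Or.inr h) hsub,
    main _ (Or.inl h) hgy, main _ (Or.inr h) hgy]

/-- An element of `C(b)` commuting with `t` modulo `⟨b⟩` commutes with it. -/
theorem comm_of_mod_b {b g : G} (hb : b * b * b = 1) (hbt : Commute b L.t)
    (h : g * L.t * g⁻¹ * L.t ∈ zpowers b) : Commute g L.t := by
  set d := g * L.t * g⁻¹ * L.t with hd
  obtain ⟨k, hk⟩ := mem_zpowers_iff.1 h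
  have hdt : Commute d L.t := hk ▸ hbt.zpow_left k
  have hd3 : d * d * d = 1 := by
    rw [← hk, ← zpow_add, ← zpow_add, show k + k + k = (3 : ℕ) * k by push_cast; ring, zpow_mul, zpow_natCast,
      pow_succ, pow_two, hb, one_zpow]
  have hd2 : d * d = 1 := by
    have e1 : g * L.t * g⁻¹ = d * L.t := by rw [hd, mul_assoc _ L.t L.t, t_sq, mul_one]
    have e2 : d * L.t * (d * L.t) = 1 := by rw [← e1, conj_mul, t_sq, mul_one, mul_inv_cancel]
    rwa [hdt.symm.mul_mul_mul_comm, t_sq, mul_one] at e2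
  rw [hd2, one_mul] at hd3
  rw [hd, mul_eq_one_iff_eq_inv, t_inv, mul_inv_eq_iff_eq_mul] at hd3
  exact hd3

/-- **An element of order fifteen.** -/
theorem fifteen : ∃ b f : G, b ∈ ct L.t ∧ f ∈ ct L.t ∧ orderOf b = 3 ∧ orderOf f = 5 ∧ Commute b f := by
  classical
  have : Fact (Nat.Prime 3) := ⟨Nat.prime_three⟩
  have : Fact (Nat.Prime 5) := ⟨by norm_num⟩
  obtain ⟨n, -, hnb⟩ := L.swap
  rw [b_eq] at hnb
  set b := psi L bv with hbdef
  set a := L.j 0 1 with ha
  obtain ⟨hN, ⟨e⟩⟩ := L.quotA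
  let q : ↥(centralizer ({a} : Set G)) →* MulAut (PSp 2 (ZMod 3)) := e.toMonoidHom.comp (QuotientGroup.mk' _)
  have hq1 : ∀ g, q g = 1 ↔ (g : G) ∈ zpowers a := fun g => by
    show e (QuotientGroup.mk g) = 1 ↔ _
    rw [map_eq_one_iff e e.injective, QuotientGroup.eq_one_iff, mem_subgroupOf]
  set C := centralizer ({b} : Set G) with hC
  have hback : n⁻¹ * b * n = a := by rw [← hnb]; group
  let φ : ↥C →* ↥(centralizer ({a} : Set G)) :=
    ((MulAut.conj n⁻¹).toMonoidHom.comp C.subtype).codRestrict _ fun g => by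
      refine mem_centralizer_singleton_iff.2 ?_
      have h1 : Commute (g : G) b := mem_centralizer_singleton_iff.1 g.2
      have h2 := h1.map (MulAut.conj n⁻¹)
      simp only [MulAut.conj_apply, inv_inv, hback] at h2
      simpa using h2.eq
  have hφ : ∀ g : ↥C, (φ g : G) = n⁻¹ * g * n := fun g => by simp [φ]
  let p : ↥C →* MulAut (PSp 2 (ZMod 3)) := q.comp φ
  have hp1 : ∀ g : ↥C, p g = 1 ↔ (g : G) ∈ zpowers b := fun g => by
    show q (φ g) = 1 ↔ _
    rw [hq1, hφ]
    constructor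
    · intro h
      obtain ⟨k, hk⟩ := mem_zpowers_iff.1 h
      refine mem_zpowers_iff.2 ⟨k, ?_⟩
      rw [← hnb, conj_zpow, hk]
      group
    · intro h
      obtain ⟨k, hk⟩ := mem_zpowers_iff.1 h
      refine mem_zpowers_iff.2 ⟨k, ?_⟩
      rw [← hk, ← hnb, conj_zpow]
      group
  have hps : ∀ u, ∃ g : ↥C, p g = u := by
    intro u
    obtain ⟨g₀, hg₀⟩ := e.surjective u
    obtain ⟨⟨g, hg⟩, rfl⟩ := QuotientGroup.mk_surjective g₀
    have hgC : n * g * n⁻¹ ∈ C := by
      refine mem_centralizer_singleton_iff.2 ?_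
      rw [← hnb]
      exact ((show Commute g a from mem_centralizer_singleton_iff.1 hg).map (MulAut.conj n)).eq
    refine ⟨⟨_, hgC⟩, ?_⟩
    rw [← hg₀]
    show q (φ ⟨_, hgC⟩) = q ⟨g, hg⟩
    exact congrArg q (Subtype.ext (by rw [hφ]; group))
  have hb3 : b * b * b = 1 := psi_cube L bv
  have hbt : b ∈ ct L.t := (psi_mem L bv).2
  have hπC : jt L.frame L.t ≤ C := fun y hy =>
    mem_centralizer_singleton_iff.2 (jt_comm L hy (psi_mem L bv)).eq
  have htC : L.t ∈ C := mem_centralizer_singleton_iff.2 (mem_centralizer_singleton_iff.1 hbt).symm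
  have hbne : b ≠ 1 := fun h0 => by
    rw [hbdef, ← psi_zero L] at h0
    exact absurd (psi_inj L h0) (by decide)
  have hbo : orderOf b = 3 := orderOf_eq_prime (by rw [pow_succ, pow_two, hb3]) hbne
  have hzb : ∀ d ∈ zpowers b, d ^ 3 = 1 := by
    rintro _ ⟨k, rfl⟩
    show (b ^ k) ^ 3 = 1
    rw [← zpow_natCast, ← zpow_mul, mul_comm, zpow_mul, zpow_natCast, pow_succ, pow_two, hb3, one_zpow]
  set τ := p ⟨L.t, htC⟩ with hτ
  have hτ1 : τ ≠ 1 := fun h => by
    have h3 := hzb _ ((hp1 _).1 h)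
    rw [pow_succ, pow_two, t_sq, one_mul] at h3
    exact t_ne L h3
  have hτ2 : τ * τ = 1 := by
    rw [hτ, ← map_mul, ← map_one p]
    exact congrArg p (Subtype.ext (t_sq L))
  let ρ : ↥(jt L.frame L.t) →* MulAut (PSp 2 (ZMod 3)) := p.comp (inclusion hπC)
  have hρker : Nat.card ↥ρ.ker = 3 := by
    have h : ρ.ker = (zpowers b).subgroupOf (jt L.frame L.t) := by
      ext y
      rw [MonoidHom.mem_ker, mem_subgroupOf]
      exact hp1 _
    rw [h, Nat.card_congr (subgroupOfEquivOfLe (zpowers_le.2 (psi_mem L bv))).toEquiv, Nat.card_zpowers, hbo]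
  have hTcard : Nat.card ↥ρ.range = 9 := by
    have h := ρ.ker.card_eq_card_quotient_mul_card_subgroup
    rw [Nat.card_congr (QuotientGroup.quotientKerEquivRange ρ).toEquiv, hρker, card_jt] at h
    omega
  have hTτ : ρ.range ≤ centralizer ({τ} : Set (MulAut (PSp 2 (ZMod 3)))) := by
    rintro _ ⟨y, rfl⟩
    rw [mem_centralizer_singleton_iff]
    show p _ * p _ = p _ * p _
    rw [← map_mul, ← map_mul]
    exact congrArg p (Subtype.ext (mem_centralizer_singleton_iff.1 y.2.2))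
  have h9 : 9 ∣ Nat.card ↥(centralizer ({τ} : Set (MulAut (PSp 2 (ZMod 3))))) :=
    hTcard ▸ card_dvd_of_le hTτ
  by_cases hin : τ ∈ (AutCode.iA : PSp 2 (ZMod 3) →* _).range
  · exfalso
    obtain ⟨hcard, u, r, hu3, hu1, hr, hur⟩ := AutCode.inner_pair τ hτ1 hτ2 hin h9
    set Cτ := centralizer ({τ} : Set (MulAut (PSp 2 (ZMod 3)))) with hCτ
    have hpow : 3 ^ (Nat.card ↥Cτ).factorization 3 = 9 := by
      rw [hcard, show 1152 = 2 ^ 7 * 3 ^ 2 by norm_num, Nat.factorization_mul (by norm_num) (by norm_num),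
        Nat.Prime.factorization_pow Nat.prime_two, Nat.Prime.factorization_pow Nat.prime_three]
      simp
    let S2 : Sylow 3 ↥Cτ := Sylow.ofCard (ρ.range.subgroupOf Cτ) (by
      rw [hpow, Nat.card_congr (subgroupOfEquivOfLe hTτ).toEquiv, hTcard])
    have huC : u ∈ Cτ := mem_centralizer_singleton_iff.2 (by rw [← hr]; exact (hur.mul_right hur).eq)
    obtain ⟨S1, hS1⟩ := (IsPGroup.of_card_dvd_pow (p := 3) (n := 1) (by
      rw [Nat.card_zpowers, pow_one]
      exact orderOf_dvd_of_pow_eq_one (Subtype.ext hu3)) : IsPGroup 3 ↥(zpowers (⟨u, huC⟩ : ↥Cτ))).exists_le_sylow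
    obtain ⟨d, hd⟩ := MulAction.exists_smul_eq ↥Cτ S1 S2
    have hmem : d * ⟨u, huC⟩ * d⁻¹ ∈ (S2 : Subgroup ↥Cτ) := by
      rw [← hd]
      exact Subgroup.smul_mem_pointwise_smul (⟨u, huC⟩ : ↥Cτ) (MulAut.conj d) _ (hS1 (mem_zpowers _))
    obtain ⟨⟨y, hy⟩, hye⟩ : ((d : MulAut (PSp 2 (ZMod 3))) * u * (d : MulAut (PSp 2 (ZMod 3)))⁻¹) ∈ ρ.range := hmem
    set r' := (d : MulAut (PSp 2 (ZMod 3))) * r * (d : MulAut (PSp 2 (ZMod 3)))⁻¹ with hr'
    have hr'2 : r' * r' = τ := by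
      rw [hr', conj_mul, hr, show (d : MulAut (PSp 2 (ZMod 3))) * τ = τ * d from
        mem_centralizer_singleton_iff.1 d.2, mul_inv_cancel_right]
    obtain ⟨g, hg⟩ := hps r'
    have hyC : y ∈ C := hπC hy
    have hpy : p ⟨y, hyC⟩ = (d : MulAut (PSp 2 (ZMod 3))) * u * (d : MulAut (PSp 2 (ZMod 3)))⁻¹ := hye
    have hcy : Commute r' (p ⟨y, hyC⟩) := by
      rw [hr', hpy]
      exact conj_commute_iff (G := MulAut (PSp 2 (ZMod 3))) hur.symm
    -- the lift
    have hgb : Commute (g : G) b := mem_centralizer_singleton_iff.1 g.2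
    set β := (g : G) * g * L.t with hβ
    have hβb : β ∈ zpowers b := (hp1 (g * g * ⟨L.t, htC⟩)).1 (by
      rw [map_mul, map_mul, hg, hr'2, ← hτ, hτ2])
    have hgg : (g : G) * g = β * L.t := by rw [hβ, mul_assoc _ L.t L.t, t_sq, mul_one]
    have hbtc : Commute b L.t := mem_centralizer_singleton_iff.1 hbt
    set f := (g : G) ^ 3 with hf
    have hf2 : f * f = L.t := by
      rw [hf, ← pow_add, show 3 + 3 = 2 * 3 by norm_num, pow_mul, pow_two, hgg]
      obtain ⟨k, hk⟩ := mem_zpowers_iff.1 hβb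
      rw [← hk, (hbtc.zpow_left k).mul_pow, hzb _ (zpow_mem (mem_zpowers b) k), one_mul, pow_succ, pow_two, t_sq,
        one_mul]
    have hft : f ∈ ct L.t := mem_centralizer_singleton_iff.2 (by rw [← hf2, mul_assoc])
    have hfb : Commute f b := hgb.pow_left 3
    set w := f * y * f⁻¹ * y⁻¹ with hw
    have hwb : w ∈ zpowers b := (hp1 (g ^ 3 * ⟨y, hyC⟩ * (g ^ 3)⁻¹ * ⟨y, hyC⟩⁻¹)).1 (by
      rw [map_mul, map_mul, map_mul, map_inv, map_inv, map_pow, hg, (hcy.pow_left 3).eq, mul_inv_cancel_right,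
        mul_inv_cancel])
    have hfw : Commute f w := by
      obtain ⟨k, hk⟩ := mem_zpowers_iff.1 hwb
      exact hk ▸ hfb.zpow_right k
    have hfy : Commute f y := by
      have e1 : f * y * f⁻¹ = w * y := by rw [hw, inv_mul_cancel_right]
      have e2 : f * f * y * (f * f)⁻¹ = y := by
        rw [hf2, show L.t * y = y * L.t from (mem_centralizer_singleton_iff.1 hy.2).symm, mul_inv_cancel_right]
      have e3 : w * w = 1 := by
        calc w * w = w * (w * y) * y⁻¹ := by group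
          _ = w * (f * y * f⁻¹) * y⁻¹ := by rw [e1]
          _ = f * w * f⁻¹ * (f * y * f⁻¹) * y⁻¹ := by rw [hfw.eq, mul_inv_cancel_right]
          _ = f * (w * y) * f⁻¹ * y⁻¹ := by group
          _ = f * f * y * (f * f)⁻¹ * y⁻¹ := by rw [← e1]; group
          _ = 1 := by rw [e2, mul_inv_cancel]
      have e4 : w = 1 := by
        have := hzb w hwb
        rwa [pow_succ, pow_two, e3, one_mul] at this
      rw [hw, mul_inv_eq_one, mul_inv_eq_iff_eq_mul] at e4
      exact e4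
    obtain ⟨x, hx⟩ := psi_surj L hy
    have hynb : y ∉ zpowers b := fun h => hu1 (by
      have := (hp1 ⟨y, hyC⟩).2 h
      rw [hpy] at this
      exact conj_eq_one_iff.1 this)
    refine no_sqrt_line L bv_B (y := x) ?_ ?_ ?_ hft hf2 hfb (hx ▸ hfy) <;> intro h <;> refine hynb ?_ <;>
      rw [← hx, h]
    · rw [psi_zero]; exact one_mem _
    · exact mem_zpowers b
    · rw [psi_neg]; exact inv_mem (mem_zpowers b)
  · obtain ⟨f₀, hf5, hfc⟩ := AutCode.outer_five τ hin hτ2 h9
    obtain ⟨g, hg⟩ := hps f₀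
    have hgb : Commute (g : G) b := mem_centralizer_singleton_iff.1 g.2
    have hgt : Commute (g : G) L.t := by
      refine comm_of_mod_b L hb3 (mem_centralizer_singleton_iff.1 hbt) ?_
      refine (hp1 (g * ⟨L.t, htC⟩ * g⁻¹ * ⟨L.t, htC⟩)).1 ?_
      rw [map_mul, map_mul, map_mul, map_inv, hg, ← hτ, hfc.eq, mul_inv_cancel_right, hτ2]
    have h5 : ((g : G) ^ 5) ∈ zpowers b := (hp1 (g ^ 5)).1 (by
      rw [map_pow, hg, ← hf5, pow_orderOf_eq_one])
    refine ⟨b, (g : G) ^ 3, hbt, (ct L.t).pow_mem (mem_centralizer_singleton_iff.2 hgt.eq) 3, hbo,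
      orderOf_eq_prime ?_ ?_, (hgb.pow_left 3).symm⟩
    · rw [← pow_mul, show 3 * 5 = 5 * 3 by norm_num, pow_mul, hzb _ h5]
    · intro h3
      have h' : f₀ ^ 3 = 1 := by
        rw [← hg, ← map_pow, show g ^ 3 = 1 from Subtype.ext h3, map_one]
      have hd := orderOf_dvd_of_pow_eq_one h'
      rw [hf5] at hd
      norm_num at hd

end Cfsg.Agent.CoTwoThree.B
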