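import Cfsg.Agent.CoTwoThree.Local
import Cfsg.Agent.U62Three.K.Basic

/-!
The second Conway group from a centralizer of an element of order three: the frame used in stage B.

`π = J ⊓ C(t)` has the four points `pt i` (`pt 3` is the inverse of the given element) and the six roots up to sign.
-/

set_option autoImplicit false

open Subgroup
open Cfsg.Agent.U62Three.K (Cover pt root ct jt)

namespace Cfsg.Agent.CoTwoThree

universe u

variable {G : Type u} [Group G]

/-- The frame of the local data. -/
def Local.frame (L : Local G) : U62Three.Frame L.z where
  j := L.j
  J := L.J
  span := L.span
  cube := L.cube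
  comm := L.comm
  cocycle := L.cocycle
  card := L.card
  hz := L.hz
  perm := L.perm
  sig := L.sig

end Cfsg.Agent.CoTwoThree
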