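import Cfsg.Agent.CoTwoThree.B.PointLocal
import Cfsg.Agent.S3342
import Cfsg.Agent.MaxClassNormal.Normal

/-!
The normalizer of the product in `C(t)` modulo the product is `Aut PSp(4,3)` or `Sp(6,2)`.
-/

set_option autoImplicit false
set_option linter.unusedSectionVars false

open Subgroup Cfsg
open Cfsg.Agent.U62Three.K (Cover pt root ct jt frame_commute j_mem J_cube)

namespace Cfsg.Agent.CoTwoThree.B

universe u

/-- The product of two-by-two matrices on entries. -/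
def mulQ (p q : ZMod 3 × ZMod 3 × ZMod 3 × ZMod 3) : ZMod 3 × ZMod 3 × ZMod 3 × ZMod 3 :=
  (p.1 * q.1 + p.2.1 * q.2.2.1, p.1 * q.2.1 + p.2.1 * q.2.2.2,
    p.2.2.1 * q.1 + p.2.2.2 * q.2.2.1, p.2.2.1 * q.2.1 + p.2.2.2 * q.2.2.2)

/-- The matrix with given entries. -/
def matQ (p : ZMod 3 × ZMod 3 × ZMod 3 × ZMod 3) : Matrix (Fin 2) (Fin 2) (ZMod 3) :=
  !![p.1, p.2.1; p.2.2.1, p.2.2.2]

theorem matQ_mul (p q : ZMod 3 × ZMod 3 × ZMod 3 × ZMod 3) : matQ p * matQ q = matQ (mulQ p q) :=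
  Matrix.mul_fin_two _ _ _ _ _ _ _ _

theorem matQ_inj {p q : ZMod 3 × ZMod 3 × ZMod 3 × ZMod 3} (h : matQ p = matQ q) : p = q := by
  have h00 := congrFun (congrFun h 0) 0
  have h01 := congrFun (congrFun h 0) 1
  have h10 := congrFun (congrFun h 1) 0
  have h11 := congrFun (congrFun h 1) 1
  exact Prod.ext h00 (Prod.ext h01 (Prod.ext h10 h11))

set_option synthInstance.maxSize 4000 in
set_option synthInstance.maxHeartbeats 400000 in
theorem quad_moves : ∀ a b c d : ZMod 3, a * d - b * c = 1 →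
    mulQ (mulQ (a, b, c, d) (a, b, c, d)) (a, b, c, d) = (1, 0, 0, 1) → (a, b, c, d) ≠ (1, 0, 0, 1) →
      (mulQ (mulQ (0, 2, 1, 0) (a, b, c, d)) (0, 1, 2, 0) ≠ (a, b, c, d) ∧
          mulQ (mulQ (0, 2, 1, 0) (a, b, c, d)) (0, 1, 2, 0) ≠ mulQ (a, b, c, d) (a, b, c, d)) ∨
        (mulQ (mulQ (1, 1, 0, 1) (a, b, c, d)) (1, 2, 0, 1) ≠ (a, b, c, d) ∧
          mulQ (mulQ (1, 1, 0, 1) (a, b, c, d)) (1, 2, 0, 1) ≠ mulQ (a, b, c, d) (a, b, c, d)) := by
  decide +kernel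

theorem sl_moves (a b c d : ZMod 3) (hdet : a * d - b * c = 1)
    (h3 : (!![a, b; c, d] : Matrix (Fin 2) (Fin 2) (ZMod 3)) * !![a, b; c, d] * !![a, b; c, d] = 1)
    (h1 : (!![a, b; c, d] : Matrix (Fin 2) (Fin 2) (ZMod 3)) ≠ 1) :
    let M : Matrix (Fin 2) (Fin 2) (ZMod 3) := !![a, b; c, d]
    (!![0, 2; 1, 0] * M * !![0, 1; 2, 0] ≠ M ∧ !![0, 2; 1, 0] * M * !![0, 1; 2, 0] ≠ M * M) ∨
      (!![1, 1; 0, 1] * M * !![1, 2; 0, 1] ≠ M ∧ !![1, 1; 0, 1] * M * !![1, 2; 0, 1] ≠ M * M) := by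
  have e1 : matQ (1, 0, 0, 1) = 1 := Matrix.one_fin_two.symm
  show (matQ (0, 2, 1, 0) * matQ (a, b, c, d) * matQ (0, 1, 2, 0) ≠ matQ (a, b, c, d) ∧
      matQ (0, 2, 1, 0) * matQ (a, b, c, d) * matQ (0, 1, 2, 0) ≠ matQ (a, b, c, d) * matQ (a, b, c, d)) ∨
    (matQ (1, 1, 0, 1) * matQ (a, b, c, d) * matQ (1, 2, 0, 1) ≠ matQ (a, b, c, d) ∧
      matQ (1, 1, 0, 1) * matQ (a, b, c, d) * matQ (1, 2, 0, 1) ≠ matQ (a, b, c, d) * matQ (a, b, c, d))
  change matQ (a, b, c, d) * matQ (a, b, c, d) * matQ (a, b, c, d) = 1 at h3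
  change matQ (a, b, c, d) ≠ 1 at h1
  rw [matQ_mul, matQ_mul, ← e1] at h3
  rw [← e1] at h1
  simp only [matQ_mul]
  exact (quad_moves a b c d hdet (matQ_inj h3) (fun e => h1 (congrArg matQ e))).imp
    (fun h => ⟨fun e => h.1 (matQ_inj e), fun e => h.2 (matQ_inj e)⟩)
    (fun h => ⟨fun e => h.1 (matQ_inj e), fun e => h.2 (matQ_inj e)⟩)

theorem swap_not_z : -pv 0 ≠ 0 ∧ (1, 1, 1) + -pv 0 ≠ 0 ∧ (1, 1, 1) + (1, 1, 1) + -pv 0 ≠ 0 := by
  decide +kernel

theorem sl_gens : ∀ g ∈ [(!![0, 2; 1, 0], !![0, 1; 2, 0]), ((!![1, 1; 0, 1] : Matrix (Fin 2) (Fin 2) (ZMod 3)), !![1, 2; 0, 1])],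
    g.1.det = 1 ∧ g.1 * g.2 = 1 := by
  intro g hg
  simp only [List.mem_cons, List.not_mem_nil, or_false] at hg
  rcases hg with rfl | rfl
  · refine ⟨by rw [Matrix.det_fin_two_of]; decide, ?_⟩
    show matQ (0, 2, 1, 0) * matQ (0, 1, 2, 0) = 1
    rw [matQ_mul, show mulQ (0, 2, 1, 0) (0, 1, 2, 0) = (1, 0, 0, 1) by decide]
    exact Matrix.one_fin_two.symm
  · refine ⟨by rw [Matrix.det_fin_two_of]; decide, ?_⟩
    show matQ (1, 1, 0, 1) * matQ (1, 2, 0, 1) = 1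
    rw [matQ_mul, show mulQ (1, 1, 0, 1) (1, 2, 0, 1) = (1, 0, 0, 1) by decide]
    exact Matrix.one_fin_two.symm

/-- `SL(2,3)` has no normal subgroup of order three. -/
theorem sl_three (N : Subgroup (Matrix.SpecialLinearGroup (Fin 2) (ZMod 3))) (hn : N.Normal)
    (h3 : IsPGroup 3 ↥N) : N = ⊥ := by
  classical
  have : Fact (Nat.Prime 3) := ⟨Nat.prime_three⟩
  by_contra hne
  have hcard : Nat.card (Matrix.SpecialLinearGroup (Fin 2) (ZMod 3)) = 24 := by
    rw [Nat.card_eq_fintype_card]; decide +kernel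
  obtain ⟨k, hk⟩ := IsPGroup.iff_card.1 h3
  have hd := hcard ▸ N.card_subgroup_dvd_card
  rw [hk] at hd
  have hk1 : k = 1 := by
    rcases k with _ | _ | k
    · exact absurd (Subgroup.card_eq_one.1 (by rw [hk, pow_zero])) hne
    · rfl
    · exfalso
      have : 9 ∣ 24 := (Nat.pow_dvd_pow 3 (show 2 ≤ k + 2 by omega)).trans hd
      norm_num at this
  rw [hk1, pow_one] at hk
  obtain ⟨⟨n, hn'⟩, ho⟩ := exists_prime_orderOf_dvd_card' (G := ↥N) 3 (by rw [hk])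
  rw [orderOf_mk] at ho
  have hN : N = zpowers n := (eq_of_le_of_card_ge (zpowers_le.2 hn') (by rw [hk, Nat.card_zpowers, ho])).symm
  have hn3 : n * n * n = 1 := by
    have := pow_orderOf_eq_one n
    rwa [ho, pow_succ, pow_two] at this
  have hn1 : n ≠ 1 := fun e => by rw [e, orderOf_one] at ho; norm_num at ho
  set a := n.1 0 0
  set b := n.1 0 1
  set c := n.1 1 0
  set d := n.1 1 1
  have he : n.1 = !![a, b; c, d] := Matrix.eta_fin_two n.1
  have hdet : a * d - b * c = 1 := by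
    have := n.2
    rwa [he, Matrix.det_fin_two_of] at this
  obtain ⟨g, hg, h1, h2⟩ : ∃ g ∈ [(!![0, 2; 1, 0], !![0, 1; 2, 0]),
      ((!![1, 1; 0, 1] : Matrix (Fin 2) (Fin 2) (ZMod 3)), !![1, 2; 0, 1])],
      g.1 * !![a, b; c, d] * g.2 ≠ !![a, b; c, d] ∧
        g.1 * !![a, b; c, d] * g.2 ≠ !![a, b; c, d] * !![a, b; c, d] := by
    rcases sl_moves a b c d hdet (by rw [← he]; exact congrArg Subtype.val hn3)
      (by rw [← he]; exact fun e => hn1 (Subtype.ext e)) with h | h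
    · exact ⟨_, List.mem_cons_self, h⟩
    · exact ⟨_, List.mem_cons_of_mem _ List.mem_cons_self, h⟩
  have hgdet : g.1.det = 1 ∧ g.1 * g.2 = 1 := by
    exact sl_gens g hg
  set γ : Matrix.SpecialLinearGroup (Fin 2) (ZMod 3) := ⟨g.1, hgdet.1⟩
  have hγ : (γ⁻¹).1 = g.2 := by
    have : (γ⁻¹).1 * γ.1 = 1 := congrArg Subtype.val (inv_mul_cancel γ)
    calc (γ⁻¹).1 = (γ⁻¹).1 * (g.1 * g.2) := by rw [hgdet.2, mul_one]
      _ = g.2 := by rw [← mul_assoc]; show (γ⁻¹).1 * γ.1 * g.2 = g.2; rw [this, one_mul]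
  have hconj : (γ * n * γ⁻¹).1 = g.1 * !![a, b; c, d] * g.2 := by
    show g.1 * n.1 * (γ⁻¹).1 = _
    rw [hγ, he]
  have hmem := hn.conj_mem n hn' γ
  rw [hN] at hmem
  obtain ⟨m, hm⟩ := mem_zpowers_iff.1 hmem
  rw [← zpow_mod_orderOf, ho] at hm
  rcases (show m % 3 = 0 ∨ m % 3 = 1 ∨ m % 3 = 2 by omega) with e | e | e <;> norm_num [e] at hm
  · exact hn1 (conj_eq_one_iff.1 hm.symm)
  · exact h1 (by rw [← hconj, ← hm, he])
  · refine h2 (by rw [← hconj, ← hm, pow_two, ← he]; rfl)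

variable {G : Type u} [Group G] [Finite G] (L : Local G)

theorem normal_KK : ((KK L).subgroupOf (L.normC (KK L))).Normal :=
  normal_subgroupOf_of_le_normalizer inf_le_left

theorem czt_inf_KK {g : G} (hg : g ∈ czt L) (hK : g ∈ KK L) : g ∈ L.R := by
  refine max3 L (KK L ⊓ czt L) inf_le_right ?_ ?_ ⟨hK, hg⟩
  · exact (Nat.Coprime.pow_left 9 (by norm_num : Nat.Coprime 2 3)).coprime_dvd_left
      ((four_KK L).2.1 ▸ card_dvd_of_le inf_le_left)
  · intro y hy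
    rw [mem_normalizer_iff]
    intro w
    refine and_congr (mem_normalizer_iff.1 (jt_local L hy).1 w) ?_
    constructor <;> intro hw
    · exact (czt L).mul_mem ((czt L).mul_mem (jt_le_czt L hy) hw) ((czt L).inv_mem (jt_le_czt L hy))
    · have := (czt L).mul_mem ((czt L).mul_mem ((czt L).inv_mem (jt_le_czt L hy)) hw) (jt_le_czt L hy)
      rwa [show y⁻¹ * (y * w * y⁻¹) * y = w by group] at this

theorem cop_three_KK {g : G} (hg : g ∈ KK L) (h3 : g ^ 3 = 1) : g = 1 :=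
  cop_eq_one h3 (cop_of_mem (X := KK L)
    (by rw [(four_KK L).2.1]; exact Nat.Coprime.pow_left 9 (by norm_num : Nat.Coprime 2 3)) hg)

/-- The classification of the quotient. -/
theorem quot : ∃ (_ : ((KK L).subgroupOf (L.normC (KK L))).Normal),
    Nonempty (↥(L.normC (KK L)) ⧸ (KK L).subgroupOf (L.normC (KK L)) ≃* MulAut (PSp 2 (ZMod 3))) ∨
      Nonempty (↥(L.normC (KK L)) ⧸ (KK L).subgroupOf (L.normC (KK L)) ≃*
        Matrix.symplecticGroup (Fin 3) (ZMod 2)) := by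
  classical
  have : Fact (Nat.Prime 3) := ⟨Nat.prime_three⟩
  have : Fact (Nat.Prime 2) := ⟨Nat.prime_two⟩
  refine ⟨normal_KK L, ?_⟩
  have hNK := normal_KK L
  set L0 := L.normC (KK L) with hL0
  set Kn := (KK L).subgroupOf L0 with hKn
  let mk : ↥L0 →* ↥L0 ⧸ Kn := QuotientGroup.mk' Kn
  have hmk1 : ∀ g : ↥L0, mk g = 1 ↔ (g : G) ∈ KK L := fun g => by
    show (QuotientGroup.mk g : ↥L0 ⧸ Kn) = 1 ↔ _
    rw [QuotientGroup.eq_one_iff, mem_subgroupOf]
  have hzL : L.z ∈ L0 := jt_local L (z_mem L)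
  set zL : ↥L0 := ⟨L.z, hzL⟩ with hzLdef
  set zb := mk zL with hzb
  have hz3 : L.z ^ 3 = 1 := L.oz ▸ pow_orderOf_eq_one L.z
  have hzb3 : zb ^ 3 = 1 := by
    rw [hzb, ← map_pow, ← map_one mk]
    exact congrArg mk (Subtype.ext hz3)
  have hz1 : L.z ≠ 1 := fun e => by
    have := L.oz
    rw [e, orderOf_one] at this
    norm_num at this
  have hzb1 : zb ≠ 1 := fun e => hz1 (cop_three_KK L ((hmk1 zL).1 e) hz3)
  have hozb : orderOf zb = 3 := orderOf_eq_prime hzb3 hzb1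
  -- the centralizer of the image
  set C := centralizer ({zb} : Set (↥L0 ⧸ Kn)) with hC
  let φ : ↥(czt L) →* ↥C :=
    { toFun := fun g => ⟨mk ⟨g, czt_local L g.2⟩, mem_centralizer_singleton_iff.2 (by
        rw [hzb, ← map_mul, ← map_mul]
        exact congrArg mk (Subtype.ext (mem_centralizer_singleton_iff.1 g.2.2)))⟩
      map_one' := Subtype.ext (map_one mk)
      map_mul' := fun g h => Subtype.ext (map_mul mk ⟨g, czt_local L g.2⟩ ⟨h, czt_local L h.2⟩) }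
  have hφker : ∀ g : ↥(czt L), φ g = 1 ↔ (g : G) ∈ L.R := fun g => by
    rw [← Subtype.coe_inj]
    show mk _ = 1 ↔ _
    rw [hmk1]
    exact ⟨czt_inf_KK L g.2, fun h => RR_KK L 3 (RR_three L ▸ h)⟩
  have hφsurj : Function.Surjective φ := by
    rintro ⟨x, hx⟩
    obtain ⟨g, rfl⟩ := QuotientGroup.mk'_surjective Kn x
    have hc : mk g * zb = zb * mk g := mem_centralizer_singleton_iff.1 hx
    set M := KK L ⊔ zpowers L.z with hM
    have hzn : zpowers L.z ≤ normalizer (KK L : Set G) := zpowers_le.2 hzL.1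
    have hmem : ∀ m ∈ M, ∃ k ∈ KK L, ∃ i : ℤ, m = k * L.z ^ i := by
      intro m hm
      rw [hM, ← SetLike.mem_coe, Subgroup.coe_mul_of_right_le_normalizer_left _ _ hzn] at hm
      obtain ⟨k, hk, w, hw, rfl⟩ := hm
      obtain ⟨i, rfl⟩ := mem_zpowers_iff.1 hw
      exact ⟨k, hk, i, rfl⟩
    have hML : M ≤ L0 := sup_le (KK_local L) (zpowers_le.2 hzL)
    set w := (g : G) * L.z * (g : G)⁻¹ with hw
    have hwM : w ∈ M := by
      have h1 : (g * zL * g⁻¹ * zL⁻¹ : ↥L0).1 ∈ KK L := (hmk1 _).1 (by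
        rw [map_mul, map_mul, map_mul, map_inv, map_inv, ← hzb, hc, mul_inv_cancel_right, mul_inv_cancel])
      have := mul_mem (le_sup_left (b := zpowers L.z) h1) (le_sup_right (a := KK L) (mem_zpowers L.z))
      simp only [Subgroup.coe_mul, InvMemClass.coe_inv, hzLdef, inv_mul_cancel_right] at this
      exact this
    have hMK : (KK L).subgroupOf M |>.Normal := normal_subgroupOf_of_le_normalizer (sup_le le_normalizer hzn)
    have hcardM : Nat.card ↥M = 3 * 2 ^ 9 := by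
      refine Nat.dvd_antisymm ?_ ?_
      · have h1 := ((KK L).subgroupOf M).card_eq_card_quotient_mul_card_subgroup
        rw [Nat.card_congr (subgroupOfEquivOfLe (le_sup_left : KK L ≤ M)).toEquiv, (four_KK L).2.1] at h1
        rw [h1]
        refine Nat.mul_dvd_mul_right ?_ _
        let ψ : ↥(zpowers L.z) →* ↥M ⧸ (KK L).subgroupOf M :=
          (QuotientGroup.mk' _).comp (inclusion le_sup_right)
        have hψ : Function.Surjective ψ := by
          intro q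
          obtain ⟨⟨m, hm⟩, rfl⟩ := QuotientGroup.mk'_surjective _ q
          obtain ⟨k, hk, i, rfl⟩ := hmem m hm
          refine ⟨⟨L.z ^ i, zpow_mem (mem_zpowers _) i⟩, QuotientGroup.eq.2 ?_⟩
          rw [mem_subgroupOf]
          show (L.z ^ i)⁻¹ * (k * L.z ^ i) ∈ KK L
          have := (mem_normalizer_iff.1 (inv_mem (hzn (zpow_mem (mem_zpowers _) i))) k).1 hk
          rwa [inv_inv, mul_assoc] at this
        have := Subgroup.card_dvd_of_surjective ψ hψ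
        rwa [Nat.card_zpowers, L.oz] at this
      · exact Nat.Coprime.mul_dvd_of_dvd_of_dvd (by norm_num)
          (by rw [← L.oz, ← Nat.card_zpowers]; exact card_dvd_of_le le_sup_right)
          ((four_KK L).2.1 ▸ card_dvd_of_le le_sup_left)
    have hpow : 3 ^ (Nat.card ↥M).factorization 3 = 3 := by
      rw [hcardM, Nat.factorization_mul (by norm_num) (by norm_num), Nat.Prime.factorization_pow Nat.prime_two,
        Nat.Prime.factorization Nat.prime_three]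
      simp
    have how : orderOf w = 3 := by rw [hw, show (g : G) * L.z * (g : G)⁻¹ = MulAut.conj (g : G) L.z from rfl, MulEquiv.orderOf_eq, L.oz]
    let S1 : Sylow 3 ↥M := Sylow.ofCard (zpowers ⟨w, hwM⟩) (by rw [hpow, Nat.card_zpowers, orderOf_mk, how])
    let S2 : Sylow 3 ↥M := Sylow.ofCard (zpowers ⟨L.z, le_sup_right (a := KK L) (mem_zpowers L.z)⟩) (by
      rw [hpow, Nat.card_zpowers, orderOf_mk, L.oz])
    obtain ⟨⟨m, hm⟩, hp⟩ := MulAction.exists_smul_eq ↥M S1 S2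
    have h1 : (⟨m, hm⟩ : ↥M) * ⟨w, hwM⟩ * ⟨m, hm⟩⁻¹ ∈ (S2 : Subgroup ↥M) := by
      rw [← hp]
      exact Subgroup.smul_mem_pointwise_smul (⟨w, hwM⟩ : ↥M) (MulAut.conj (⟨m, hm⟩ : ↥M)) _ (mem_zpowers _)
    obtain ⟨i, hi⟩ := mem_zpowers_iff.1 h1
    have hmw : m * w * m⁻¹ = L.z ^ i := by
      have := congrArg Subtype.val hi
      simpa using this.symm
    obtain ⟨k, hk, j, hmk⟩ := hmem m hm
    have hmL : m ∈ L0 := hML hm
    have hq : mk ⟨m, hmL⟩ = zb ^ j := by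
      rw [hzb, ← map_zpow]
      refine QuotientGroup.eq.2 ?_
      rw [mem_subgroupOf]
      show m⁻¹ * ((zL ^ j : ↥L0) : G) ∈ KK L
      rw [SubgroupClass.coe_zpow, hmk, mul_inv_rev]
      have hzj := hzn (zpow_mem (mem_zpowers L.z) j)
      have := (mem_normalizer_iff.1 (inv_mem hzj) _).1 (inv_mem hk)
      rwa [inv_inv] at this
    have hzi : L.z ^ i = L.z := by
      have h2 : zb ^ i = zb := by
        calc zb ^ i = mk (⟨m, hmL⟩ * (g * zL * g⁻¹) * ⟨m, hmL⟩⁻¹) := by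
              rw [hzb, ← map_zpow]
              exact congrArg mk (Subtype.ext (by simpa using hmw.symm))
          _ = zb ^ j * (mk g * zb * (mk g)⁻¹) * (zb ^ j)⁻¹ := by
              rw [map_mul, map_mul, map_mul, map_mul, map_inv, map_inv, hq]
          _ = zb := by rw [hc, mul_inv_cancel_right, (Commute.zpow_self zb j).eq, mul_inv_cancel_right]
      have h3 : zb ^ (i - 1) = 1 := by rw [zpow_sub_one, h2, mul_inv_cancel]
      rw [← orderOf_dvd_iff_zpow_eq_one, hozb, ← L.oz, orderOf_dvd_iff_zpow_eq_one, zpow_sub_one,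
        mul_inv_eq_one] at h3
      exact h3
    have hmgC : m * (g : G) ∈ czt L := by
      refine ⟨(ct L.t).mul_mem hmL.2 g.2.2, mem_centralizer_singleton_iff.2 (mul_inv_eq_iff_eq_mul.1 ?_)⟩
      calc m * (g : G) * L.z * (m * (g : G))⁻¹ = m * w * m⁻¹ := by rw [hw]; group
        _ = L.z := by rw [hmw, hzi]
    refine ⟨⟨L.z, EE_le L (z_EE L)⟩ ^ (-j) * ⟨m * g, hmgC⟩, Subtype.ext ?_⟩
    rw [map_mul, map_zpow]
    show zb ^ (-j) * mk ⟨m * g, _⟩ = mk g
    rw [show (⟨m * g, czt_local L hmgC⟩ : ↥L0) = ⟨m, hmL⟩ * g from rfl, map_mul, hq, ← mul_assoc, ← zpow_add,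
      neg_add_cancel, zpow_zero, one_mul]
  -- the largest normal 3-subgroup
  let ι : ↥(EE L) →* ↥(czt L) := inclusion (EE_le L)
  have hιinj : Function.Injective (φ.comp ι) := by
    rw [← MonoidHom.ker_eq_bot_iff, eq_bot_iff]
    intro e he
    have h1 : (e : G) ∈ L.R := (hφker (ι e)).1 he
    exact mem_bot.2 (Subtype.ext (cop_three_KK L (RR_KK L 3 (RR_three L ▸ h1)) (L.cubeQ _ e.2.1)))
  set Eb : Subgroup ↥C := (φ.comp ι).range with hEb
  have hEbn : Eb.Normal := by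
    refine ⟨?_⟩
    rintro _ ⟨e, rfl⟩ d
    obtain ⟨c, rfl⟩ := hφsurj d
    exact ⟨⟨(c : G) * e * (c : G)⁻¹, conj_EE L c.2 e.2⟩, by
      show φ _ = φ c * φ (ι e) * (φ c)⁻¹
      rw [← map_inv, ← map_mul, ← map_mul]
      rfl⟩
  have hEbcard : Nat.card ↥Eb = 27 := by
    rw [← Nat.card_congr (MonoidHom.ofInjective hιinj).toEquiv, L.cardE]
  obtain ⟨f, hf, hfk⟩ := L.projZT
  let f' : ↥(czt L) →* Matrix.SpecialLinearGroup (Fin 2) (ZMod 3) :=
    f.comp (inclusion (le_of_eq (czt_eq L).symm))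
  have hf' : Function.Surjective f' := fun x => by
    obtain ⟨y, hy⟩ := hf x
    exact ⟨⟨y, (czt_eq L).le y.2⟩, hy⟩
  let mkE : ↥C →* ↥C ⧸ Eb := QuotientGroup.mk' Eb
  let ψ : ↥(czt L) →* ↥C ⧸ Eb := mkE.comp φ
  have hψker : ψ.ker = f'.ker := by
    ext g
    rw [MonoidHom.mem_ker, MonoidHom.mem_ker]
    show (QuotientGroup.mk (φ g) : ↥C ⧸ Eb) = 1 ↔ f _ = 1
    rw [QuotientGroup.eq_one_iff, hfk]
    show φ g ∈ Eb ↔ (g : G) ∈ L.R ⊔ EE L
    constructor
    · rintro ⟨e, he⟩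
      have h1 := (hφker (g * (ι e)⁻¹)).1 (by rw [map_mul, map_inv, ← he]; exact mul_inv_cancel _)
      have := mul_mem (le_sup_left (b := EE L) h1) (le_sup_right (a := L.R) e.2)
      simpa [ι] using this
    · intro hg
      rw [← SetLike.mem_coe, Subgroup.coe_mul_of_right_le_normalizer_left _ _ ((EE_le L).trans (R_norm L))] at hg
      obtain ⟨r, hr, e, he, hre⟩ := hg
      refine ⟨⟨e, he⟩, ?_⟩
      have h1 : g = ⟨r, R_le L hr⟩ * ι ⟨e, he⟩ := Subtype.ext hre.symm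
      show φ _ = φ g
      rw [h1, map_mul, (hφker ⟨r, R_le L hr⟩).2 hr, one_mul]
  let eSL : ↥C ⧸ Eb ≃* Matrix.SpecialLinearGroup (Fin 2) (ZMod 3) :=
    (QuotientGroup.quotientKerEquivOfSurjective ψ ((QuotientGroup.mk'_surjective Eb).comp hφsurj)).symm.trans
      ((QuotientGroup.quotientMulEquivOfEq hψker).trans (QuotientGroup.quotientKerEquivOfSurjective f' hf'))
  have hEbp : IsPGroup 3 ↥Eb := IsPGroup.of_card (n := 3) (by rw [hEbcard]; rfl)
  have hcore : pCore 3 ↥C = Eb := by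
    refine le_antisymm (sSup_le ?_) (le_sSup ⟨hEbn, hEbp⟩)
    rintro N ⟨hNn, hN3⟩
    have hbot := sl_three (N.map (eSL.toMonoidHom.comp mkE))
      (hNn.map _ (eSL.surjective.comp (QuotientGroup.mk'_surjective Eb))) (hN3.map _)
    intro x hx
    have h1 : eSL (mkE x) ∈ N.map (eSL.toMonoidHom.comp mkE) := ⟨x, hx, rfl⟩
    rw [hbot, mem_bot, map_eq_one_iff _ eSL.injective] at h1
    exact (QuotientGroup.eq_one_iff x).1 h1
  have hext : IsExtraspecial 3 ↥(pCore 3 ↥C) := by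
    rw [hcore]
    obtain ⟨f₀, hf₀, hnc⟩ : ∃ f₀ ∈ EE L, ¬ Commute (L.j 0 1) f₀ := by
      by_contra hh
      push Not at hh
      exact a_notZ L (L.centreE _ (a_EE L) hh)
    refine MaxClassNormal.isExtraspecial_of_card hEbcard
      ⟨(φ.comp ι).rangeRestrict ⟨_, a_EE L⟩, (φ.comp ι).rangeRestrict ⟨f₀, hf₀⟩, fun h => hnc ?_⟩
    rw [← map_mul, ← map_mul] at h
    exact congrArg Subtype.val ((MonoidHom.rangeRestrict_injective_iff.2 hιinj) h)
  let eq1 : ↥C ⧸ pCore 3 ↥C ≃* Matrix.SpecialLinearGroup (Fin 2) (ZMod 3) := by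
    haveI : (pCore 3 ↥C).Normal := hcore ▸ hEbn
    exact (QuotientGroup.quotientMulEquivOfEq hcore).trans eSL
  -- the elementary group of order 27
  let ρ : ↥(jt L.frame L.t) →* ↥L0 ⧸ Kn := mk.comp (inclusion (jt_local L))
  have hρinj : Function.Injective ρ := by
    rw [← MonoidHom.ker_eq_bot_iff, eq_bot_iff]
    intro y hy
    exact mem_bot.2 (Subtype.ext (cop_three_KK L ((hmk1 _).1 hy) (by
      rw [pow_succ, pow_two, J_cube (Φ := L.frame) y.2.1])))
  have hρeq : ∀ y : G, ∀ hy : y ∈ jt L.frame L.t, ρ ⟨y, hy⟩ = mk ⟨y, jt_local L hy⟩ := fun _ _ => rfl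
  set J := ρ.range with hJ
  have hJC : J ≤ C := by
    rintro _ ⟨⟨y, hy⟩, rfl⟩
    rw [mem_centralizer_singleton_iff, hρeq, hzb, ← map_mul, ← map_mul]
    exact congrArg mk (Subtype.ext (jt_comm L hy (z_mem L)).eq)
  have hJcomm : IsMulCommutative ↥J := ⟨⟨by
    rintro ⟨_, y, rfl⟩ ⟨_, w, rfl⟩
    refine Subtype.ext ?_
    show ρ y * ρ w = ρ w * ρ y
    rw [← map_mul, ← map_mul]
    exact congrArg ρ (Subtype.ext (jt_comm L y.2 w.2).eq)⟩⟩
  have hJsig : ∀ K' : Subgroup (↥L0 ⧸ Kn), (Nat.card ↥K').Coprime 3 →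
      (∀ j ∈ J, K'.map (MulAut.conj j).toMonoidHom = K') → K' = ⊥ := by
    intro K' hcop hn
    set X := (K'.comap mk).map L0.subtype with hX
    have hcard : Nat.card ↥X = Nat.card ↥K' * 2 ^ 9 := by
      rw [hX, card_map_of_injective L0.subtype_injective]
      have h1 := (Kn.subgroupOf (K'.comap mk)).card_eq_card_quotient_mul_card_subgroup
      have hle : Kn ≤ K'.comap mk := fun x hx => by
        rw [mem_comap, (hmk1 x).2 (mem_subgroupOf.1 hx)]
        exact one_mem _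
      have hK9 : Nat.card ↥Kn = 2 ^ 9 :=
        (Nat.card_congr (subgroupOfEquivOfLe (KK_local L)).toEquiv).trans (four_KK L).2.1
      rw [Nat.card_congr (subgroupOfEquivOfLe hle).toEquiv, hK9] at h1
      rw [h1]
      congr 1
      let mk' : ↥(K'.comap mk) →* ↥K' :=
        { toFun := fun x => ⟨mk x.1, x.2⟩
          map_one' := Subtype.ext (map_one mk)
          map_mul' := fun a b => Subtype.ext (map_mul mk _ _) }
      have hs : Function.Surjective mk' := by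
        rintro ⟨x, hx⟩
        obtain ⟨g, rfl⟩ := QuotientGroup.mk'_surjective Kn x
        exact ⟨⟨g, hx⟩, rfl⟩
      have hk : mk'.ker = Kn.subgroupOf (K'.comap mk) := by
        ext x
        rw [MonoidHom.mem_ker, ← Subtype.coe_inj, mem_subgroupOf]
        exact QuotientGroup.eq_one_iff x.1
      rw [← hk]
      exact Nat.card_congr (QuotientGroup.quotientKerEquivOfSurjective mk' hs).toEquiv
    have hXK : X ≤ KK L := by
      refine sigK L X (fun x ⟨g, _, hgx⟩ => hgx ▸ g.2.2) ?_ fun y hy => ?_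
      · rw [hcard]
        exact Nat.Coprime.mul_left hcop (Nat.Coprime.pow_left 9 (by norm_num : Nat.Coprime 2 3))
      · have key : ∀ y, ∀ hy : y ∈ jt L.frame L.t, ∀ x ∈ X, y * x * y⁻¹ ∈ X := by
          rintro y hy _ ⟨g, hg, rfl⟩
          refine ⟨⟨y, jt_local L hy⟩ * g * ⟨y, jt_local L hy⟩⁻¹, ?_, rfl⟩
          rw [SetLike.mem_coe, mem_comap, map_mul, map_mul, map_inv, ← hρeq y hy]
          have := hn _ ⟨⟨y, hy⟩, rfl⟩
          rw [← this]
          exact ⟨mk g, hg, rfl⟩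
        rw [mem_normalizer_iff]
        refine fun x => ⟨key y hy x, fun h => ?_⟩
        have := key y⁻¹ (inv_mem hy) _ h
        rwa [show y⁻¹ * (y * x * y⁻¹) * y⁻¹⁻¹ = x by group] at this
    rw [eq_bot_iff]
    intro x hx
    obtain ⟨g, rfl⟩ := QuotientGroup.mk'_surjective Kn x
    exact mem_bot.2 ((hmk1 g).2 (hXK ⟨g, hx, rfl⟩))
  have hmain := (S3342.result zb hozb C rfl hext (by rw [hcore, hEbcard])
    (fun r hr => by
      rw [hcore] at hr
      obtain ⟨e, rfl⟩ := hr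
      rw [← map_pow, show e ^ 3 = 1 from Subtype.ext (L.cubeQ _ e.2.1), map_one])
    eq1 J hJC hJcomm (by
      rintro _ ⟨y, rfl⟩
      rw [← map_pow, show y ^ 3 = 1 from Subtype.ext (by
        show (y : G) ^ 3 = 1
        rw [pow_succ, pow_two, J_cube (Φ := L.frame) y.2.1]), map_one])
    (by rw [hJ, ← Nat.card_congr (MonoidHom.ofInjective hρinj).toEquiv, card_jt]) hJsig
    (ZMod 3) (ZMod.card 3) (ZMod 2) (ZMod.card 2)).2
  obtain ⟨n, hn, hneg⟩ := exists_neg L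
  have hinv : ∃ g : ↥L0 ⧸ Kn, g * zb * g⁻¹ = zb⁻¹ := by
    refine ⟨mk ⟨n, njt_local L hn⟩, ?_⟩
    rw [hzb, ← map_inv, ← map_inv, ← map_mul, ← map_mul]
    exact congrArg mk (Subtype.ext (hneg _ (z_mem L).1))
  refine (hmain hinv).resolve_left fun htop => ?_
  obtain ⟨n, hn, hσ⟩ := exists_perm L (Equiv.swap 3 0)
  have hmem : mk ⟨n, njt_local L hn⟩ ∈ normalizer (zpowers zb : Set (↥L0 ⧸ Kn)) := htop ▸ mem_top _
  have h1 : mk ⟨n, njt_local L hn⟩ * zb * (mk ⟨n, njt_local L hn⟩)⁻¹ ∈ zpowers zb :=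
    (mem_normalizer_iff.1 hmem zb).1 (mem_zpowers _)
  obtain ⟨i, hi⟩ := mem_zpowers_iff.1 h1
  rw [hzb, ← map_inv, ← map_mul, ← map_mul, ← map_zpow] at hi
  have h2 := (hmk1 (zL ^ (-i) * (⟨n, njt_local L hn⟩ * zL * ⟨n, njt_local L hn⟩⁻¹))).1 (by
    rw [map_mul, ← hi, ← map_mul, ← zpow_add, neg_add_cancel, zpow_zero, map_one])
  simp only [Subgroup.coe_mul, SubgroupClass.coe_zpow, InvMemClass.coe_inv, hzLdef] at h2
  have hnzj : n * L.z * n⁻¹ = psi L (-pv 0) := by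
    have e : L.z = (psi L (pv 3))⁻¹ := by rw [← pt_eq, pt_three, inv_inv]
    conv_lhs => rw [e, ← conj_inv, hσ, Equiv.swap_apply_left]
    rw [psi_neg]
  rw [hnzj] at h2
  have h3 : L.z ^ (-i) * psi L (-pv 0) = 1 := by
    refine cop_three_KK L h2 ?_
    have hj : L.z ^ (-i) * psi L (-pv 0) ∈ jt L.frame L.t := mul_mem (zpow_mem (z_mem L) _) (psi_mem L _)
    rw [pow_succ, pow_two, J_cube (Φ := L.frame) hj.1]
  rw [← zpow_mod_orderOf, L.oz, Nat.cast_ofNat] at h3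
  rcases (show -i % 3 = 0 ∨ -i % 3 = 1 ∨ -i % 3 = 2 by omega) with e | e | e <;> rw [e] at h3
  · rw [zpow_zero, one_mul, ← psi_zero L] at h3
    exact absurd (psi_inj L h3) swap_not_z.1
  · rw [zpow_one, z_eq, ← psi_add, ← psi_zero L] at h3
    exact absurd (psi_inj L h3) swap_not_z.2.1
  · rw [zpow_two, z_eq, ← psi_add, ← psi_add, ← psi_zero L] at h3
    exact absurd (psi_inj L h3) swap_not_z.2.2

end Cfsg.Agent.CoTwoThree.B
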