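import Cfsg.Agent.CoTwoThree.B.Types

/-!
Elements of order three of the normalizer with a fixed point on the product modulo `t` fix only one
coset.
-/

set_option autoImplicit false
set_option linter.unusedSectionVars false

open Subgroup Cfsg
open Cfsg.Agent.U62Three.K (Cover pt root ct jt frame_commute j_mem J_cube)

namespace Cfsg.Agent.CoTwoThree.B

universe u

theorem lin_sum : ∀ σ : Equiv.Perm (Fin 4), σ 3 = 3 → σ ≠ 1 → σ * σ * σ = 1 → ∀ x : V3,
    lin (pv (σ (σ 0))) (pv (σ (σ 1))) (pv (σ (σ 2))) x + lin (pv (σ 0)) (pv (σ 1)) (pv (σ 2)) x + x =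
      (sumV x).val • (1, 1, 1) := by
  decide +kernel

theorem lin_fix : ∀ σ : Equiv.Perm (Fin 4), σ 3 = 3 → σ ≠ 1 → σ * σ * σ = 1 → ∀ x : V3,
    lin (pv (σ 0)) (pv (σ 1)) (pv (σ 2)) x = x → sumV x = 0 := by
  decide +kernel

variable {G : Type u} [Group G] [Finite G] (L : Local G)

/-- The Sylow three-subgroup `E π`. -/
abbrev SS : Subgroup G := EE L ⊔ jt L.frame L.t

theorem jt_norm_EE : jt L.frame L.t ≤ normalizer (EE L : Set G) := by
  intro y hy
  rw [mem_normalizer_iff]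
  refine fun e => ⟨conj_EE L (jt_le_czt L hy), fun h => ?_⟩
  have := conj_EE L (inv_mem (jt_le_czt L hy)) h
  rwa [show y⁻¹ * (y * e * y⁻¹) * y⁻¹⁻¹ = e by group] at this

theorem SS_le : SS L ≤ czt L := sup_le (EE_le L) (jt_le_czt L)

theorem SS_dec {s : G} (hs : s ∈ SS L) : ∃ f ∈ EE L, ∃ y ∈ jt L.frame L.t, s = f * y := by
  rw [← SetLike.mem_coe, Subgroup.coe_mul_of_right_le_normalizer_left _ _ (jt_norm_EE L)] at hs
  obtain ⟨f, hf, y, hy, rfl⟩ := hs
  exact ⟨f, hf, y, hy, rfl⟩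

theorem SS_three : IsPGroup 3 ↥(SS L) :=
  (IsPGroup.of_card (n := 3) (by rw [L.cardE]; rfl)).to_sup_of_normal_left'
    (IsPGroup.of_card (n := 3) (by rw [card_jt]; rfl)) (jt_norm_EE L)

theorem exists_off : ∃ f ∈ EE L, f ∉ jt L.frame L.t := by
  by_contra h
  push Not at h
  refine a_notZ L (L.centreE _ (a_EE L) fun f hf => ?_)
  exact jt_comm L (a_jt L) (h f hf)

theorem card_SS : 81 ≤ Nat.card ↥(SS L) := by
  have : Fact (Nat.Prime 3) := ⟨Nat.prime_three⟩
  obtain ⟨k, hk⟩ := IsPGroup.iff_card.1 (SS_three L)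
  obtain ⟨f, hf, hout⟩ := exists_off L
  have h27 : 3 ^ 3 ∣ 3 ^ k := by
    rw [← hk, show (3 ^ 3 : ℕ) = 27 by norm_num, ← card_jt L]
    exact card_dvd_of_le le_sup_right
  have h3 := (Nat.pow_dvd_pow_iff_le_right (by norm_num : 1 < 3)).1 h27
  have hne : k ≠ 3 := by
    rintro rfl
    refine hout ?_
    have h := eq_of_le_of_card_ge (le_sup_right : jt L.frame L.t ≤ SS L) (by rw [hk, card_jt]; norm_num)
    exact h ▸ le_sup_left (b := jt L.frame L.t) hf
  rw [hk, show (81 : ℕ) = 3 ^ 4 by norm_num]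
  exact Nat.pow_le_pow_right (by norm_num) (by omega)

/-- A subgroup of three-power order of `C(z, t)` containing `E π` is equal to it. -/
theorem SS_max {P : Subgroup G} (hP : P ≤ czt L) (h3 : IsPGroup 3 ↥P) (hle : SS L ≤ P) : P = SS L := by
  have : Fact (Nat.Prime 3) := ⟨Nat.prime_three⟩
  refine (eq_of_le_of_card_ge hle ((le_trans ?_ (card_SS L)))).symm
  obtain ⟨k, hk⟩ := IsPGroup.iff_card.1 h3
  have hd : 3 ^ k ∣ 5184 := by
    rw [← hk, ← L.cardZT, czt_eq]
    exact card_dvd_of_le hP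
  rw [hk, show (81 : ℕ) = 3 ^ 4 by norm_num]
  refine Nat.pow_le_pow_right (by norm_num) ?_
  by_contra h
  have : 3 ^ 5 ∣ 5184 := (pow_dvd_pow 3 (by omega)).trans hd
  norm_num at this

/-- The centre of `E π` is `⟨z⟩`. -/
theorem SS_centre {c : G} (hc : c ∈ SS L) (hall : ∀ s ∈ SS L, Commute c s) : c ∈ zpowers L.z := by
  obtain ⟨f, hf, y, hy, rfl⟩ := SS_dec L hc
  have hfa : Commute f (psi L av) := by
    have h1 := (hall _ (le_sup_right (a := EE L) (psi_mem L av))).mul_left (jt_comm L hy (psi_mem L av)).inv_left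
    rwa [mul_inv_cancel_right] at h1
  obtain ⟨x, hx⟩ := psi_surj L (mul_mem (EE_cent L hf hfa).2 hy)
  obtain ⟨e, he, hout⟩ := exists_off L
  obtain ⟨σ, hσ3, hσ1, hσc, -, hσ⟩ := EE_move L he hout
  have hfix : e * psi L x * e⁻¹ = psi L x := by
    rw [hx]
    exact mul_inv_eq_iff_eq_mul.2 (hall e (le_sup_left (b := jt L.frame L.t) he)).eq.symm
  rw [hom_on L (hσ 0) (hσ 1) (hσ 2) x] at hfix
  have hs := lin_fix σ hσ3 hσ1 hσc x (psi_inj L hfix)
  rw [← hx]
  refine L.centreE _ (psi_EE L hs) fun g hg => ?_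
  rw [hx]
  exact hall g (le_sup_left (b := jt L.frame L.t) hg)

/-- An element of order three of `E π` is conjugate in `C(z, t)` into `π`. -/
theorem SS_elem {s : G} (hs : s ∈ SS L) (h3 : s * s * s = 1) :
    ∃ c ∈ czt L, c * s * c⁻¹ ∈ jt L.frame L.t := by
  obtain ⟨f, hf, y, hy, rfl⟩ := SS_dec L hs
  obtain ⟨x, rfl⟩ := psi_surj L hy
  by_cases hx : sumV x = 0
  · have he : f * psi L x ∈ EE L := mul_mem hf (psi_EE L hx)
    by_cases hz : f * psi L x ∈ zpowers L.z
    · exact ⟨1, one_mem _, by simpa using zpowers_le.2 (z_mem L) hz⟩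
    obtain ⟨c, hc, w, hw, hce⟩ := L.transE _ he hz
    obtain ⟨g, hg, hge⟩ := EE_coset L he hz hw
    refine ⟨c⁻¹ * g, mul_mem (inv_mem ((czt_eq L).le hc)) (EE_le L hg), ?_⟩
    have : c⁻¹ * g * (f * psi L x) * (c⁻¹ * g)⁻¹ = L.j 0 1 := by
      calc c⁻¹ * g * (f * psi L x) * (c⁻¹ * g)⁻¹ = c⁻¹ * (g * (f * psi L x) * g⁻¹) * c := by group
        _ = L.j 0 1 := by rw [hge, ← hce]; group
    rw [this]
    exact a_jt L
  · by_cases hin : f ∈ jt L.frame L.t
    · exact ⟨1, one_mem _, by simpa using mul_mem hin (psi_mem L x)⟩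
    exfalso
    obtain ⟨σ, hσ3, hσ1, hσc, -, hσ⟩ := EE_move L hf hin
    set v := lin (pv (σ 0)) (pv (σ 1)) (pv (σ 2)) x
    have h1 : f * psi L x * f⁻¹ = psi L v := hom_on L (hσ 0) (hσ 1) (hσ 2) x
    have hσσ : ∀ i, f * f * psi L (pv i) * (f * f)⁻¹ = psi L (pv (σ (σ i))) := fun i => by
      rw [show f * f * psi L (pv i) * (f * f)⁻¹ = f * (f * psi L (pv i) * f⁻¹) * f⁻¹ by group, hσ, hσ]
    set w := lin (pv (σ (σ 0))) (pv (σ (σ 1))) (pv (σ (σ 2))) x
    have h2 : f * f * psi L x * (f * f)⁻¹ = psi L w := hom_on L (hσσ 0) (hσσ 1) (hσσ 2) x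
    have hprod : f * psi L x * (f * psi L x) * (f * psi L x) = psi L v * psi L w * psi L x := by
      rw [← h1, ← h2]
      calc f * psi L x * (f * psi L x) * (f * psi L x)
          = f * psi L x * f⁻¹ * (f * f * psi L x * (f * f)⁻¹) * ((f * f * f) * psi L x) := by group
        _ = f * psi L x * f⁻¹ * (f * f * psi L x * (f * f)⁻¹) * psi L x := by rw [EE_cube L hf, one_mul]
    rw [hprod, ← psi_add, ← psi_add, add_comm v w, lin_sum σ hσ3 hσ1 hσc x, ← psi_zero L] at h3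
    have key : ∀ d : ZMod 3, d.val • ((1, 1, 1) : V3) = 0 → d = 0 := by decide +kernel
    exact hx (key _ (psi_inj L h3))

/-- Every element of order three of the normalizer is conjugate into `π`. -/
theorem three_conj {e : G} (he : e ∈ L.normC (KK L)) (h3 : e * e * e = 1) :
    ∃ c ∈ L.normC (KK L), c * e * c⁻¹ ∈ jt L.frame L.t := by
  classical
  have : Fact (Nat.Prime 3) := ⟨Nat.prime_three⟩
  set N := L.normC (KK L) with hN
  have hSN : SS L ≤ N := fun s hs => czt_local L (SS_le L hs)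
  obtain ⟨P, hP⟩ := (SS_three L).of_equiv (subgroupOfEquivOfLe hSN).symm |>.exists_le_sylow
  have hPS : (P : Subgroup ↥N) = (SS L).subgroupOf N := by
    by_contra hne
    have hlt : (SS L).subgroupOf N < P := lt_of_le_of_ne hP (Ne.symm hne)
    have hnil := P.2.isNilpotent
    have hlt' : ((SS L).subgroupOf N).subgroupOf (P : Subgroup ↥N) < ⊤ := by
      rw [lt_top_iff_ne_top]
      exact fun htop => not_le_of_gt hlt (subgroupOf_eq_top.1 htop)
    obtain ⟨p, hp, hpS⟩ := SetLike.exists_of_lt (Group.normalizerCondition_of_isNilpotent _ hlt')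
    have hpn : ∀ s ∈ SS L, ((p : ↥N) : G) * s * ((p : ↥N) : G)⁻¹ ∈ SS L := by
      intro s hs
      exact (mem_normalizer_iff.1 hp ⟨⟨s, hSN hs⟩, hP (mem_subgroupOf.2 hs)⟩).1 hs
    have hpn' : ∀ s ∈ SS L, ((p : ↥N) : G)⁻¹ * s * ((p : ↥N) : G) ∈ SS L := by
      intro s hs
      have h := (mem_normalizer_iff.1 (inv_mem hp) ⟨⟨s, hSN hs⟩, hP (mem_subgroupOf.2 hs)⟩).1 hs
      have h' : ((p : ↥N) : G)⁻¹ * s * ((p : ↥N) : G)⁻¹⁻¹ ∈ SS L :=
        mem_subgroupOf.1 (mem_subgroupOf.1 h)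
      rwa [inv_inv] at h'
    set g := ((p : ↥N) : G) with hg
    obtain ⟨m, hm⟩ := P.2 p
    have hgm : g ^ 3 ^ m = 1 := congrArg (fun u : ↥(P : Subgroup ↥N) => ((u : ↥N) : G)) hm
    have hzS : L.z ∈ SS L := le_sup_left (b := jt L.frame L.t) (z_EE L)
    have hzc : g * L.z * g⁻¹ ∈ zpowers L.z := by
      refine SS_centre L (hpn _ hzS) fun s hs => ?_
      have h1 : Commute L.z (g⁻¹ * s * g) :=
        (mem_centralizer_singleton_iff.1 (SS_le L (hpn' s hs)).2).symm
      have h2 := h1.map (MulAut.conj g)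
      simp only [MulAut.conj_apply] at h2
      rwa [show g * (g⁻¹ * s * g) * g⁻¹ = s by group] at h2
    have hz3 : L.z * L.z * L.z = 1 := EE_cube L (z_EE L)
    have hg2 : Commute (g * g) L.z := by
      obtain ⟨i, hi⟩ := mem_zpowers_iff.1 hzc
      refine mul_inv_eq_iff_eq_mul.1 ?_
      rw [← zpow_mod_orderOf, L.oz] at hi
      rcases (show i % 3 = 0 ∨ i % 3 = 1 ∨ i % 3 = 2 by omega) with e | e | e <;>
        simp only [Nat.cast_ofNat, e] at hi
      · rw [zpow_zero] at hi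
        have := L.oz
        rw [conj_eq_one_iff.1 hi.symm, orderOf_one] at this
        norm_num at this
      · rw [zpow_one] at hi
        calc g * g * L.z * (g * g)⁻¹ = g * (g * L.z * g⁻¹) * g⁻¹ := by group
          _ = L.z := by rw [← hi, ← hi]
      · rw [zpow_two] at hi
        calc g * g * L.z * (g * g)⁻¹ = g * (g * L.z * g⁻¹) * g⁻¹ := by group
          _ = g * (L.z * L.z) * g⁻¹ := by rw [hi]
          _ = g * L.z * g⁻¹ * (g * L.z * g⁻¹) := by group
          _ = L.z * L.z * L.z * L.z := by rw [← hi]; group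
          _ = L.z := by rw [hz3, one_mul]
    have hgz : g ∈ czt L := by
      refine ⟨((p : ↥N)).2.2, mem_centralizer_singleton_iff.2 ?_⟩
      obtain ⟨q, hq⟩ := (Odd.pow (n := m) (by decide : Odd 3))
      have e : g = ((g * g) ^ q)⁻¹ := by
        rw [eq_inv_iff_mul_eq_one, ← pow_two, ← pow_mul, ← pow_succ', ← hq, hgm]
      rw [e]
      exact ((hg2.pow_left q).inv_left).eq
    have hZn : zpowers g ≤ normalizer (SS L : Set G) := by
      rw [zpowers_le, mem_normalizer_iff]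
      refine fun s => ⟨hpn s, fun h => ?_⟩
      have := hpn' _ h
      rwa [show g⁻¹ * (g * s * g⁻¹) * g = s by group] at this
    have h3p : IsPGroup 3 ↥(SS L ⊔ zpowers g) := by
      refine (SS_three L).to_sup_of_normal_left' (IsPGroup.of_card_dvd_pow (n := m) ?_) hZn
      rw [Nat.card_zpowers]
      exact orderOf_dvd_of_pow_eq_one hgm
    have heq := SS_max L (sup_le (SS_le L) (zpowers_le.2 hgz)) h3p le_sup_left
    exact hpS (mem_subgroupOf.2 (mem_subgroupOf.2 (heq ▸ le_sup_right (a := SS L) (mem_zpowers g))))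
  obtain ⟨T, hT⟩ := (IsPGroup.of_card_dvd_pow (p := 3) (n := 1) (by
    rw [Nat.card_zpowers, pow_one]
    exact orderOf_dvd_of_pow_eq_one (Subtype.ext (by
      show e ^ 3 = 1
      rw [pow_succ, pow_two, h3]))) : IsPGroup 3 ↥(zpowers (⟨e, he⟩ : ↥N))).exists_le_sylow
  obtain ⟨d, hd⟩ := MulAction.exists_smul_eq ↥N T P
  have hmem : d * ⟨e, he⟩ * d⁻¹ ∈ (P : Subgroup ↥N) := by
    rw [← hd]
    exact Subgroup.smul_mem_pointwise_smul (⟨e, he⟩ : ↥N) (MulAut.conj d) _ (hT (mem_zpowers _))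
  rw [hPS, mem_subgroupOf] at hmem
  obtain ⟨c, hc, hcs⟩ := SS_elem L hmem (by
    show (d : G) * e * (d : G)⁻¹ * ((d : G) * e * (d : G)⁻¹) * ((d : G) * e * (d : G)⁻¹) = 1
    rw [conj_mul, conj_mul, h3]
    group)
  refine ⟨c * d, mul_mem (czt_local L hc) d.2, ?_⟩
  rwa [show c * (d : G) * e * (c * (d : G))⁻¹ = c * ((d * ⟨e, he⟩ * d⁻¹ : ↥N) : G) * c⁻¹ by
    simp only [Subgroup.coe_mul, InvMemClass.coe_inv]; group]

theorem av_eq : av = pv 0 - pv 1 := by decide

theorem jt_le_cat : jt L.frame L.t ≤ cat L :=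
  fun _ hy => ⟨hy.2, mem_centralizer_singleton_iff.2 (jt_comm L hy (psi_mem L av)).eq⟩

/-- `π` is a Sylow subgroup of the centralizer of a root in `C(t)`. -/
theorem jt_max {P : Subgroup G} (hP : P ≤ cat L) (h3 : IsPGroup 3 ↥P) (hle : jt L.frame L.t ≤ P) :
    P ≤ jt L.frame L.t := by
  classical
  have : Fact (Nat.Prime 3) := ⟨Nat.prime_three⟩
  by_contra hnle
  have hnil := h3.isNilpotent
  have hlt' : (jt L.frame L.t).subgroupOf P < ⊤ := by
    rw [lt_top_iff_ne_top]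
    exact fun htop => hnle (subgroupOf_eq_top.1 htop)
  obtain ⟨p, hp, hpS⟩ := SetLike.exists_of_lt (Group.normalizerCondition_of_isNilpotent _ hlt')
  have hpn : ∀ y ∈ jt L.frame L.t, (p : G) * y * (p : G)⁻¹ ∈ jt L.frame L.t := fun y hy =>
    (mem_normalizer_iff.1 hp ⟨y, hle hy⟩).1 hy
  obtain ⟨σ, hσ⟩ := signed L (hP p.2).1 hpn
  set g := (p : G) * (p : G) with hg
  have hav : (p : G) * psi L av * (p : G)⁻¹ = psi L av := by
    rw [show (p : G) * psi L av = psi L av * p from mem_centralizer_singleton_iff.1 (hP p.2).2,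
      mul_inv_cancel_right]
  have e01 : av = pv 0 - pv 1 := av_eq
  rw [e01, psi_sub, ← conj_mul, ← conj_inv] at hav
  have hfix : ∀ i, g * psi L (pv i) * g⁻¹ = psi L (pv i) := by
    have key : ∀ σ : Equiv.Perm (Fin 4), ((σ 0 = 0 ∧ σ 1 = 1) ∨ (σ 0 = 1 ∧ σ 1 = 0)) → ∀ i, σ (σ i) = i := by
      decide +kernel
    intro i
    rcases hσ with h | h
    · rw [h, h, ← psi_sub, ← psi_sub] at hav
      have h01 := (root_cases σ).1 ((psi_inj L hav).trans e01.symm)
      calc g * psi L (pv i) * g⁻¹ = (p : G) * ((p : G) * psi L (pv i) * (p : G)⁻¹) * (p : G)⁻¹ := by rw [hg]; group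
        _ = psi L (pv i) := by rw [h, h, key σ (Or.inl h01)]
    · rw [h, h, ← psi_sub, ← psi_sub] at hav
      have h01 := (root_cases σ).2 ((psi_inj L hav).trans e01.symm)
      calc g * psi L (pv i) * g⁻¹ = (p : G) * ((p : G) * psi L (pv i) * (p : G)⁻¹) * (p : G)⁻¹ := by rw [hg]; group
        _ = psi L (pv i) := by rw [h, psi_neg, ← conj_inv, h, psi_neg, inv_inv, key σ (Or.inr h01)]
  have hcom : ∀ y ∈ jt L.frame L.t, Commute g y := by
    intro y hy
    obtain ⟨x, rfl⟩ := psi_surj L hy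
    have h1 := hom_on L (hfix 0) (hfix 1) (hfix 2) x
    have e : ∀ x : V3, lin (pv 0) (pv 1) (pv 2) x = x := by decide +kernel
    rw [e] at h1
    exact mul_inv_eq_iff_eq_mul.1 h1
  obtain ⟨r, hr, y, hy, hge⟩ := cza L ⟨(ct L.t).mul_mem (hP p.2).1 (hP p.2).1,
    mem_centralizer_singleton_iff.2 (hcom _ (z_mem L)).eq⟩ (hcom _ (a_jt L))
  have hr2 : Commute (psi L (pv 2)) r := by
    have := (hcom _ (psi_mem L (pv 2))).mul_left (jt_comm L hy (psi_mem L _)).inv_left
    rw [show g = r * y from hge, mul_inv_cancel_right] at this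
    exact this.symm
  have hry : Commute r y := by
    rcases free3 L hr hr2 with e | e <;> rw [e]
    · exact Commute.one_left _
    · exact (mem_centralizer_singleton_iff.1 hy.2).symm
  have hg2 : g * g = y * y := by
    rw [show g = r * y from hge, hry.symm.mul_mul_mul_comm]
    rcases free3 L hr hr2 with e | e <;> rw [e]
    · rw [one_mul, one_mul]
    · rw [t_sq, one_mul]
  obtain ⟨m, hm⟩ := h3 p
  have hpm : (p : G) ^ 3 ^ m = 1 := congrArg (fun u : ↥P => (u : G)) hm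
  have h4 : (p : G) ^ 4 ∈ jt L.frame L.t := by
    rw [show (p : G) ^ 4 = g * g by rw [hg]; simp only [pow_succ, pow_zero, one_mul, mul_assoc], hg2]
    exact mul_mem hy hy
  obtain ⟨q, hq⟩ := exists_pow_eq_self_of_coprime (x := (p : G)) (n := 4)
    (Nat.Coprime.coprime_dvd_right (orderOf_dvd_of_pow_eq_one hpm) (Nat.Coprime.pow_right m (by norm_num)))
  exact hpS (mem_subgroupOf.2 (hq ▸ pow_mem h4 q))

/-- A root is not conjugate in `C(t)` to a sum of two points. -/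
theorem root_unfused {g : G} (hg : g ∈ ct L.t) {x : V3} (hx : IsB x) :
    g * psi L av * g⁻¹ ≠ psi L x := by
  classical
  intro h
  have : Fact (Nat.Prime 3) := ⟨Nat.prime_three⟩
  set P := (jt L.frame L.t).map (MulAut.conj g⁻¹).toMonoidHom with hPdef
  have hPc : P ≤ cat L := by
    rintro _ ⟨y, hy, rfl⟩
    simp only [MulEquiv.coe_toMonoidHom, MulAut.conj_apply, inv_inv]
    refine ⟨(ct L.t).mul_mem ((ct L.t).mul_mem ((ct L.t).inv_mem hg) hy.2) hg, mem_centralizer_singleton_iff.2 ?_⟩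
    have h1 := conj_commute_iff (c := g⁻¹) (jt_comm L hy (psi_mem L x))
    rw [inv_inv, show g⁻¹ * psi L x * g = psi L av by rw [← h]; group] at h1
    exact h1.eq
  have h27 : IsPGroup 3 ↥(jt L.frame L.t) := IsPGroup.of_card (n := 3) (by rw [card_jt]; rfl)
  obtain ⟨S1, hS1⟩ := (h27.map (MulAut.conj g⁻¹).toMonoidHom).of_equiv (subgroupOfEquivOfLe hPc).symm
    |>.exists_le_sylow
  obtain ⟨S2, hS2⟩ := h27.of_equiv (subgroupOfEquivOfLe (jt_le_cat L)).symm |>.exists_le_sylow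
  have hS2eq : (S2 : Subgroup ↥(cat L)).map (cat L).subtype ≤ jt L.frame L.t := by
    refine jt_max L (map_subtype_le _) (S2.2.map _) fun y hy => ?_
    exact ⟨⟨y, jt_le_cat L hy⟩, hS2 (mem_subgroupOf.2 hy), rfl⟩
  obtain ⟨d, hd⟩ := MulAction.exists_smul_eq ↥(cat L) S1 S2
  set n := (d : G) * g⁻¹ with hn
  have hnt : n ∈ ct L.t := (ct L.t).mul_mem d.2.1 ((ct L.t).inv_mem hg)
  have hmap : ∀ y ∈ jt L.frame L.t, n * y * n⁻¹ ∈ jt L.frame L.t := by
    intro y hy
    have hyP : g⁻¹ * y * g ∈ P := ⟨y, hy, by simp⟩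
    have h1 : d * ⟨_, hPc hyP⟩ * d⁻¹ ∈ (S2 : Subgroup ↥(cat L)) := by
      rw [← hd]
      exact Subgroup.smul_mem_pointwise_smul (⟨_, hPc hyP⟩ : ↥(cat L)) (MulAut.conj d) _
        (hS1 (mem_subgroupOf.2 hyP))
    have h2 := hS2eq ⟨_, h1, rfl⟩
    simp only [Subgroup.coe_subtype, Subgroup.coe_mul, InvMemClass.coe_inv] at h2
    rwa [hn, show (d : G) * g⁻¹ * y * ((d : G) * g⁻¹)⁻¹ = d * (g⁻¹ * y * g) * (d : G)⁻¹ by group]
  have hnb : n * psi L x * n⁻¹ = psi L av := by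
    have h1 : (d : G) * psi L av = psi L av * d := mem_centralizer_singleton_iff.1 d.2.2
    calc n * psi L x * n⁻¹ = (d : G) * (g⁻¹ * psi L x * g) * (d : G)⁻¹ := by rw [hn]; group
      _ = (d : G) * psi L av * (d : G)⁻¹ := by rw [← h]; group
      _ = psi L av := by rw [h1, mul_inv_cancel_right]
  obtain ⟨σ, hσ⟩ := signed L hnt hmap
  obtain ⟨i, k, hik, hx'⟩ := hx
  obtain ⟨h1, h2⟩ := b_not_rt σ i k hik
  have hneg : ∀ u v : G, n * (u * v) * n⁻¹ = (n * u * n⁻¹) * (n * v * n⁻¹) := fun u v => by group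
  rcases hσ with hs | hs <;> rcases hx' with rfl | rfl
  · rw [psi_add, hneg, hs, hs, ← psi_add] at hnb
    exact h1 (psi_inj L hnb)
  · rw [psi_neg, ← conj_inv, psi_add, hneg, hs, hs, ← psi_add, ← psi_neg] at hnb
    exact h2 (psi_inj L hnb)
  · rw [psi_add, hneg, hs, hs, ← psi_add, ← neg_add] at hnb
    exact h2 (psi_inj L hnb)
  · rw [psi_neg, ← conj_inv, psi_add, hneg, hs, hs, ← psi_add, ← psi_neg, ← neg_add, neg_neg] at hnb
    exact h1 (psi_inj L hnb)

theorem rt_av : IsRt av := ⟨0, 1, by decide, by decide⟩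

/-- **Rigidity.** -/
theorem rigid {e : G} (he : e ∈ L.normC (KK L)) (h3 : e ^ 3 = 1) (h1 : e ≠ 1)
    (hfix : ∃ k ∈ KK L, k ∉ zpowers L.t ∧ e * k * e⁻¹ * k⁻¹ ∈ zpowers L.t)
    {g : G} (hg : g ∈ ct L.t) (hge : g * e * g⁻¹ ∈ L.normC (KK L)) : g ∈ L.normC (KK L) := by
  set N := L.normC (KK L) with hN
  have hcube : ∀ w : G, w ^ 3 = w * w * w := fun w => by rw [pow_succ, pow_two]
  obtain ⟨k, hk, hkt, hek⟩ := hfix
  have hcomm : Commute e k := by
    refine comm_of_mod_t L (by rw [← hcube, h3]) (mem_centralizer_singleton_iff.1 he.2) ?_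
    have hkc : Commute k L.t := mem_centralizer_singleton_iff.1 (KK_le L hk)
    rcases zpow_t L hek with h | h
    · exact Or.inl (mul_inv_eq_one.1 h)
    · exact Or.inr (by rw [mul_inv_eq_iff_eq_mul] at h; rw [h, hkc.eq])
  obtain ⟨c, hc, hcπ⟩ := three_conj L he (by rw [← hcube, h3])
  obtain ⟨x, hx⟩ := psi_surj L hcπ
  have hx0 : x ≠ 0 := fun h => h1 (by
    rw [h, psi_zero] at hx
    exact conj_eq_one_iff.1 hx.symm)
  have hkind : IsPt x ∨ IsRt x := by
    rcases kinds x hx0 with h | h | h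
    · exact Or.inl h
    · exact Or.inr h
    · exfalso
      have hck : c * k * c⁻¹ ∈ KK L := (mem_normalizer_iff.1 hc.1 k).1 hk
      have hfp := fpf L h hck (by rw [hx]; exact hcomm.map (MulAut.conj c))
      refine hkt ?_
      obtain ⟨m, hm⟩ := mem_zpowers_iff.1 hfp
      have hct : Commute c L.t := mem_centralizer_singleton_iff.1 hc.2
      refine mem_zpowers_iff.2 ⟨m, ?_⟩
      calc L.t ^ m = c⁻¹ * (c * L.t ^ m) := by group
        _ = c⁻¹ * (L.t ^ m * c) := by rw [(hct.zpow_right m).eq]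
        _ = k := by rw [hm]; group
  obtain ⟨d, hd, hdπ⟩ := three_conj L hge (by rw [conj_mul, conj_mul, ← hcube, h3]; group)
  obtain ⟨y, hy⟩ := psi_surj L hdπ
  set h := d * g * c⁻¹ with hh
  have hht : h ∈ ct L.t := (ct L.t).mul_mem ((ct L.t).mul_mem hd.2 hg) ((ct L.t).inv_mem hc.2)
  have hhe : h * psi L x * h⁻¹ = psi L y := by rw [hx, hy, hh]; group
  have hmove : ∃ n ∈ njt L, n * psi L x * n⁻¹ = psi L y := by
    rcases hkind with hp | hr
    · obtain ⟨i, hi⟩ := psi_point L y ((isConj_of_pt L hp).trans (isConj_iff.2 ⟨h, hhe⟩))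
      exact move_pt L hp ⟨i, hi⟩
    · have hy0 : y ≠ 0 := fun e0 => (rt_not_pt x hr).2 (psi_inj L (by
        rw [e0, psi_zero] at hhe
        rw [psi_zero]
        exact conj_eq_one_iff.1 hhe))
      rcases kinds y hy0 with hp | hr' | hb
      · exfalso
        obtain ⟨i, hi⟩ := psi_point L x ((isConj_of_pt L hp).trans (isConj_iff.2 ⟨h, hhe⟩).symm)
        exact (rt_not_pt x hr).1 ⟨i, hi⟩
      · exact move_rt L hr hr'
      · exfalso
        obtain ⟨n, hn, hnx⟩ := move_rt L rt_av hr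
        refine root_unfused L ((ct L.t).mul_mem hht hn.2) hb ?_
        rw [show h * n * psi L av * (h * n)⁻¹ = h * (n * psi L av * n⁻¹) * h⁻¹ by group, hnx, hhe]
  obtain ⟨n, hn, hnx⟩ := hmove
  have hloc : n⁻¹ * h ∈ N := by
    refine kind_local L hkind ((ct L.t).mul_mem ((ct L.t).inv_mem hn.2) hht) (mul_inv_eq_iff_eq_mul.1 ?_)
    calc n⁻¹ * h * psi L x * (n⁻¹ * h)⁻¹ = n⁻¹ * (h * psi L x * h⁻¹) * n := by group
      _ = psi L x := by rw [hhe, ← hnx]; group
  have := mul_mem (mul_mem (inv_mem hd) (mul_mem (njt_local L hn) hloc)) hc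
  rwa [hh, show d⁻¹ * (n * (n⁻¹ * (d * g * c⁻¹))) * c = g by group] at this

/-- The elements of order three of the normalizer fix nothing together. -/
theorem free_KK {k : G} (hk : k ∈ KK L)
    (h : ∀ e ∈ L.normC (KK L), e ^ 3 = 1 → e * k * e⁻¹ * k⁻¹ ∈ zpowers L.t) : k ∈ zpowers L.t := by
  have hc : ∀ x : V3, Commute (psi L x) k := by
    intro x
    refine comm_of_mod_t L (psi_cube L x) (mem_centralizer_singleton_iff.1 (psi_mem L x).2) ?_
    have hkc : Commute k L.t := mem_centralizer_singleton_iff.1 (KK_le L hk)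
    rcases zpow_t L (h _ (jt_local L (psi_mem L x)) (by rw [pow_succ, pow_two, psi_cube])) with e | e
    · exact Or.inl (mul_inv_eq_one.1 e)
    · exact Or.inr (by rw [mul_inv_eq_iff_eq_mul] at e; rw [e, hkc.eq])
  have hz : k ∈ czt L := ⟨KK_le L hk, (comm_z_iff L).2 (hc _).symm⟩
  rcases free3 L (czt_inf_KK L hz hk) (hc _) with e | e <;> rw [e]
  exacts [one_mem _, mem_zpowers _]

end Cfsg.Agent.CoTwoThree.B
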