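import Cfsg.Agent.CoTwoThree.KData
import Cfsg.Agent.CoTwoThree.B.Quot
import Cfsg.Agent.CoTwoThree.B.Rigid
import Cfsg.Agent.CoTwoThree.B.Five

/-!
The stage on the involution.
-/

set_option autoImplicit false

open Subgroup

namespace Cfsg.Agent.CoTwoThree.B

universe u

/-- The data on the involution. -/
noncomputable def kData {G : Type u} [Group G] [Finite G] (L : Local G) : KData L where
  K := KK L
  leK := KK_le L
  extK := (four_KK L).2.2
  cardK := (four_KK L).2.1
  tK := (four_KK L).1.mem
  selfK := fun _ hg => (zpowers_le.2 (four_KK L).1.mem) (self L ⟨hg.1.2, hg.2⟩)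
  free := fun _ hk h => free_KK L hk h
  quot := quot L
  rigid := fun _ he h3 h1 hfix _ hg hge => rigid L he h3 h1 hfix hg hge
  fifteen := fifteen L

/-- **The involution stage.** -/
theorem kStmt : KStmt.{u} := fun _ _ _ D => ⟨kData D⟩

end Cfsg.Agent.CoTwoThree.B
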