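import Cfsg.Agent.CoTwoThree.B.Coord

/-!
The normalizer of `J` in the centralizer of `t`: it induces the signed permutations of the four
points, and it contains the normalizer of `π` in the centralizer of `t`.
-/

set_option autoImplicit false
set_option linter.unusedSectionVars false

open Subgroup
open Cfsg.Agent.U62Three.K (pt root ct jt frame_commute j_mem J_cube j_self j_symm j_ne)

namespace Cfsg.Agent.CoTwoThree.B

universe u

variable {G : Type u} [Group G] (L : Local G)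

/-- The normalizer of `J` in `C(t)`. -/
abbrev njt : Subgroup G := normalizer (L.J : Set G) ⊓ ct L.t

/-- The centralizer of `z` and `t`. -/
abbrev czt : Subgroup G := ct L.t ⊓ centralizer ({L.z} : Set G)

theorem t_inv : L.t⁻¹ = L.t := inv_eq_of_mul_eq_one_right (by
  have := pow_orderOf_eq_one L.t
  rwa [L.ot, pow_two] at this)

theorem t_sq : L.t * L.t = 1 := by
  have := pow_orderOf_eq_one L.t
  rwa [L.ot, pow_two] at this

theorem t_ne : L.t ≠ 1 := fun e => by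
  have := L.ot
  rw [e, orderOf_one] at this
  norm_num at this

theorem ct_iff {g : G} : g ∈ ct L.t ↔ g * L.t * g⁻¹ = L.t := by
  rw [mem_centralizer_singleton_iff, mul_inv_eq_iff_eq_mul]

theorem t_normJ : L.t ∈ normalizer (L.J : Set G) := by
  have key : ∀ g ∈ L.J, L.t * g * L.t⁻¹ ∈ L.J := by
    intro g hg
    obtain ⟨x, rfl⟩ := chi_surj L hg
    rw [t_chi]
    exact chi_mem L _
  rw [mem_normalizer_iff]
  refine fun g => ⟨key g, fun h => ?_⟩
  have := key _ h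
  rw [t_inv] at this
  rwa [show L.t * (L.t * g * L.t) * L.t = L.t * L.t * g * (L.t * L.t) by group, t_sq, one_mul, mul_one] at this

theorem tau_map_neg : ∀ x : V4, tau (-x) = -tau x := by decide +kernel

/-- An element inducing on `J` something commuting with `t` differs from one commuting with `t` by an
element of `J`. -/
theorem adjust {n : G} (hn : n ∈ normalizer (L.J : Set G))
    (h : ∀ x, n * L.t * n⁻¹ * chi L x * (n * L.t * n⁻¹)⁻¹ = L.t * chi L x * L.t⁻¹) :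
    ∃ n' ∈ njt L, ∀ g ∈ L.J, n' * g * n'⁻¹ = n * g * n⁻¹ := by
  set w := n * L.t * n⁻¹ * L.t⁻¹ with hwdef
  have hw : w ∈ L.J := by
    rw [← L.centJ, mem_centralizer_iff]
    intro g hg
    obtain ⟨x, hx⟩ := chi_surj L (show L.t⁻¹ * g * L.t ∈ L.J by
      have := (mem_normalizer_iff.1 (inv_mem (t_normJ L)) g).1 hg
      rwa [inv_inv] at this)
    have h1 := h x
    rw [hx] at h1
    calc g * w = L.t * (L.t⁻¹ * g * L.t) * L.t⁻¹ * w := by group
      _ = n * L.t * n⁻¹ * (L.t⁻¹ * g * L.t) * (n * L.t * n⁻¹)⁻¹ * w := by rw [h1]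
      _ = w * g := by rw [hwdef]; group
  have e1 : n * L.t * n⁻¹ = w * L.t := by rw [hwdef, inv_mul_cancel_right]
  have e2 : w * L.t * (w * L.t) = 1 := by
    rw [← e1, conj_mul, t_sq, mul_one, mul_inv_cancel]
  have e3 : L.t * w⁻¹ = w * L.t := by
    calc L.t * w⁻¹ = L.t⁻¹ * w⁻¹ := by rw [t_inv]
      _ = (w * L.t)⁻¹ := (mul_inv_rev _ _).symm
      _ = w * L.t := inv_eq_of_mul_eq_one_right e2
  have hw3 : w * w * w = 1 := J_cube (Φ := L.frame) hw
  refine ⟨w * n, ⟨mul_mem (le_normalizer hw) hn, (ct_iff L).2 ?_⟩, fun g hg => ?_⟩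
  · calc w * n * L.t * (w * n)⁻¹ = w * (n * L.t * n⁻¹) * w⁻¹ := by group
      _ = w * w * (L.t * w⁻¹) := by rw [e1]; group
      _ = w * w * w * L.t := by rw [e3]; group
      _ = L.t := by rw [hw3, one_mul]
  · have hg' : n * g * n⁻¹ ∈ L.J := (mem_normalizer_iff.1 hn g).1 hg
    calc w * n * g * (w * n)⁻¹ = w * (n * g * n⁻¹) * w⁻¹ := by group
      _ = n * g * n⁻¹ := by rw [(frame_commute (Φ := L.frame) hw hg').eq, mul_inv_cancel_right]

/-- A permutation of the four points as a permutation of the six places. -/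
def lift4 (σ : Equiv.Perm (Fin 4)) : Equiv.Perm (Fin 6) :=
  (finSumFinEquiv (m := 4) (n := 2)).permCongr (Equiv.Perm.sumCongr σ 1)

theorem lift4_apply : ∀ σ : Equiv.Perm (Fin 4),
    (∀ i : Fin 4, lift4 σ (i.castLE (by omega)) = (σ i).castLE (by omega)) ∧ lift4 σ 4 = 4 ∧ lift4 σ 5 = 5 ∧
      ∀ a : Fin 6, Equiv.swap 4 5 (lift4 σ a) = lift4 σ (Equiv.swap 4 5 a) := by
  decide +kernel

/-- Every permutation of the four points is induced. -/
theorem exists_perm (σ : Equiv.Perm (Fin 4)) : ∃ n ∈ njt L, ∀ i, n * psi L (pv i) * n⁻¹ = psi L (pv (σ i)) := by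
  obtain ⟨n, hn, hnj⟩ := L.perm (lift4 σ)
  obtain ⟨h1, h4, h5, hs⟩ := lift4_apply σ
  obtain ⟨n', hn', hact⟩ := adjust L hn fun x => by
    obtain ⟨y, hy⟩ := chi_surj L (show n⁻¹ * chi L x * n ∈ L.J by
      have := (mem_normalizer_iff.1 (inv_mem hn) _).1 (chi_mem L x)
      rwa [inv_inv] at this)
    have key : ∀ g ∈ L.J, n * (L.t * g * L.t⁻¹) * n⁻¹ = L.t * (n * g * n⁻¹) * L.t⁻¹ := by
      intro g hg
      rw [L.span] at hg
      induction hg using closure_induction with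
      | mem w hw =>
        obtain ⟨⟨a, b⟩, rfl⟩ := hw
        simp only
        rw [L.tJ, hnj, hnj, L.tJ, hs, hs]
      | one => simp
      | mul p q _ _ hp hq =>
        calc n * (L.t * (p * q) * L.t⁻¹) * n⁻¹
            = n * (L.t * p * L.t⁻¹) * n⁻¹ * (n * (L.t * q * L.t⁻¹) * n⁻¹) := by group
          _ = L.t * (n * p * n⁻¹) * L.t⁻¹ * (L.t * (n * q * n⁻¹) * L.t⁻¹) := by rw [hp, hq]
          _ = L.t * (n * (p * q) * n⁻¹) * L.t⁻¹ := by group
      | inv p _ hp =>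
        calc n * (L.t * p⁻¹ * L.t⁻¹) * n⁻¹ = (n * (L.t * p * L.t⁻¹) * n⁻¹)⁻¹ := by group
          _ = (L.t * (n * p * n⁻¹) * L.t⁻¹)⁻¹ := by rw [hp]
          _ = L.t * (n * p⁻¹ * n⁻¹) * L.t⁻¹ := by group
    have := key _ (show n⁻¹ * chi L x * n ∈ L.J from hy ▸ chi_mem L y)
    calc n * L.t * n⁻¹ * chi L x * (n * L.t * n⁻¹)⁻¹ = n * (L.t * (n⁻¹ * chi L x * n) * L.t⁻¹) * n⁻¹ := by group
      _ = L.t * (n * (n⁻¹ * chi L x * n) * n⁻¹) * L.t⁻¹ := this
      _ = L.t * chi L x * L.t⁻¹ := by group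
  refine ⟨n', hn', fun i => ?_⟩
  rw [hact _ (psi_mem L _).1, ← pt_eq, ← pt_eq, pt, pt, ← conj_mul]
  show n * L.j _ _ * n⁻¹ * (n * L.j _ _ * n⁻¹) = L.j _ _ * L.j _ _
  rw [hnj, hnj, h1, h4, h5]

/-- The negation is induced. -/
theorem exists_neg : ∃ n ∈ njt L, ∀ g ∈ L.J, n * g * n⁻¹ = g⁻¹ := by
  obtain ⟨n, hn, hneg⟩ := L.neg
  obtain ⟨n', hn', hact⟩ := adjust L hn fun x => by
    have h1 : n⁻¹ * chi L x * n = (chi L x)⁻¹ := by
      have h2 := hneg _ (inv_mem (chi_mem L x))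
      rw [inv_inv] at h2
      conv_lhs => rw [← h2]
      group
    have h3 : n * (chi L (tau x))⁻¹ * n⁻¹ = chi L (tau x) := by
      rw [hneg _ (inv_mem (chi_mem L _)), inv_inv]
    calc n * L.t * n⁻¹ * chi L x * (n * L.t * n⁻¹)⁻¹ = n * (L.t * (n⁻¹ * chi L x * n) * L.t⁻¹) * n⁻¹ := by group
      _ = L.t * chi L x * L.t⁻¹ := by rw [h1, ← chi_neg, t_chi, t_chi, tau_map_neg, chi_neg, h3]
  exact ⟨n', hn', fun g hg => by rw [hact g hg, hneg g hg]⟩

theorem conj_jt {n : G} (hn : n ∈ njt L) {g : G} (hg : g ∈ jt L.frame L.t) :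
    n * g * n⁻¹ ∈ jt L.frame L.t := by
  refine ⟨(mem_normalizer_iff.1 hn.1 g).1 hg.1, (ct_iff L).2 ?_⟩
  have h1 := (ct_iff L).1 hn.2
  have h2 := (ct_iff L).1 hg.2
  have h3 : n⁻¹ * L.t * n = L.t := by
    calc n⁻¹ * L.t * n = n⁻¹ * (n * L.t * n⁻¹) * n := by rw [h1]
      _ = L.t := by group
  calc n * g * n⁻¹ * L.t * (n * g * n⁻¹)⁻¹ = n * (g * (n⁻¹ * L.t * n) * g⁻¹) * n⁻¹ := by group
    _ = L.t := by rw [h3, h2, h1]

theorem njt_norm : njt L ≤ normalizer (jt L.frame L.t : Set G) := fun n hn => by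
  rw [mem_normalizer_iff]
  refine fun g => ⟨conj_jt L hn, fun hg => ?_⟩
  have := conj_jt L (inv_mem hn) hg
  rwa [show n⁻¹ * (n * g * n⁻¹) * n⁻¹⁻¹ = g by group] at this

theorem jt_le_njt : jt L.frame L.t ≤ njt L := fun _ hg => ⟨le_normalizer hg.1, hg.2⟩

theorem isConj_pt (i : Fin 4) : IsConj L.z (psi L (pv i)) := by
  obtain ⟨n, -, hn⟩ := exists_perm L (Equiv.swap 3 i)
  obtain ⟨m, -, hm⟩ := exists_neg L
  refine isConj_iff.2 ⟨n * m, ?_⟩
  have h3 : m * L.z * m⁻¹ = psi L (pv 3) := by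
    rw [hm _ (by rw [z_eq]; exact chi_mem L _), ← pt_three, pt_eq]
  calc n * m * L.z * (n * m)⁻¹ = n * (m * L.z * m⁻¹) * n⁻¹ := by group
    _ = psi L (pv i) := by rw [h3, hn, Equiv.swap_apply_left]

theorem hom_on {x : G} {u v w : V3} (h0 : x * psi L (pv 0) * x⁻¹ = psi L u)
    (h1 : x * psi L (pv 1) * x⁻¹ = psi L v) (h2 : x * psi L (pv 2) * x⁻¹ = psi L w) (y : V3) :
    x * psi L y * x⁻¹ = psi L (lin u v w y) := by
  have key : ∀ y : V3, y = y.1.val • pv 0 + y.2.1.val • pv 1 + y.2.2.val • pv 2 := by decide +kernel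
  have key2 : ∀ u v w y : V3, lin u v w y = y.1.val • u + y.2.1.val • v + y.2.2.val • w := by
    intro u v w y
    simp only [lin, Prod.smul_def, nsmul_eq_mul, ZMod.natCast_val, ZMod.cast_id', id_eq, Prod.mk_add_mk]
  conv_lhs => rw [key y]
  rw [key2]
  simp only [psi_add, psi_nsmul, ← h0, ← h1, ← h2, ← conj_mul, conj_pow]

theorem z_mem : L.z ∈ jt L.frame L.t :=
  (congrArg (fun w => w ∈ jt L.frame L.t) (z_eq L)).mpr (psi_mem L _)

/-- The centralizer of `π` in `C(t)` normalises `J`. -/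
theorem cent_jt_le : ct L.t ⊓ centralizer (jt L.frame L.t : Set G) ≤ normalizer (L.J : Set G) := by
  intro g hg
  refine L.centOut (psi L (pv 2)) (psi_mem L _).1 (fun h => sum_pv_two.1 ((psi_mem_Q L _).1 h)) ⟨?_, ?_⟩
  · exact mem_centralizer_singleton_iff.2 (mem_centralizer_iff.1 hg.2 L.z (z_mem L)).symm
  · exact mem_centralizer_singleton_iff.2 (mem_centralizer_iff.1 hg.2 _ (psi_mem L _)).symm

/-- The action of the normalizer of `π` in `C(t)` on the four points. -/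
theorem signed {n : G} (hnt : n ∈ ct L.t) (hn : ∀ g ∈ jt L.frame L.t, n * g * n⁻¹ ∈ jt L.frame L.t) :
    ∃ σ : Equiv.Perm (Fin 4), (∀ i, n * psi L (pv i) * n⁻¹ = psi L (pv (σ i))) ∨
      ∀ i, n * psi L (pv i) * n⁻¹ = psi L (-pv (σ i)) := by
  have him : ∀ i, ∃ j, ∃ a : Bool, n * psi L (pv i) * n⁻¹ = psi L (if a then pv j else -pv j) := by
    intro i
    obtain ⟨x, hx⟩ := psi_surj L (hn _ (psi_mem L (pv i)))
    have hc : IsConj L.z (psi L x) := (isConj_pt L i).trans (isConj_iff.2 ⟨n, hx.symm⟩)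
    obtain ⟨j, rfl | rfl⟩ := psi_point L x hc
    exacts [⟨j, true, hx.symm⟩, ⟨j, false, hx.symm⟩]
  obtain ⟨i, a, h0⟩ := him 0
  obtain ⟨j, b, h1⟩ := him 1
  obtain ⟨k, c, h2⟩ := him 2
  obtain ⟨l, d, h3⟩ := him 3
  set u := if a then pv i else -pv i
  set v := if b then pv j else -pv j
  set w := if c then pv k else -pv k
  have hlin := hom_on L h0 h1 h2
  obtain ⟨σ, hσ⟩ := perm_of_images i j k a b c ⟨l, by
    have := psi_inj L ((hlin (pv 3)).symm.trans h3)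
    cases d
    · exact Or.inr (by simpa using this)
    · exact Or.inl (by simpa using this)⟩ (fun x hx => psi_inj L (by
      have h5 := hlin x
      rw [hx, psi_zero] at h5
      rw [conj_eq_one_iff.1 h5, psi_zero]))
  refine ⟨σ, ?_⟩
  have e3 : ∀ τ : Equiv.Perm (Fin 4), pv (τ 3) = -(pv (τ 0) + pv (τ 1) + pv (τ 2)) := by decide +kernel
  have hsum : pv 3 = -(pv 0 + pv 1 + pv 2) := by decide
  rcases hσ with h | h
  · left
    have e : ∀ m : Fin 3, n * psi L (pv m.castSucc) * n⁻¹ = psi L (pv (σ m.castSucc)) := fun m => by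
      rw [hlin, h m]
    intro i
    induction i using Fin.lastCases with
    | last =>
      show n * psi L (pv 3) * n⁻¹ = psi L (pv (σ 3))
      rw [hsum, e3, psi_neg, psi_neg, ← conj_inv, psi_add, psi_add, psi_add, psi_add, ← conj_mul, ← conj_mul,
        show n * psi L (pv 0) * n⁻¹ = psi L (pv (σ 0)) from e 0, show n * psi L (pv 1) * n⁻¹ = psi L (pv (σ 1)) from e 1,
        show n * psi L (pv 2) * n⁻¹ = psi L (pv (σ 2)) from e 2]
    | cast m => exact e m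
  · right
    have e : ∀ m : Fin 3, n * psi L (pv m.castSucc) * n⁻¹ = psi L (-pv (σ m.castSucc)) := fun m => by
      rw [hlin, h m]
    intro i
    induction i using Fin.lastCases with
    | last =>
      show n * psi L (pv 3) * n⁻¹ = psi L (-pv (σ 3))
      rw [hsum, e3, neg_neg, psi_neg, ← conj_inv]
      rw [show pv (σ 0) + pv (σ 1) + pv (σ 2) = -(-pv (σ 0) + -pv (σ 1) + -pv (σ 2)) by abel, psi_neg,
        psi_add, psi_add, psi_add, psi_add, ← conj_mul, ← conj_mul,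
        show n * psi L (pv 0) * n⁻¹ = psi L (-pv (σ 0)) from e 0, show n * psi L (pv 1) * n⁻¹ = psi L (-pv (σ 1)) from e 1,
        show n * psi L (pv 2) * n⁻¹ = psi L (-pv (σ 2)) from e 2]
    | cast m => exact e m

/-- The normalizer of `π` in `C(t)` normalises `J`. -/
theorem norm_jt_le {n : G} (hnt : n ∈ ct L.t) (hn : ∀ g ∈ jt L.frame L.t, n * g * n⁻¹ ∈ jt L.frame L.t) :
    n ∈ njt L := by
  refine ⟨?_, hnt⟩
  obtain ⟨σ, hσ⟩ := signed L hnt hn
  obtain ⟨m, hm, hmσ⟩ := exists_perm L σ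
  obtain ⟨e, he, hee⟩ := exists_neg L
  obtain ⟨m', hm', hact⟩ : ∃ m' ∈ njt L, ∀ i, m' * psi L (pv i) * m'⁻¹ = n * psi L (pv i) * n⁻¹ := by
    rcases hσ with h | h
    · exact ⟨m, hm, fun i => by rw [hmσ, h]⟩
    · refine ⟨e * m, mul_mem he hm, fun i => ?_⟩
      rw [h, psi_neg]
      calc e * m * psi L (pv i) * (e * m)⁻¹ = e * (m * psi L (pv i) * m⁻¹) * e⁻¹ := by group
        _ = (psi L (pv (σ i)))⁻¹ := by rw [hmσ, hee _ (psi_mem L _).1]
  have hc : m'⁻¹ * n ∈ ct L.t ⊓ centralizer (jt L.frame L.t : Set G) := by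
    refine ⟨mul_mem ((ct L.t).inv_mem hm'.2) hnt, mem_centralizer_iff.2 fun g hg => ?_⟩
    obtain ⟨x, rfl⟩ := psi_surj L hg
    have h : ∀ i, m'⁻¹ * n * psi L (pv i) * (m'⁻¹ * n)⁻¹ = psi L (pv i) := fun i => by
      calc m'⁻¹ * n * psi L (pv i) * (m'⁻¹ * n)⁻¹ = m'⁻¹ * (n * psi L (pv i) * n⁻¹) * m' := by group
        _ = psi L (pv i) := by rw [← hact]; group
    have h2 := hom_on L (h 0) (h 1) (h 2) x
    have e : ∀ x : V3, lin (pv 0) (pv 1) (pv 2) x = x := by decide +kernel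
    rw [e] at h2
    exact (mul_inv_eq_iff_eq_mul.1 h2).symm
  have h5 := (normalizer (L.J : Set G)).mul_mem hm'.1 (cent_jt_le L hc)
  rwa [mul_inv_cancel_left] at h5

/-- Elements of `J` inverted by `t`. -/
theorem inverted {g : G} (hg : g ∈ L.J) (h : L.t * g * L.t⁻¹ = g⁻¹) :
    g = 1 ∨ g = L.j 4 5 ∨ g = (L.j 4 5)⁻¹ := by
  obtain ⟨x, rfl⟩ := chi_surj L hg
  rw [t_chi, ← chi_neg] at h
  rcases tau_neg x (chi_inj L h) with rfl | rfl | rfl
  · exact Or.inl (chi_zero L)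
  · exact Or.inr (Or.inl (j_eq L 4 5).symm)
  · exact Or.inr (Or.inr ((j_eq L 5 4).symm.trans (j_symm L.frame 4 5).symm))

end Cfsg.Agent.CoTwoThree.B

namespace Cfsg.Agent.CoTwoThree.B

universe u

variable {G : Type u} [Group G] (L : Local G)

/-- `t` is not a square in the normalizer of `J` in `C(t)`. -/
theorem no_sqrt {r : G} (hr : r ∈ njt L) (h : r * r = L.t) : False := by
  have h45 : L.t * L.j 4 5 * L.t⁻¹ = (L.j 4 5)⁻¹ := by
    rw [L.tJ, Equiv.swap_apply_left, Equiv.swap_apply_right]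
    exact (j_symm L.frame 4 5).symm
  have hg : r * L.j 4 5 * r⁻¹ ∈ L.J := (mem_normalizer_iff.1 hr.1 _).1 (j_mem L.frame 4 5)
  have hrt : Commute r L.t := mem_centralizer_singleton_iff.1 hr.2
  have hinv : L.t * (r * L.j 4 5 * r⁻¹) * L.t⁻¹ = (r * L.j 4 5 * r⁻¹)⁻¹ := by
    rw [show (r * L.j 4 5 * r⁻¹)⁻¹ = r * (L.j 4 5)⁻¹ * r⁻¹ by group, ← h45]
    calc L.t * (r * L.j 4 5 * r⁻¹) * L.t⁻¹ = (L.t * r) * L.j 4 5 * (L.t * r)⁻¹ := by group
      _ = r * (L.t * L.j 4 5 * L.t⁻¹) * r⁻¹ := by rw [← hrt.eq]; group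
  have hne : L.j 4 5 ≠ 1 := j_ne L.frame (by decide)
  have hsq : L.t * L.j 4 5 * L.t⁻¹ = L.j 4 5 := by
    rw [← h]
    rcases inverted L hg hinv with e | e | e
    · exact absurd (conj_eq_one_iff.1 e) hne
    · calc r * r * L.j 4 5 * (r * r)⁻¹ = r * (r * L.j 4 5 * r⁻¹) * r⁻¹ := by group
        _ = L.j 4 5 := by rw [e, e]
    · calc r * r * L.j 4 5 * (r * r)⁻¹ = r * (r * L.j 4 5 * r⁻¹) * r⁻¹ := by group
        _ = L.j 4 5 := by rw [e, ← conj_inv, e, inv_inv]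
  rw [hsq] at h45
  have h2 : L.j 4 5 * L.j 4 5 = 1 := by rw [← eq_inv_iff_mul_eq_one]; exact h45
  exact hne (by simpa [h2] using L.cube 4 5)

end Cfsg.Agent.CoTwoThree.B
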