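import Cfsg.Agent.CoTwoThree.B.Root
import Cfsg.Agent.CoTwoThree.KData

/-!
The quaternion groups commute in pairs; their product and what normalises it.
-/

set_option autoImplicit false
set_option linter.unusedSectionVars false

open Subgroup Cfsg
open Cfsg.Agent.U62Three.K (Cover pt root ct jt frame_commute j_mem J_cube four)

namespace Cfsg.Agent.CoTwoThree.B

universe u

variable {G : Type u} [Group G] [Finite G] (L : Local G)

theorem conj_mem_RR {n : G} (hn : n ∈ njt L) {σ : Equiv.Perm (Fin 4)}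
    (hσ : ∀ i, n * psi L (pv i) * n⁻¹ = psi L (pv (σ i))) {i : Fin 4} {r : G} (hr : r ∈ RR L i) :
    n * r * n⁻¹ ∈ RR L (σ i) :=
  map_RR L hn (Or.inl (hσ i)) ▸ ⟨r, hr, rfl⟩

/-- The quaternion groups at two and three commute. -/
theorem comm_two_three (D : RootData L) : ∀ a ∈ RR L 3, ∀ b ∈ RR L 2, Commute a b := by
  classical
  intro a ha
  set x := psi L (pv 3)
  have hx : x ∈ jt L.frame L.t := psi_mem L _
  have hxc : x ∈ cat L := ⟨hx.2, mem_centralizer_singleton_iff.2 (jt_comm L hx (psi_mem L av)).eq⟩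
  have hxe : ∀ e ∈ D.E, x * e * x⁻¹ ∈ D.E := fun e he => (mem_normalizer_iff.1 (D.normE hxc) e).1 he
  have hxR : ∀ e ∈ RR L 2, x * e * x⁻¹ ∈ RR L 2 := fun e he =>
    (mem_normalizer_iff.1 (jt_norm_RR L 2 hx) e).1 he
  have hxt : Commute x L.t := mem_centralizer_singleton_iff.1 hx.2
  have hxa : Commute x a := (RR_le L 3 a ha).2.symm
  have hc := cover_RR L 2
  have hat : Commute a L.t := (cover_RR L 3).central a ha
  have ht2 := t_sq L
  have hmoved : ∀ e ∈ RR L 2, Commute a (e * (x * e * x⁻¹)⁻¹) := fun e he =>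
    D.coverE.commute_moved ht2 hxe hxt (D.three ha) hxa (D.two he)
  let μ : ↥(RR L 2) → ↥(RR L 2) := fun e => ⟨e.1 * (x * e.1 * x⁻¹)⁻¹, mul_mem e.2 (inv_mem (hxR _ e.2))⟩
  -- a displacement class determines the class
  have hinj : ∀ e e' : ↥(RR L 2), ((μ e).1 = (μ e').1 ∨ (μ e').1 = (μ e).1 * L.t) →
      e.1⁻¹ * e'.1 = 1 ∨ e.1⁻¹ * e'.1 = L.t := by
    intro e e' he
    set w : G := e.1⁻¹ * e'.1 with hw
    have hwm : w ∈ RR L 2 := mul_mem (inv_mem e.2) e'.2
    obtain ⟨c, hc1, hce⟩ : ∃ c : G, (c = 1 ∨ c = L.t) ∧ x * w * x⁻¹ = w * c := by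
      rcases he with h2 | h2
      · refine ⟨1, Or.inl rfl, ?_⟩
        calc x * w * x⁻¹ = e.1⁻¹ * (μ e).1 * (μ e').1⁻¹ * e'.1 := by simp only [hw, μ]; group
          _ = w * 1 := by rw [h2, hw]; group
      · refine ⟨L.t, Or.inr rfl, ?_⟩
        calc x * w * x⁻¹ = e.1⁻¹ * (μ e).1 * (μ e').1⁻¹ * e'.1 := by simp only [hw, μ]; group
          _ = e.1⁻¹ * L.t⁻¹ * e'.1 := by
            rw [h2, mul_inv_rev, mul_assoc e.1⁻¹ (μ e).1, ← mul_assoc (μ e).1,
              (hc.central _ (μ e).2).inv_right.eq]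
            group
          _ = w * L.t := by rw [t_inv, mul_assoc, (hc.central _ e'.2).eq.symm, hw, mul_assoc]
    rcases hc1 with hc1 | hc1 <;> subst c
    · rw [mul_one] at hce
      exact free_RR L (k := 3) (by decide) hwm (mul_inv_eq_iff_eq_mul.1 hce)
    · exfalso
      have hwt : x * (w * L.t) * x⁻¹ = w := by
        rw [← conj_mul, hce, hxt.eq, mul_inv_cancel_right, mul_assoc, ht2, mul_one]
      have h3 : x * x * x * w * (x * x * x)⁻¹ = w * L.t := by
        calc x * x * x * w * (x * x * x)⁻¹ = x * (x * (x * w * x⁻¹) * x⁻¹) * x⁻¹ := by group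
          _ = w * L.t := by rw [hce, hwt, hce]
      rw [psi_cube L (pv 3), one_mul, inv_one, mul_one] at h3
      exact t_ne L (mul_eq_left.1 h3.symm)
  intro b hb
  let T : ↥(RR L 2) := ⟨L.t, hc.mem⟩
  have hTT : T * T = 1 := Subtype.ext ht2
  let Z := zpowers T
  have hz : ∀ r : ↥(RR L 2), r ∈ Z → r = 1 ∨ r = T := by
    rintro r ⟨m, rfl⟩
    rcases Int.even_or_odd m with ⟨n, rfl⟩ | ⟨n, rfl⟩
    · left; show T ^ (n + n) = 1; rw [← two_mul, zpow_mul, zpow_two, hTT, one_zpow]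
    · right; show T ^ (2 * n + 1) = T; rw [zpow_add_one, zpow_mul, zpow_two, hTT, one_zpow, one_mul]
  have hcase : ∀ r s : ↥(RR L 2), r⁻¹ * s ∈ Z → s.1 = r.1 ∨ s.1 = r.1 * L.t := fun r s h => by
    rcases hz _ h with e | e
    · exact Or.inl (congrArg Subtype.val (inv_mul_eq_one.1 e)).symm
    · exact Or.inr (congrArg Subtype.val (inv_mul_eq_iff_eq_mul.1 e))
  let ν : ↥(RR L 2) ⧸ Z → ↥(RR L 2) ⧸ Z := fun c => QuotientGroup.mk (μ c.out)
  have hν : Function.Injective ν := fun c c' hcc => by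
    rw [← QuotientGroup.out_eq' c, ← QuotientGroup.out_eq' c']
    refine QuotientGroup.eq.2 ?_
    rcases hinj c.out c'.out ((hcase _ _ (QuotientGroup.eq.1 hcc)).imp Eq.symm id) with e | e
    · rw [show c.out⁻¹ * c'.out = 1 from Subtype.ext e]; exact one_mem _
    · rw [show c.out⁻¹ * c'.out = T from Subtype.ext e]; exact mem_zpowers _
  obtain ⟨c, hcν⟩ := Finite.surjective_of_injective hν (QuotientGroup.mk ⟨b, hb⟩)
  rcases hcase _ _ (QuotientGroup.eq.1 hcν) with e | e <;> rw [show b = _ from e]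
  · exact hmoved _ c.out.2
  · exact (hmoved _ c.out.2).mul_right hat

/-- Two of the quaternion groups commute. -/
theorem comm_pair {i k : Fin 4} (hik : i ≠ k) : ∀ a ∈ RR L i, ∀ b ∈ RR L k, Commute a b := by
  obtain ⟨D⟩ := exists_rootData L
  have key : ∀ i k : Fin 4, i ≠ k → ∃ σ : Equiv.Perm (Fin 4), σ i = 3 ∧ σ k = 2 := by decide
  obtain ⟨σ, h3, h2⟩ := key i k hik
  obtain ⟨n, hn, hσ⟩ := exists_perm L σ
  intro a ha b hb
  have h := (comm_two_three L D _ (h3 ▸ conj_mem_RR L hn hσ ha) _ (h2 ▸ conj_mem_RR L hn hσ hb)).map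
    (MulAut.conj n⁻¹)
  simpa [mul_assoc] using h

/-- The product of the four. -/
noncomputable def KK : Subgroup G := ⨆ i, RR L i

theorem four_KK : Cover L.t (KK L) ∧ Nat.card ↥(KK L) = 2 ^ 9 ∧ IsExtraspecial 2 ↥(KK L) :=
  four (t_ne L) (t_sq L) (RR L) (cover_RR L) (card_RR L) ⟨0, nonab_RR L 0⟩ fun _ _ hik => comm_pair L hik

theorem RR_KK (i : Fin 4) : RR L i ≤ KK L := le_iSup (RR L) i

theorem KK_le : KK L ≤ ct L.t := iSup_le fun i => fun r hr => (RR_le L i r hr).1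

theorem norm_KK_of {c : G} (hc : ∀ i, ∀ r ∈ RR L i, c * r * c⁻¹ ∈ KK L) :
    c ∈ normalizer (KK L : Set G) := by
  have hle : (KK L).map (MulAut.conj c).toMonoidHom ≤ KK L := by
    rw [KK, Subgroup.map_iSup]
    refine iSup_le fun i => ?_
    rintro _ ⟨r, hr, rfl⟩
    exact hc i r hr
  have heq := eq_of_le_of_card_ge hle (le_of_eq (card_map_of_injective (MulAut.conj c).injective).symm)
  rw [mem_normalizer_iff]
  intro w
  constructor
  · exact fun hw => heq ▸ ⟨w, hw, rfl⟩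
  · intro hw
    rw [← heq] at hw
    obtain ⟨v, hv, hvw⟩ := hw
    simp only [MulEquiv.coe_toMonoidHom, MulAut.conj_apply, mul_left_inj, mul_right_inj] at hvw
    exact hvw ▸ hv

theorem L0_eq : L.normC (KK L) = normalizer (KK L : Set G) ⊓ ct L.t := rfl

theorem njt_local : njt L ≤ L.normC (KK L) := by
  intro n hn
  refine ⟨norm_KK_of L fun i r hr => ?_, hn.2⟩
  obtain ⟨σ, hσ⟩ := signed L hn.2 fun g hg => conj_jt L hn hg
  refine RR_KK L (σ i) ?_
  have h : (RR L i).map (MulAut.conj n).toMonoidHom = RR L (σ i) := by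
    refine map_RR L hn ?_
    rcases hσ with e | e
    · exact Or.inl (e i)
    · exact Or.inr (by rw [e, psi_neg])
  exact h ▸ ⟨r, hr, rfl⟩

theorem KK_local : KK L ≤ L.normC (KK L) := fun _ h => ⟨le_normalizer h, KK_le L h⟩

/-- The extraspecial group at the root is the product of the two quaternion groups. -/
theorem RootData.eq_sup {L : Local G} (D : RootData L) :
    D.E = RR L 2 ⊔ RR L 3 ∧ ∀ x ∈ D.E, ∃ p ∈ RR L 2, ∃ q ∈ RR L 3, x = p * q := by
  obtain ⟨-, hcard, hdec⟩ := (cover_RR L 2).sup (t_ne L) (t_sq L) (cover_RR L 3) (comm_pair L (by decide))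
  rw [card_RR, card_RR] at hcard
  have h : RR L 2 ⊔ RR L 3 = D.E :=
    eq_of_le_of_card_ge (sup_le D.two D.three) (by rw [D.cardE]; omega)
  exact ⟨h.symm, fun x hx => hdec x (h.symm ▸ hx)⟩

theorem RootData.le_KK {L : Local G} (D : RootData L) : D.E ≤ KK L :=
  D.eq_sup.1.le.trans (sup_le (RR_KK L 2) (RR_KK L 3))

theorem root_cases : ∀ σ : Equiv.Perm (Fin 4), (pv (σ 0) - pv (σ 1) = av → σ 0 = 0 ∧ σ 1 = 1) ∧
    (-pv (σ 0) - -pv (σ 1) = av → σ 0 = 1 ∧ σ 1 = 0) := by decide +kernel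

/-- At the root, what centralises one quaternion group lies in the other. -/
theorem root_two3 (D : RootData L) {X : Subgroup G} (hX : X ≤ cat L) (hcop : (Nat.card ↥X).Coprime 3)
    (hR : ∀ x ∈ X, ∀ r ∈ RR L 2, Commute x r) : X ≤ RR L 3 := by
  intro x hx
  obtain ⟨o, ho, n, hn, hna, hxe⟩ := D.gen x (hX hx)
  have hns : ∀ r ∈ RR L 2, n * r * n⁻¹ = r ∨ n * r * n⁻¹ = L.t * r := by
    intro r hr
    have e : n * r * n⁻¹ = o⁻¹ * r * o := by
      have h1 : o * n * r * (o * n)⁻¹ = r := by rw [← hxe, (hR x hx r hr).eq, mul_inv_cancel_right]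
      calc n * r * n⁻¹ = o⁻¹ * (o * n * r * (o * n)⁻¹) * o := by group
        _ = o⁻¹ * r * o := by rw [h1]
    rw [e]
    rcases D.coverE.comm_cases (t_sq L) (inv_mem ho) (D.two hr) with h | h <;>
      rw [commutatorElement_def, inv_inv, mul_inv_eq_iff_eq_mul] at h
    · left; rw [h, one_mul]
    · exact Or.inr h
  obtain ⟨σ, hσ⟩ := signed L hn.2 fun g hg => conj_jt L hn hg
  obtain ⟨s, hs, hs1, hst⟩ := exists_order_four L 2
  have hσ23 : σ 2 ≠ 3 := by
    intro e
    have hmem : n * s * n⁻¹ ∈ RR L 3 := by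
      have := map_RR L hn (i := 2) (m := 3) (by
        rcases hσ with h | h
        · exact Or.inl (by rw [h, e])
        · exact Or.inr (by rw [h, e, psi_neg]))
      exact this ▸ ⟨s, hs, rfl⟩
    have hs3 : s ∈ RR L 3 := by
      rcases hns s hs with h | h <;> rw [h] at hmem
      · exact hmem
      · simpa using mul_mem (inv_mem (cover_RR L 3).mem) hmem
    exact ((cover_RR L 2).centre s hs fun b hb => (comm_pair L (by decide) b hb s hs3).symm).elim hs1 hst
  have hav : n * psi L av * n⁻¹ = psi L av := by rw [hna.eq, mul_inv_cancel_right]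
  have e01 : av = pv 0 - pv 1 := by decide
  have hid : ∀ σ : Equiv.Perm (Fin 4), σ 0 = 0 → σ 1 = 1 → σ 2 ≠ 3 → σ = 1 := by decide
  have hsw : ∀ σ : Equiv.Perm (Fin 4), σ 0 = 1 → σ 1 = 0 → σ 2 ≠ 3 → σ 3 = 3 := by decide
  rw [e01, psi_sub, ← conj_mul, ← conj_inv] at hav
  rcases hσ with h | h
  · rw [h, h, ← psi_sub, ← psi_sub] at hav
    obtain ⟨h0, h1⟩ := (root_cases σ).1 ((psi_inj L hav).trans e01.symm)
    have hn1 := hid σ h0 h1 hσ23
    subst hn1
    have hcom : ∀ y ∈ jt L.frame L.t, Commute n y := by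
      intro y hy
      obtain ⟨v, rfl⟩ := psi_surj L hy
      have h2 := hom_on L (h 0) (h 1) (h 2) v
      have e : ∀ x : V3, lin (pv 0) (pv 1) (pv 2) x = x := by decide +kernel
      simp only [Equiv.Perm.one_apply] at h2
      rw [e] at h2
      exact mul_inv_eq_iff_eq_mul.1 h2
    obtain ⟨r, hr, y, hy, hne⟩ := cza L ⟨hn.2, mem_centralizer_singleton_iff.2 (hcom _ (z_mem L)).eq⟩ (hcom _ (a_jt L))
    have hor : o * r ∈ D.E := mul_mem ho (D.three (RR_three L ▸ hr))
    have hxy : x = o * r * y := by rw [hxe, hne, mul_assoc]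
    have hyc : y ∈ cat L := ⟨hy.2, mem_centralizer_singleton_iff.2 (jt_comm L hy (psi_mem L av)).eq⟩
    have key : ∀ k : ℕ, ∃ r' ∈ D.E, x ^ k = r' * y ^ k := by
      intro k
      induction k with
      | zero => exact ⟨1, one_mem _, by simp⟩
      | succ k ih =>
        obtain ⟨r', hr', hk⟩ := ih
        refine ⟨r' * (y ^ k * (o * r) * (y ^ k)⁻¹), mul_mem hr'
          ((mem_normalizer_iff.1 (D.normE (pow_mem hyc k)) _).1 hor), ?_⟩
        rw [pow_succ, hk, pow_succ, hxy]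
        group
    obtain ⟨r', hr', h3⟩ := key 3
    rw [show y ^ 3 = 1 by rw [pow_succ, pow_two, J_cube (Φ := L.frame) hy.1], mul_one] at h3
    obtain ⟨m, hm⟩ := exists_pow_eq_self_of_coprime (x := x) (n := 3) (cop_of_mem hcop hx).symm
    have hxE : x ∈ D.E := by rw [← hm, h3]; exact pow_mem hr' m
    obtain ⟨p, hp, q, hq, rfl⟩ := D.eq_sup.2 x hxE
    have hp2 : p = 1 ∨ p = L.t := (cover_RR L 2).centre p hp fun b hb => by
      have := (hR _ hx b hb).mul_left ((comm_pair L (by decide) b hb q hq).symm).inv_left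
      rwa [mul_inv_cancel_right] at this
    rcases hp2 with e | e <;> rw [e]
    · rwa [one_mul]
    · exact mul_mem (cover_RR L 3).mem hq
  · exfalso
    rw [h, h, ← psi_sub, ← psi_sub] at hav
    obtain ⟨h0, h1⟩ := (root_cases σ).2 ((psi_inj L hav).trans e01.symm)
    have h3 := hsw σ h0 h1 hσ23
    set p := psi L (pv 3)
    have hp : n * p * n⁻¹ = p⁻¹ := by rw [h, h3, psi_neg]
    have hps : p * s * p⁻¹ ∈ RR L 2 := (mem_normalizer_iff.1 (jt_norm_RR L 2 (psi_mem L _)) s).1 hs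
    have hpt : Commute p L.t := mem_centralizer_singleton_iff.1 (psi_mem L (pv 3)).2
    have hex : n * (p * s * p⁻¹) * n⁻¹ = p⁻¹ * (n * s * n⁻¹) * p := by
      calc n * (p * s * p⁻¹) * n⁻¹ = n * p * n⁻¹ * (n * s * n⁻¹) * (n * p * n⁻¹)⁻¹ := by group
        _ = p⁻¹ * (n * s * n⁻¹) * p := by rw [hp, inv_inv]
    obtain ⟨c, hc, hce⟩ : ∃ c, (c = 1 ∨ c = L.t) ∧ p⁻¹ * s * p = p * s * p⁻¹ * c := by
      have htw : ∀ w ∈ RR L 2, L.t * w = w * L.t := fun w hw => ((cover_RR L 2).central w hw).eq.symm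
      have hpt' : ∀ w, p⁻¹ * (L.t * w) * p = L.t * (p⁻¹ * w * p) := fun w => by
        rw [show p⁻¹ * (L.t * w) * p = p⁻¹ * L.t * (w * p) by group, hpt.inv_left.eq]
        group
      have hps' : p⁻¹ * s * p ∈ RR L 2 := by
        have := (mem_normalizer_iff.1 (jt_norm_RR L 2 (inv_mem (psi_mem L (pv 3)))) s).1 hs
        rwa [inv_inv] at this
      rcases hns _ hps with e1 | e1 <;> rcases hns s hs with e2 | e2 <;> rw [hex, e2] at e1
      · exact ⟨1, Or.inl rfl, by rw [e1, mul_one]⟩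
      · refine ⟨L.t, Or.inr rfl, ?_⟩
        rw [hpt'] at e1
        rw [← e1, ← htw _ (mul_mem (cover_RR L 2).mem hps'), ← mul_assoc, t_sq, one_mul]
      · refine ⟨L.t, Or.inr rfl, ?_⟩
        rw [e1, htw _ hps]
      · refine ⟨1, Or.inl rfl, ?_⟩
        rw [hpt', mul_left_cancel_iff] at e1
        rw [e1, mul_one]
    have hc3 : p * p * s * (p * p)⁻¹ * c = s := by
      calc p * p * s * (p * p)⁻¹ * c = p * (p * s * p⁻¹ * c) * (c⁻¹ * p⁻¹ * c) := by group
        _ = p * (p⁻¹ * s * p) * (c⁻¹ * p⁻¹ * c) := by rw [hce]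
        _ = s := by
          have hcp : Commute p c := by rcases hc with rfl | rfl; exacts [Commute.one_right _, hpt]
          rw [mul_assoc c⁻¹, hcp.inv_left.eq]
          group
    have hsc : p * s * p⁻¹ = s := by
      have hcp : Commute p c := by rcases hc with rfl | rfl; exacts [Commute.one_right _, hpt]
      have hpp : p * p = p⁻¹ := eq_inv_of_mul_eq_one_left (psi_cube L (pv 3))
      have e1 : p * s * p⁻¹ = s * c := by
        conv_lhs => rw [← hc3, hpp, inv_inv]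
        calc p * (p⁻¹ * s * p * c) * p⁻¹ = s * (p * c * p⁻¹) := by group
          _ = s * c := by rw [hcp.eq, mul_inv_cancel_right]
      rcases hc with rfl | rfl
      · rw [e1, mul_one]
      · exfalso
        have hpst : p * (s * L.t) * p⁻¹ = s := by
          rw [← conj_mul, e1, hpt.eq, mul_inv_cancel_right, mul_assoc, t_sq, mul_one]
        have h3 : p * p * p * s * (p * p * p)⁻¹ = s * L.t := by
          calc p * p * p * s * (p * p * p)⁻¹ = p * (p * (p * s * p⁻¹) * p⁻¹) * p⁻¹ := by group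
            _ = s * L.t := by rw [e1, hpst, e1]
        rw [psi_cube L (pv 3), one_mul, inv_one, mul_one] at h3
        exact t_ne L (mul_eq_left.1 h3.symm)
    exact (free_RR L (k := 3) (by decide) hs (mul_inv_eq_iff_eq_mul.1 hsc)).elim hs1 hst

theorem conj_cat {n : G} (hn : n ∈ njt L) {x : V3} (hx : n * psi L x * n⁻¹ = psi L av) {g : G}
    (hg : g ∈ ct L.t) (hc : Commute g (psi L x)) : n * g * n⁻¹ ∈ cat L := by
  obtain ⟨h1, h2⟩ := conj_czt L hn hg hc
  rw [hx] at h2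
  exact ⟨h1, mem_centralizer_singleton_iff.2 h2.eq⟩

/-- The general form of `root_two3`. -/
theorem root_two {i m k l : Fin 4} (hne : i ≠ m ∧ k ≠ l ∧ i ≠ k ∧ i ≠ l ∧ m ≠ k ∧ m ≠ l) (X : Subgroup G)
    (hX : ∀ x ∈ X, x ∈ ct L.t ∧ Commute x (psi L (pv k - pv l))) (hcop : (Nat.card ↥X).Coprime 3)
    (hR : ∀ x ∈ X, ∀ r ∈ RR L i, Commute x r) : X ≤ RR L m := by
  obtain ⟨D⟩ := exists_rootData L
  have key : ∀ i m k l : Fin 4, i ≠ m → k ≠ l → i ≠ k → i ≠ l → m ≠ k → m ≠ l →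
      ∃ σ : Equiv.Perm (Fin 4), σ k = 0 ∧ σ l = 1 ∧ σ i = 2 ∧ σ m = 3 := by decide +kernel
  obtain ⟨σ, hk, hl, hi, hm⟩ := key i m k l hne.1 hne.2.1 hne.2.2.1 hne.2.2.2.1 hne.2.2.2.2.1 hne.2.2.2.2.2
  obtain ⟨n, hn, hσ⟩ := exists_perm L σ
  have hroot : n * psi L (pv k - pv l) * n⁻¹ = psi L av := by
    rw [psi_sub, ← conj_mul, ← conj_inv, hσ, hσ, hk, hl, ← psi_sub, show pv 0 - pv 1 = av by decide]
  have hle := root_two3 L D (X := X.map (MulAut.conj n).toMonoidHom) (by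
    rintro _ ⟨x, hx, rfl⟩
    exact conj_cat L hn hroot (hX x hx).1 (hX x hx).2) (by
    rwa [card_map_of_injective (MulAut.conj n).injective]) (by
    rintro _ ⟨x, hx, rfl⟩ r hr
    rw [← hi, ← map_RR L hn (Or.inl (hσ i))] at hr
    obtain ⟨r', hr', rfl⟩ := hr
    exact (hR x hx r' hr').map (MulAut.conj n))
  intro x hx
  have h1 := hle ⟨x, hx, rfl⟩
  rw [← hm, ← map_RR L hn (Or.inl (hσ m))] at h1
  exact (mem_map_iff_mem (MulAut.conj n).injective).1 h1

/-- The centralizers of the roots in `C(t)` normalise the product. -/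
theorem root_local {k l : Fin 4} (hkl : k ≠ l) {g : G} (hg : g ∈ ct L.t)
    (hc : Commute g (psi L (pv k - pv l))) : g ∈ L.normC (KK L) := by
  obtain ⟨D⟩ := exists_rootData L
  have key : ∀ k l : Fin 4, k ≠ l → ∃ σ : Equiv.Perm (Fin 4), σ k = 0 ∧ σ l = 1 := by decide
  obtain ⟨σ, hk, hl⟩ := key k l hkl
  obtain ⟨n, hn, hσ⟩ := exists_perm L σ
  have hroot : n * psi L (pv k - pv l) * n⁻¹ = psi L av := by
    rw [psi_sub, ← conj_mul, ← conj_inv, hσ, hσ, hk, hl, ← psi_sub, show pv 0 - pv 1 = av by decide]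
  obtain ⟨o, ho, m, hm, -, he⟩ := D.gen _ (conj_cat L hn hroot hg hc)
  have h := njt_local L hn
  have : n * g * n⁻¹ ∈ L.normC (KK L) := he ▸ mul_mem (KK_local L (D.le_KK ho)) (njt_local L hm)
  simpa [mul_assoc] using mul_mem (mul_mem (inv_mem h) this) h

/-- A subgroup of order prime to three at a root normalised by `π` lies in the product. -/
theorem root_max {k l : Fin 4} (hkl : k ≠ l) (X : Subgroup G)
    (hX : ∀ x ∈ X, x ∈ ct L.t ∧ Commute x (psi L (pv k - pv l))) (hcop : (Nat.card ↥X).Coprime 3)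
    (hn : jt L.frame L.t ≤ normalizer (X : Set G)) : X ≤ KK L := by
  obtain ⟨D⟩ := exists_rootData L
  have key : ∀ k l : Fin 4, k ≠ l → ∃ σ : Equiv.Perm (Fin 4), σ k = 0 ∧ σ l = 1 := by decide
  obtain ⟨σ, hk, hl⟩ := key k l hkl
  obtain ⟨n, hn', hσ⟩ := exists_perm L σ
  have hroot : n * psi L (pv k - pv l) * n⁻¹ = psi L av := by
    rw [psi_sub, ← conj_mul, ← conj_inv, hσ, hσ, hk, hl, ← psi_sub, show pv 0 - pv 1 = av by decide]
  have hle := D.max (X.map (MulAut.conj n).toMonoidHom) (by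
    rintro _ ⟨x, hx, rfl⟩
    exact conj_cat L hn' hroot (hX x hx).1 (hX x hx).2) (by
    rwa [card_map_of_injective (MulAut.conj n).injective]) (by
    intro y hy
    have hy' : n⁻¹ * y * n ∈ jt L.frame L.t := by
      have := conj_jt L (inv_mem hn') hy
      rwa [inv_inv] at this
    have hN := hn hy'
    rw [mem_normalizer_iff] at hN ⊢
    intro w
    simp only [mem_map_equiv, MulAut.conj_symm_apply]
    rw [hN, show n⁻¹ * y * n * (n⁻¹ * w * n) * (n⁻¹ * y * n)⁻¹ = n⁻¹ * (y * w * y⁻¹) * n by group])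
  intro x hx
  have h1 : n * x * n⁻¹ ∈ KK L := D.le_KK (hle ⟨x, hx, rfl⟩)
  exact (mem_normalizer_iff.1 (njt_local L hn').1 x).2 h1

end Cfsg.Agent.CoTwoThree.B
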