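import Cfsg.Agent.CoTwoThree.B.Normal

/-!
The centralizer of `z` and `t`: the extraspecial group `E = Q ⊓ C(t)` and the quaternion group `R`.
-/

set_option autoImplicit false
set_option linter.unusedSectionVars false

open Subgroup
open Cfsg.Agent.U62Three.K (Cover pt root ct jt frame_commute j_mem J_cube j_ne)

namespace Cfsg.Agent.CoTwoThree.B

universe u

variable {G : Type u} [Group G] (L : Local G)

/-- The extraspecial group of order 27. -/
abbrev EE : Subgroup G := L.Q ⊓ ct L.t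

theorem quat_facts : ∀ x : QuaternionGroup 2,
    (x * x = 1 → x = 1 ∨ x = .a 2) ∧ (x = 1 ∨ x = .a 2 ∨ x * x = .a 2) ∧ Commute x (.a 2) := by
  unfold Commute SemiconjBy
  decide

theorem quat_centre : ∀ x : QuaternionGroup 2, (∀ y, x * y = y * x) → x = 1 ∨ x = .a 2 := by
  decide

theorem R_sq {r : G} (hr : r ∈ L.R) : r = 1 ∨ r = L.t ∨ r * r = L.t := by
  obtain ⟨e⟩ := L.quatR
  have ht : e ⟨L.t, L.tR⟩ = .a 2 := by
    rcases (quat_facts (e ⟨L.t, L.tR⟩)).1 (by
      rw [← map_mul]; exact (congrArg e (Subtype.ext (t_sq L))).trans (map_one e)) with h | h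
    · exact absurd (congrArg Subtype.val ((map_eq_one_iff e e.injective).1 h)) (t_ne L)
    · exact h
  rcases (quat_facts (e ⟨r, hr⟩)).2.1 with h | h | h
  · exact Or.inl (congrArg Subtype.val ((map_eq_one_iff e e.injective).1 h))
  · exact Or.inr (Or.inl (congrArg Subtype.val (e.injective (h.trans ht.symm))))
  · rw [← map_mul, ← ht] at h
    exact Or.inr (Or.inr (congrArg Subtype.val (e.injective h)))

theorem cardR : Nat.card ↥L.R = 8 := by
  obtain ⟨e⟩ := L.quatR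
  rw [Nat.card_congr e.toEquiv, Nat.card_eq_fintype_card, QuaternionGroup.card]

theorem coverR : Cover L.t L.R where
  mem := L.tR
  sq r hr := by
    rcases R_sq L hr with h | h | h
    · left; rw [h, one_mul]
    · left; rw [h, t_sq]
    · exact Or.inr h
  central r hr := mem_centralizer_singleton_iff.1 (L.leR hr).2
  centre r hr hall := by
    obtain ⟨e⟩ := L.quatR
    rcases quat_centre (e ⟨r, hr⟩) (fun y => by
      obtain ⟨⟨s, hs⟩, rfl⟩ := e.surjective y
      rw [← map_mul, ← map_mul]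
      exact congrArg e (Subtype.ext (hall s hs).eq)) with h | h
    · exact Or.inl (congrArg Subtype.val ((map_eq_one_iff e e.injective).1 h))
    · rcases R_sq L hr with h1 | h1 | h1
      · exact Or.inl h1
      · exact Or.inr h1
      · exfalso
        have h2 := congrArg e (Subtype.ext h1 : (⟨r, hr⟩ * ⟨r, hr⟩ : ↥L.R) = ⟨L.t, L.tR⟩)
        rw [map_mul, h, show (QuaternionGroup.a 2 : QuaternionGroup 2) * .a 2 = 1 by decide] at h2
        exact t_ne L (congrArg Subtype.val ((map_eq_one_iff e e.injective).1 h2.symm))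

theorem czt_eq : centralizer ({L.z} : Set G) ⊓ centralizer ({L.t} : Set G) = czt L := inf_comm _ _

theorem R_le : L.R ≤ czt L := L.leR.trans (le_of_eq (czt_eq L))

theorem R_norm : czt L ≤ normalizer (L.R : Set G) := (le_of_eq (czt_eq L).symm).trans L.normalR

theorem jt_le_czt : jt L.frame L.t ≤ czt L := fun _ hg =>
  ⟨hg.2, mem_centralizer_singleton_iff.2 (jt_comm L hg (z_mem L)).eq⟩

theorem EE_cube {e : G} (he : e ∈ EE L) : e * e * e = 1 := by
  rw [mul_assoc, ← pow_two, ← pow_succ']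
  exact L.cubeQ e he.1

theorem EE_le : EE L ≤ czt L := fun _ he => ⟨he.2, L.leQ he.1⟩

theorem conj_EE {c : G} (hc : c ∈ czt L) {e : G} (he : e ∈ EE L) : c * e * c⁻¹ ∈ EE L := by
  refine ⟨(mem_normalizer_iff.1 (L.normalQ hc.2) e).1 he.1, (ct_iff L).2 ?_⟩
  have h1 := (ct_iff L).1 hc.1
  have h2 := (ct_iff L).1 he.2
  have h3 : c⁻¹ * L.t * c = L.t := by
    calc c⁻¹ * L.t * c = c⁻¹ * (c * L.t * c⁻¹) * c := by rw [h1]
      _ = L.t := by group
  calc c * e * c⁻¹ * L.t * (c * e * c⁻¹)⁻¹ = c * (e * (c⁻¹ * L.t * c) * e⁻¹) * c⁻¹ := by group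
    _ = L.t := by rw [h3, h2, h1]

theorem z_EE : L.z ∈ EE L := ⟨L.zQ, mem_centralizer_singleton_iff.2 L.tz.symm.eq⟩

theorem psi_EE {x : V3} (h : sumV x = 0) : psi L x ∈ EE L :=
  ⟨(psi_mem_Q L x).2 h, (psi_mem L x).2⟩

theorem a_EE : L.j 0 1 ∈ EE L := (congrArg (fun w => w ∈ EE L) (a_eq L)).mpr (psi_EE L (by decide))

theorem a_jt : L.j 0 1 ∈ jt L.frame L.t :=
  (congrArg (fun w => w ∈ jt L.frame L.t) (a_eq L)).mpr (psi_mem L _)

theorem a_notZ : L.j 0 1 ∉ zpowers L.z := by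
  intro h
  obtain ⟨k, hk⟩ := mem_zpowers_iff.1 h
  obtain ⟨m, hm⟩ : ∃ m : ℕ, L.z ^ k = L.z ^ m := by
    refine ⟨(k % 3).toNat, ?_⟩
    have h3 : L.z ^ (3 : ℤ) = 1 := by
      have := pow_orderOf_eq_one L.z
      rw [L.oz] at this
      exact_mod_cast this
    conv_lhs => rw [← Int.emod_add_mul_ediv k 3, zpow_add, zpow_mul, h3, one_zpow, mul_one,
      ← Int.toNat_of_nonneg (Int.emod_nonneg k (by norm_num : (3 : ℤ) ≠ 0)), zpow_natCast]
  rw [hm, z_eq, a_eq, ← psi_nsmul] at hk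
  have key : ∀ m : ℕ, m • ((1, 1, 1) : V3) ≠ (1, 2, 0) := by
    intro m e
    have h1 := congrArg Prod.fst e
    have h2 := congrArg (fun q : V3 => q.2.1) e
    simp at h1 h2
    rw [h1] at h2
    exact absurd h2 (by decide)
  exact key m (psi_inj L hk)

/-- A centralizer in `C(z, t)` of the point two is inside the frame. -/
theorem free3 {r : G} (hr : r ∈ L.R) (h : Commute (psi L (pv 2)) r) : r = 1 ∨ r = L.t := by
  rcases R_sq L hr with h1 | h1 | h1
  · exact Or.inl h1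
  · exact Or.inr h1
  exfalso
  refine no_sqrt L ⟨cent_jt_le L ⟨(R_le L hr).1, mem_centralizer_iff.2 fun g hg => ?_⟩, (R_le L hr).1⟩ h1
  obtain ⟨x, rfl⟩ := psi_surj L hg
  have key : ∀ x : V3, x = (x.1 - x.2.1).val • (1, 0, 2) + x.2.1.val • (1, 1, 1) + (x.2.2 - 2 * (x.1 - x.2.1) - x.2.1).val • pv 2 := by
    decide +kernel
  have hz : Commute (psi L ((1, 1, 1) : V3)) r :=
    (z_eq L) ▸ (mem_centralizer_singleton_iff.1 (R_le L hr).2).symm
  have hE : Commute (psi L ((1, 0, 2) : V3)) r := (L.commR r hr _ (psi_EE L (by decide))).symm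
  rw [key x, psi_add, psi_add, psi_nsmul, psi_nsmul, psi_nsmul]
  exact (((hE.pow_left _).mul_left (hz.pow_left _)).mul_left (h.pow_left _)).eq

section Finite

variable [Finite G]

/-- In `E` each element outside the centre is conjugate to its multiples by the centre. -/
theorem EE_coset {e : G} (he : e ∈ EE L) (hez : e ∉ zpowers L.z) {w : G} (hw : w ∈ zpowers L.z) :
    ∃ f ∈ EE L, f * e * f⁻¹ = e * w := by
  classical
  have : Fact (Nat.Prime 3) := ⟨Nat.prime_three⟩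
  obtain ⟨f, hf, hfe⟩ : ∃ f ∈ EE L, ¬ Commute e f := by
    by_contra hh
    push Not at hh
    exact hez (L.centreE e he hh)
  set Z := (center ↥(EE L)) with hZ
  have hzc : (⟨L.z, z_EE L⟩ : ↥(EE L)) ∈ Z := mem_center_iff.2 fun g => Subtype.ext
    (mem_centralizer_singleton_iff.1 (EE_le L g.2).2)
  have hcz : ∀ g ∈ Z, (g : G) ∈ zpowers L.z := fun g hg =>
    L.centreE g g.2 fun f hf => congrArg Subtype.val (mem_center_iff.1 hg ⟨f, hf⟩).symm
  have hZcard : Nat.card ↥Z = 3 := by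
    have : Z = zpowers (⟨L.z, z_EE L⟩ : ↥(EE L)) := by
      refine le_antisymm (fun g hg => ?_) (zpowers_le.2 hzc)
      obtain ⟨k, hk⟩ := mem_zpowers_iff.1 (hcz g hg)
      exact mem_zpowers_iff.2 ⟨k, Subtype.ext (by rw [SubgroupClass.coe_zpow]; exact hk)⟩
    rw [this, Nat.card_zpowers, orderOf_mk, L.oz]
  have hq : Nat.card (↥(EE L) ⧸ Z) = 3 ^ 2 := by
    have h := Z.card_eq_card_quotient_mul_card_subgroup
    rw [L.cardE, hZcard] at h
    norm_num
    omega
  have hcomm : ∀ g h : ↥(EE L), g * h * g⁻¹ * h⁻¹ ∈ Z := by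
    intro g h
    rw [← QuotientGroup.eq_one_iff]
    simp only [QuotientGroup.mk_mul, QuotientGroup.mk_inv]
    rw [(IsPGroup.isMulCommutative_of_card_eq_prime_sq hq).1.1 (g : ↥(EE L) ⧸ Z) h, mul_inv_cancel_right,
      mul_inv_cancel]
  have hd : f * e * f⁻¹ * e⁻¹ ∈ zpowers L.z := hcz _ (hcomm ⟨f, hf⟩ ⟨e, he⟩)
  set d := f * e * f⁻¹ * e⁻¹ with hddef
  have hd1 : d ≠ 1 := fun h => hfe (by
    rw [hddef, mul_inv_eq_one, mul_inv_eq_iff_eq_mul] at h
    exact h.symm)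
  have hdz : zpowers d = zpowers L.z := by
    refine eq_of_le_of_card_ge (zpowers_le.2 hd) ?_
    rw [Nat.card_zpowers, Nat.card_zpowers, L.oz]
    have h3 : orderOf d ∣ 3 := L.oz ▸ orderOf_dvd_of_mem_zpowers hd
    rcases (Nat.dvd_prime Nat.prime_three).1 h3 with h | h
    · exact absurd (orderOf_eq_one_iff.1 h) hd1
    · exact h.ge
  obtain ⟨k, hk⟩ := mem_zpowers_iff.1 (hdz.symm ▸ hw)
  refine ⟨f ^ k, zpow_mem hf k, ?_⟩
  have hfd : Commute f d := by
    obtain ⟨m, hm⟩ := mem_zpowers_iff.1 hd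
    exact hm ▸ (show Commute f L.z from mem_centralizer_singleton_iff.1 (EE_le L hf).2).zpow_right m
  have key : ∀ m : ℕ, f ^ m * e * (f ^ m)⁻¹ = e * d ^ m := by
    have hde : Commute d e := by
      obtain ⟨m, hm⟩ := mem_zpowers_iff.1 hd
      exact hm ▸ (show Commute e L.z from mem_centralizer_singleton_iff.1 (EE_le L he).2).symm.zpow_left m
    intro m
    induction m with
    | zero => simp
    | succ m ih =>
      have h1 : f * e * f⁻¹ = e * d := by rw [hde.symm.eq, hddef, inv_mul_cancel_right]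
      calc f ^ (m + 1) * e * (f ^ (m + 1))⁻¹ = f ^ m * (f * e * f⁻¹) * (f ^ m)⁻¹ := by rw [pow_succ]; group
        _ = f ^ m * e * (f ^ m)⁻¹ * (f ^ m * d * (f ^ m)⁻¹) := by rw [h1]; group
        _ = e * d ^ (m + 1) := by
          rw [ih, (hfd.pow_left m).eq, mul_inv_cancel_right, pow_succ, mul_assoc]
  rw [← hk]
  obtain ⟨m, rfl | rfl⟩ := k.eq_nat_or_neg
  · rw [zpow_natCast, zpow_natCast]; exact key m
  · rw [zpow_neg, zpow_natCast, zpow_neg, zpow_natCast]
    have h2 := key m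
    have h3 : Commute (d ^ m) (f ^ m) := (hfd.pow_pow m m).symm
    calc (f ^ m)⁻¹ * e * (f ^ m)⁻¹⁻¹ = (f ^ m)⁻¹ * (f ^ m * e * (f ^ m)⁻¹ * (d ^ m)⁻¹) * f ^ m := by
          rw [h2]; group
      _ = e * ((f ^ m)⁻¹ * (d ^ m)⁻¹ * f ^ m) := by group
      _ = e * (d ^ m)⁻¹ := by rw [mul_assoc (f ^ m)⁻¹, h3.inv_left.eq, inv_mul_cancel_left]

/-- The centralizer of `z`, `t` and `a` is `R π`. -/
theorem cza {g : G} (hg : g ∈ czt L) (hga : Commute g (L.j 0 1)) :
    ∃ r ∈ L.R, ∃ y ∈ jt L.frame L.t, g = r * y := by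
  classical
  let act : MulAction ↥(czt L) G :=
    MulAction.compHom G ((MulAut.conj : G →* MulAut G).comp (czt L).subtype)
  have hsmul : ∀ (c : ↥(czt L)) (x : G), c • x = (c : G) * x * (c : G)⁻¹ := fun _ _ => rfl
  have horb : MulAction.orbit ↥(czt L) (L.j 0 1) = ((EE L : Set G) \ (zpowers L.z : Set G)) := by
    ext e
    constructor
    · rintro ⟨c, rfl⟩
      refine ⟨conj_EE L c.2 (a_EE L), fun h => a_notZ L ?_⟩
      have hcz : ∀ w ∈ zpowers L.z, (c : G)⁻¹ * w * c = w := by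
        rintro _ ⟨k, rfl⟩
        have := ((show Commute (c : G) L.z from mem_centralizer_singleton_iff.1 c.2.2).zpow_right k).eq
        rw [mul_assoc, ← this, inv_mul_cancel_left]
      have := hcz _ h
      simp only [hsmul] at h this
      rw [show (c : G)⁻¹ * ((c : G) * L.j 0 1 * (c : G)⁻¹) * c = L.j 0 1 by group] at this
      exact this ▸ h
    · rintro ⟨he, hez⟩
      obtain ⟨c, hc, w, hw, hce⟩ := L.transE e he hez
      obtain ⟨f, hf, hfe⟩ := EE_coset L he hez hw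
      refine ⟨⟨f⁻¹ * c, mul_mem (inv_mem (EE_le L hf)) ((czt_eq L).le hc)⟩, ?_⟩
      show f⁻¹ * c * L.j 0 1 * (f⁻¹ * c)⁻¹ = e
      calc f⁻¹ * c * L.j 0 1 * (f⁻¹ * c)⁻¹ = f⁻¹ * (c * L.j 0 1 * c⁻¹) * f := by group
        _ = e := by rw [hce, ← hfe]; group
  have h24 : (MulAction.stabilizer ↥(czt L) (L.j 0 1)).index = 24 := by
    rw [MulAction.index_stabilizer, horb, Set.ncard_diff (fun x hx => zpowers_le.2 (z_EE L) hx),
      ← Nat.card_coe_set_eq, ← Nat.card_coe_set_eq]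
    show Nat.card ↥(EE L) - Nat.card ↥(zpowers L.z) = 24
    rw [L.cardE, Nat.card_zpowers, L.oz]
  have hS : Nat.card ↥(MulAction.stabilizer ↥(czt L) (L.j 0 1)) = 216 := by
    have h := (MulAction.stabilizer ↥(czt L) (L.j 0 1)).card_mul_index
    have h5184 : Nat.card ↥(czt L) = 5184 := czt_eq L ▸ L.cardZT
    rw [h24, h5184] at h
    omega
  have hmem : ∀ p : ↥L.R × ↥(jt L.frame L.t),
      (⟨(p.1 : G) * p.2, mul_mem (R_le L p.1.2) (jt_le_czt L p.2.2)⟩ : ↥(czt L)) ∈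
        MulAction.stabilizer ↥(czt L) (L.j 0 1) := fun p => by
    rw [MulAction.mem_stabilizer_iff, hsmul]
    exact mul_inv_eq_iff_eq_mul.2 ((L.commR _ p.1.2 _ (a_EE L)).mul_left (jt_comm L p.2.2 (a_jt L))).eq
  let φ : ↥L.R × ↥(jt L.frame L.t) → ↥(MulAction.stabilizer ↥(czt L) (L.j 0 1)) := fun p => ⟨_, hmem p⟩
  have hinj : Function.Injective φ := by
    intro p q h
    have h1 : (p.1 : G) * p.2 = q.1 * q.2 :=
      congrArg (fun x : ↥(MulAction.stabilizer ↥(czt L) (L.j 0 1)) => ((x : ↥(czt L)) : G)) h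
    have h2 : (q.1 : G)⁻¹ * p.1 = (q.2 : G) * (p.2 : G)⁻¹ := by
      rw [eq_mul_inv_iff_mul_eq, mul_assoc, h1, inv_mul_cancel_left]
    set w := (q.1 : G)⁻¹ * p.1
    have hw : w * w * w = 1 := J_cube (Φ := L.frame) (h2 ▸ mul_mem q.2.2.1 (inv_mem p.2.2.1))
    have hw1 : w = 1 := by
      rcases (show w = 1 ∨ w = L.t ∨ w * w = L.t from R_sq L (mul_mem (inv_mem q.1.2) p.1.2)) with e | e | e
      · exact e
      · rw [e, t_sq, one_mul] at hw; exact absurd hw (t_ne L)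
      · rw [e] at hw
        rw [eq_inv_of_mul_eq_one_right hw, t_inv, t_sq] at e
        exact absurd e.symm (t_ne L)
    rw [hw1, eq_mul_inv_iff_mul_eq, one_mul] at h2
    exact Prod.ext (Subtype.ext (inv_mul_eq_one.1 hw1).symm) (Subtype.ext h2)
  have hb : Function.Bijective φ := (Nat.bijective_iff_injective_and_card φ).2
    ⟨hinj, by rw [hS, Nat.card_prod, cardR, card_jt]⟩
  obtain ⟨⟨r, y⟩, hry⟩ := hb.2 ⟨⟨g, hg⟩, by
    rw [MulAction.mem_stabilizer_iff, hsmul]; exact mul_inv_eq_iff_eq_mul.2 hga.eq⟩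
  exact ⟨r, r.2, y, y.2, congrArg (fun x : ↥(MulAction.stabilizer ↥(czt L) (L.j 0 1)) => ((x : ↥(czt L)) : G)) hry.symm⟩

/-- A subgroup of order prime to three of `C(z, t)` normalised by `π` is inside `R`. -/
theorem max3 (X : Subgroup G) (hX : X ≤ czt L) (hcop : (Nat.card ↥X).Coprime 3)
    (hn : jt L.frame L.t ≤ normalizer (X : Set G)) : X ≤ L.R := by
  intro x hx
  have hc : x * L.j 0 1 * x⁻¹ * (L.j 0 1)⁻¹ ∈ EE L := mul_mem (conj_EE L (hX hx) (a_EE L)) (inv_mem (a_EE L))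
  have hc' : x * L.j 0 1 * x⁻¹ * (L.j 0 1)⁻¹ ∈ X := by
    rw [mul_assoc x, mul_assoc x]
    exact mul_mem hx ((mem_normalizer_iff.1 (hn (a_jt L)) _).1 (inv_mem hx))
  have hone : x * L.j 0 1 * x⁻¹ * (L.j 0 1)⁻¹ = 1 := by
    by_contra h
    have h3 : 3 ∣ Nat.card ↥X := by
      rw [← orderOf_eq_prime (p := 3) (by rw [pow_succ, pow_two]; exact EE_cube L hc) h]
      simpa using orderOf_dvd_natCard (⟨_, hc'⟩ : ↥X)
    have := Nat.dvd_gcd h3 (dvd_refl 3)
    rw [hcop] at this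
    norm_num at this
  obtain ⟨r, hr, y, hy, rfl⟩ := cza L (hX hx) (mul_inv_eq_iff_eq_mul.1 (mul_inv_eq_one.1 hone))
  have key : ∀ n : ℕ, ∃ r' ∈ L.R, (r * y) ^ n = r' * y ^ n := by
    intro n
    induction n with
    | zero => exact ⟨1, one_mem _, by simp⟩
    | succ n ih =>
      obtain ⟨r', hr', h⟩ := ih
      refine ⟨r' * (y ^ n * r * (y ^ n)⁻¹), mul_mem hr'
        ((mem_normalizer_iff.1 (R_norm L (pow_mem (jt_le_czt L hy) n)) r).1 hr), ?_⟩
      rw [pow_succ, h, pow_succ]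
      group
  obtain ⟨r', hr', h⟩ := key 3
  rw [show y ^ 3 = 1 by rw [pow_succ, pow_two, J_cube (Φ := L.frame) hy.1], mul_one] at h
  obtain ⟨m, hm⟩ := exists_pow_eq_self_of_coprime (x := r * y) (n := 3)
    (Nat.Coprime.coprime_dvd_right (by simpa using orderOf_dvd_natCard (⟨_, hx⟩ : ↥X)) hcop.symm)
  rw [← hm, h]
  exact pow_mem hr' m

end Finite

end Cfsg.Agent.CoTwoThree.B
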