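import Cfsg.Agent.CoTwoThree.B.Pairs
import Cfsg.Agent.Coprime.Generation

/-!
The centralizer of `z` and `t` normalises the product; the product contains every subgroup of order
prime to three of `C(t)` normalised by `π`, and its centralizer in `C(t)`.
-/

set_option autoImplicit false
set_option linter.unusedSectionVars false

open Subgroup Cfsg
open Cfsg.Agent.U62Three.K (Cover pt root ct jt frame_commute j_mem J_cube)

namespace Cfsg.Agent.CoTwoThree.B

universe u

variable {G : Type u} [Group G] [Finite G] (L : Local G)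

theorem comm_EE {f e : G} (hf : f ∈ EE L) (he : e ∈ EE L) : f * e * f⁻¹ * e⁻¹ ∈ zpowers L.z := by
  classical
  have : Fact (Nat.Prime 3) := ⟨Nat.prime_three⟩
  set Z := (center ↥(EE L)) with hZ
  have hzc : (⟨L.z, z_EE L⟩ : ↥(EE L)) ∈ Z := mem_center_iff.2 fun g => Subtype.ext
    (mem_centralizer_singleton_iff.1 (EE_le L g.2).2)
  have hcz : ∀ g ∈ Z, (g : G) ∈ zpowers L.z := fun g hg =>
    L.centreE g g.2 fun f hf => congrArg Subtype.val (mem_center_iff.1 hg ⟨f, hf⟩).symm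
  have hZcard : Nat.card ↥Z = 3 := by
    have : Z = zpowers (⟨L.z, z_EE L⟩ : ↥(EE L)) := by
      refine le_antisymm (fun g hg => ?_) (zpowers_le.2 hzc)
      obtain ⟨k, hk⟩ := mem_zpowers_iff.1 (hcz g hg)
      exact mem_zpowers_iff.2 ⟨k, Subtype.ext (by rw [SubgroupClass.coe_zpow]; exact hk)⟩
    rw [this, Nat.card_zpowers, orderOf_mk, L.oz]
  have hq : Nat.card (↥(EE L) ⧸ Z) = 3 ^ 2 := by
    have h := Z.card_eq_card_quotient_mul_card_subgroup
    rw [L.cardE, hZcard] at h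
    norm_num
    omega
  refine hcz (⟨f, hf⟩ * ⟨e, he⟩ * ⟨f, hf⟩⁻¹ * ⟨e, he⟩⁻¹) ?_
  rw [← QuotientGroup.eq_one_iff]
  simp only [QuotientGroup.mk_mul, QuotientGroup.mk_inv]
  rw [(IsPGroup.isMulCommutative_of_card_eq_prime_sq hq).1.1 ((⟨f, hf⟩ : ↥(EE L)) : ↥(EE L) ⧸ Z) (⟨e, he⟩ : ↥(EE L)),
    mul_inv_cancel_right, mul_inv_cancel]

/-- The part of `π` in `E`. -/
abbrev plane : Subgroup G := EE L ⊓ jt L.frame L.t

theorem card_plane : 9 ≤ Nat.card ↥(plane L) := by
  classical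
  let f : ZMod 3 × ZMod 3 → ↥(plane L) := fun p =>
    ⟨psi L (p.1, p.2, -(p.1 + p.2)), psi_EE L (by simp only [sumV]; ring), psi_mem L _⟩
  have hf : Function.Injective f := fun p q h => by
    have := psi_inj L (congrArg Subtype.val h)
    simp only [Prod.mk.injEq] at this
    exact Prod.ext this.1 this.2.1
  simpa [Nat.card_prod] using Nat.card_le_card_of_injective f hf

/-- In `E` only the plane centralizes the root. -/
theorem EE_cent {e : G} (he : e ∈ EE L) (hc : Commute e (psi L av)) : e ∈ plane L := by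
  set H := EE L ⊓ centralizer ({psi L av} : Set G) with hH
  have hle : plane L ≤ H := fun y hy =>
    ⟨hy.1, mem_centralizer_singleton_iff.2 (jt_comm L hy.2 (psi_mem L av)).eq⟩
  have hdvd : Nat.card ↥H ∣ 3 ^ 3 := by
    rw [show (3 ^ 3 : ℕ) = 27 by norm_num, ← L.cardE]
    exact card_dvd_of_le inf_le_left
  have hne : Nat.card ↥H ≠ 27 := by
    intro h
    have hEH : H = EE L := eq_of_le_of_card_ge inf_le_left (le_of_eq (L.cardE.trans h.symm))
    refine a_notZ L (L.centreE _ (a_EE L) fun f hf => ?_)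
    have hf : f ∈ H := hEH.ge hf
    rw [a_eq]
    exact (mem_centralizer_singleton_iff.1 hf.2).symm
  obtain ⟨k, hk, hcard⟩ := (Nat.dvd_prime_pow Nat.prime_three).1 hdvd
  have h9 := (card_plane L).trans (Nat.card_le_card_of_injective _ (inclusion_injective hle))
  have hk2 : k = 2 := by
    rw [hcard] at hne h9
    interval_cases k <;> simp_all
  have heq : plane L = H := eq_of_le_of_card_ge hle (by rw [hcard, hk2]; exact card_plane L)
  rw [heq]
  exact ⟨he, mem_centralizer_singleton_iff.2 hc.eq⟩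

/-- `E` normalises `π`. -/
theorem EE_norm {e : G} (he : e ∈ EE L) {y : G} (hy : y ∈ jt L.frame L.t) : e * y * e⁻¹ ∈ jt L.frame L.t := by
  have hf : e * y * e⁻¹ * y⁻¹ ∈ EE L := by
    rw [mul_assoc e, mul_assoc e]
    exact mul_mem he (conj_EE L (jt_le_czt L hy) (inv_mem he))
  have hw := comm_EE L he (a_EE L)
  set w := e * L.j 0 1 * e⁻¹ * (L.j 0 1)⁻¹ with hwdef
  have h1 : Commute (e * y * e⁻¹) (e * L.j 0 1 * e⁻¹) := (jt_comm L hy (a_jt L)).map (MulAut.conj e)
  have h2 : Commute (e * y * e⁻¹) w := by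
    obtain ⟨k, hk⟩ := mem_zpowers_iff.1 hw
    rw [← hk]
    have hcz : e * y * e⁻¹ ∈ czt L :=
      mul_mem (mul_mem (EE_le L he) (jt_le_czt L hy)) (inv_mem (EE_le L he))
    exact (show Commute (e * y * e⁻¹) L.z from mem_centralizer_singleton_iff.1 hcz.2).zpow_right k
  have h3 : Commute (e * y * e⁻¹) (L.j 0 1) := by
    have := h2.inv_right.mul_right h1
    rwa [show w⁻¹ * (e * L.j 0 1 * e⁻¹) = L.j 0 1 by rw [hwdef]; group] at this
  have h4 : Commute (e * y * e⁻¹ * y⁻¹) (psi L av) := by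
    rw [← a_eq]
    exact h3.mul_left (jt_comm L hy (a_jt L)).inv_left
  have h5 := mul_mem (EE_cent L hf h4).2 hy
  rwa [inv_mul_cancel_right] at h5

theorem three_cycle : ∀ σ : Equiv.Perm (Fin 4), σ 3 = 3 → σ ≠ 1 → σ * σ * σ = 1 →
    σ 2 ≠ 2 ∧ σ (σ 2) ≠ 2 ∧ σ (σ 2) ≠ σ 2 ∧ σ 2 ≠ 3 ∧ σ (σ 2) ≠ 3 := by
  decide +kernel

/-- An element of `E` off the plane moves the first three points cyclically. -/
theorem EE_move {e : G} (he : e ∈ EE L) (hout : e ∉ jt L.frame L.t) :
    ∃ σ : Equiv.Perm (Fin 4), σ 3 = 3 ∧ σ ≠ 1 ∧ σ * σ * σ = 1 ∧ e ∈ njt L ∧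
      ∀ i, e * psi L (pv i) * e⁻¹ = psi L (pv (σ i)) := by
  have hn := norm_jt_le L he.2 fun g hg => EE_norm L he hg
  obtain ⟨σ, hσ⟩ := signed L he.2 fun g hg => EE_norm L he hg
  have h3 : e * psi L (pv 3) * e⁻¹ = psi L (pv 3) := by
    have := ((comm_z_iff L).1 (EE_le L he).2).eq
    rw [this, mul_inv_cancel_right]
  have key : ∀ l : Fin 4, (pv l = pv 3 → l = 3) ∧ -pv l ≠ pv 3 := by decide +kernel
  rcases hσ with h | h
  · refine ⟨σ, (key _).1 (psi_inj L ((h 3).symm.trans h3)), fun h1 => hout ?_, ?_, hn, h⟩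
    · have e01 : av = pv 0 - pv 1 := by decide
      refine (EE_cent L he ?_).2
      have h2 : e * psi L av * e⁻¹ = psi L av := by
        rw [e01, psi_sub, ← conj_mul, ← conj_inv, h, h, h1]
        rfl
      exact mul_inv_eq_iff_eq_mul.1 h2
    · ext1 i
      have hinj : ∀ a b : Fin 4, pv a = pv b → a = b := by decide +kernel
      refine hinj _ _ (psi_inj L ?_)
      simp only [Equiv.Perm.mul_apply, Equiv.Perm.one_apply]
      rw [← h, ← h, ← h]
      calc e * (e * (e * psi L (pv i) * e⁻¹) * e⁻¹) * e⁻¹ = e * e * e * psi L (pv i) * (e * e * e)⁻¹ := by group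
        _ = psi L (pv i) := by rw [EE_cube L he, one_mul, inv_one, mul_one]
  · exact absurd (psi_inj L ((h 3).symm.trans h3)) (key _).2

theorem not_zpow_root {x : V3} (hx : psi L x ∈ zpowers L.z) {c : G} (hc : c ∈ czt L)
    (he : c * psi L av * c⁻¹ = psi L x) : False := by
  refine a_notZ L ?_
  obtain ⟨k, hk⟩ := mem_zpowers_iff.1 hx
  rw [a_eq, show psi L av = c⁻¹ * psi L x * c by rw [← he]; group, ← hk,
    show c⁻¹ * L.z ^ k * c = L.z ^ k by
      rw [mul_assoc, ← ((show Commute c L.z from mem_centralizer_singleton_iff.1 hc.2).zpow_right k).eq,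
        inv_mul_cancel_left]]
  exact zpow_mem (mem_zpowers _) k

theorem conj_commute_iff {c x y : G} (h : Commute x y) : Commute (c * x * c⁻¹) (c * y * c⁻¹) :=
  h.map (MulAut.conj c)

/-- `C(z, t)` moves the quaternion group at two into the product. -/
theorem conj_two {c : G} (hc : c ∈ czt L) {r : G} (hr : r ∈ RR L 2) : c * r * c⁻¹ ∈ KK L := by
  classical
  set e := c * L.j 0 1 * c⁻¹ with he
  have heE : e ∈ EE L := conj_EE L hc (a_EE L)
  have heq : c * psi L av * c⁻¹ = e := by rw [he, a_eq]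
  have hct : c * L.t * c⁻¹ = L.t := (ct_iff L).1 hc.1
  have hR3 : ∀ p ∈ RR L 3, c * p * c⁻¹ ∈ RR L 3 ∧ c⁻¹ * p * c ∈ RR L 3 := fun p hp => by
    rw [RR_three] at hp ⊢
    have hN := R_norm L hc
    refine ⟨(mem_normalizer_iff.1 hN p).1 hp, ?_⟩
    have := (mem_normalizer_iff.1 (inv_mem hN) p).1 hp
    rwa [inv_inv] at this
  have hka : ∀ q ∈ RR L 2, Commute q (psi L av) := fun q hq =>
    (comm_RR L (by unfold kerAt; decide) hq).symm
  by_cases hin : e ∈ jt L.frame L.t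
  · obtain ⟨x, hx⟩ := psi_surj L hin
    have hs : sumV x = 0 := (psi_mem_Q L x).1 (hx ▸ heE.1)
    rcases roots_perp x hs with ⟨d, rfl⟩ | ⟨k, l, hkl, hk, hl, rfl⟩
    · exfalso
      refine not_zpow_root L (x := (d, d, d)) ?_ hc (heq.trans hx.symm)
      have key : ∀ d : ZMod 3, ((d, d, d) : V3) = d.val • (1, 1, 1) := by decide +kernel
      rw [key d, psi_nsmul, ← z_eq]
      exact pow_mem (mem_zpowers _) _
    · have key : ∀ k l : Fin 4, k ≠ l → k ≠ 3 → l ≠ 3 → ∃ m, m ≠ 3 ∧ m ≠ k ∧ m ≠ l := by decide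
      obtain ⟨m, hm3, hmk, hml⟩ := key k l hkl hk hl
      refine RR_KK L m (root_two L ⟨hm3.symm, hkl, hk.symm, hl.symm, hmk, hml⟩
        ((RR L 2).map (MulAut.conj c).toMonoidHom) ?_ ?_ ?_ ⟨r, hr, rfl⟩)
      · rintro _ ⟨q, hq, rfl⟩
        refine ⟨(ct L.t).mul_mem ((ct L.t).mul_mem hc.1 (RR_le L 2 q hq).1) ((ct L.t).inv_mem hc.1), ?_⟩
        rw [hx, ← heq]
        exact conj_commute_iff (hka q hq)
      · rw [card_map_of_injective (MulAut.conj c).injective, card_RR]; decide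
      · rintro _ ⟨q, hq, rfl⟩ p hp
        have h1 := conj_commute_iff (c := c) (comm_pair L (show (2 : Fin 4) ≠ 3 by decide) q hq _ (hR3 p hp).2)
        rwa [show c * (c⁻¹ * p * c) * c⁻¹ = p by group] at h1
  · obtain ⟨σ, hσ3, hσ1, hσc, hen, hσ⟩ := EE_move L heE hin
    obtain ⟨hs1, hs2, hs3, hs4, hs5⟩ := three_cycle σ hσ3 hσ1 hσc
    have hmap : ∀ b, ∀ q ∈ RR L b, e * q * e⁻¹ ∈ RR L (σ b) := fun b q hq => conj_mem_RR L hen hσ hq
    have hm1 : ∀ q ∈ RR L 2, e * q * e⁻¹ ∈ RR L (σ 2) := hmap 2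
    have hm2 : ∀ q ∈ RR L 2, e * (e * q * e⁻¹) * e⁻¹ ∈ RR L (σ (σ 2)) := fun q hq => hmap _ _ (hm1 q hq)
    have he3 : e * e * e = 1 := EE_cube L heE
    let d : ↥(RR L 2) →* G :=
      { toFun := fun q => q.1 * (e * q.1 * e⁻¹) * (e * (e * q.1 * e⁻¹) * e⁻¹)
        map_one' := by simp
        map_mul' := fun p q => by
          have c1 : Commute (e * p.1 * e⁻¹) q.1 := comm_pair L hs1 _ (hm1 _ p.2) _ q.2
          have c2 : Commute (e * (e * p.1 * e⁻¹) * e⁻¹) (q.1 * (e * q.1 * e⁻¹)) :=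
            (comm_pair L hs2 _ (hm2 _ p.2) _ q.2).mul_right (comm_pair L hs3 _ (hm2 _ p.2) _ (hm1 _ q.2))
          rw [c2.mul_mul_mul_comm, c1.mul_mul_mul_comm, conj_mul, conj_mul, conj_mul, Subgroup.coe_mul] }
    have hde : ∀ q, Commute e (d q) := fun q => by
      refine mul_inv_eq_iff_eq_mul.1 ?_
      show e * (q.1 * (e * q.1 * e⁻¹) * (e * (e * q.1 * e⁻¹) * e⁻¹)) * e⁻¹ = _
      rw [← conj_mul, ← conj_mul,
        show e * (e * (e * q.1 * e⁻¹) * e⁻¹) * e⁻¹ = e * e * e * q.1 * (e * e * e)⁻¹ by group, he3]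
      have c1 : Commute (e * q.1 * e⁻¹ * (e * (e * q.1 * e⁻¹) * e⁻¹)) q.1 :=
        (comm_pair L hs1 _ (hm1 _ q.2) _ q.2).mul_left (comm_pair L hs2 _ (hm2 _ q.2) _ q.2)
      rw [inv_one, mul_one, one_mul, c1.eq]
      exact (mul_assoc _ _ _).symm
    have het2 : e * L.t * e⁻¹ = L.t := (ct_iff L).1 heE.2
    have hdinj : Function.Injective d := by
      rw [← MonoidHom.ker_eq_bot_iff, eq_bot_iff]
      intro q hq
      have hq1 : q.1 * (e * q.1 * e⁻¹ * (e * (e * q.1 * e⁻¹) * e⁻¹)) = 1 := by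
        rw [← mul_assoc]; exact hq
      have hqc : ∀ p ∈ RR L 2, Commute q.1 p := fun p hp => by
        rw [eq_inv_of_mul_eq_one_left hq1]
        exact ((comm_pair L hs1 _ (hm1 _ q.2) _ hp).mul_left (comm_pair L hs2 _ (hm2 _ q.2) _ hp)).inv_left
      rcases (cover_RR L 2).centre q.1 q.2 hqc with h0 | h0
      · exact mem_bot.2 (Subtype.ext h0)
      · exfalso
        rw [h0, het2, het2, t_sq, mul_one] at hq1
        exact t_ne L hq1
    have hdK : d.range ≤ KK L := by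
      rintro _ ⟨q, rfl⟩
      exact mul_mem (mul_mem (RR_KK L 2 q.2) (RR_KK L _ (hm1 _ q.2))) (RR_KK L _ (hm2 _ q.2))
    have hdR : ∀ q, ∀ p ∈ RR L 3, Commute (d q) p := fun q p hp =>
      ((comm_pair L (by decide) _ q.2 p hp).mul_left (comm_pair L hs4 _ (hm1 _ q.2) p hp)).mul_left
        (comm_pair L hs5 _ (hm2 _ q.2) p hp)
    have hback : c⁻¹ * L.t * c = L.t := by
      calc c⁻¹ * L.t * c = c⁻¹ * (c * L.t * c⁻¹) * c := by rw [hct]
        _ = L.t := by group
    have hle : d.range.map (MulAut.conj c⁻¹).toMonoidHom ≤ RR L 2 := by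
      refine root_two L (i := 3) (m := 2) (k := 0) (l := 1) (by decide) _ ?_ ?_ ?_
      · rintro _ ⟨_, ⟨q, rfl⟩, rfl⟩
        simp only [MulEquiv.coe_toMonoidHom, MulAut.conj_apply, inv_inv]
        refine ⟨(ct L.t).mul_mem ((ct L.t).mul_mem ((ct L.t).inv_mem hc.1) (KK_le L (hdK ⟨q, rfl⟩))) hc.1, ?_⟩
        have h1 := conj_commute_iff (c := c⁻¹) (hde q).symm
        rw [inv_inv, show c⁻¹ * e * c = L.j 0 1 by rw [he]; group] at h1
        rw [show pv 0 - pv 1 = av by decide, ← a_eq]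
        exact h1
      · rw [card_map_of_injective (MulAut.conj c⁻¹).injective,
          ← Nat.card_congr (MonoidHom.ofInjective hdinj).toEquiv, card_RR]
        decide
      · rintro _ ⟨_, ⟨q, rfl⟩, rfl⟩ p hp
        have h1 := conj_commute_iff (c := c⁻¹) (hdR q _ (hR3 p hp).1)
        simp only [MulEquiv.coe_toMonoidHom, MulAut.conj_apply, inv_inv] at h1 ⊢
        rwa [show c⁻¹ * (c * p * c⁻¹) * c = p by group] at h1
    have heq2 := eq_of_le_of_card_ge hle (by
      rw [card_map_of_injective (MulAut.conj c⁻¹).injective,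
        ← Nat.card_congr (MonoidHom.ofInjective hdinj).toEquiv])
    obtain ⟨y, hy, hyr⟩ := heq2.symm ▸ hr
    simp only [MulEquiv.coe_toMonoidHom, MulAut.conj_apply, inv_inv] at hyr
    rw [show c * r * c⁻¹ = y by rw [← hyr]; group]
    exact hdK hy

/-- `C(z, t)` normalises the product. -/
theorem czt_local {c : G} (hc : c ∈ czt L) : c ∈ L.normC (KK L) := by
  refine ⟨norm_KK_of L fun m r hr => ?_, hc.1⟩
  rcases eq_or_ne m 3 with rfl | hm
  · rw [RR_three] at hr
    exact RR_KK L 3 (RR_three L ▸ (mem_normalizer_iff.1 (R_norm L hc) r).1 hr)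
  obtain ⟨n, hn, hσ⟩ := exists_perm L (Equiv.swap 2 m)
  have hnz : n ∈ czt L := by
    refine ⟨hn.2, (comm_z_iff L).2 (mul_inv_eq_iff_eq_mul.1 ?_)⟩
    rw [hσ, Equiv.swap_apply_of_ne_of_ne (by decide) hm.symm]
  have hr' : n⁻¹ * r * n ∈ RR L 2 := by
    have h1 := map_RR L hn (i := 2) (m := m) (Or.inl (by rw [hσ, Equiv.swap_apply_left]))
    rw [← h1, mem_map_equiv, MulAut.conj_symm_apply] at hr
    exact hr
  have := conj_two L (mul_mem hc hnz) hr'
  rwa [show c * n * (n⁻¹ * r * n) * (c * n)⁻¹ = c * r * c⁻¹ by group] at this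

/-- The centralizer of a point in `C(t)` normalises the product. -/
theorem pt_local (i : Fin 4) {g : G} (hg : g ∈ ct L.t) (hc : Commute g (psi L (pv i))) : g ∈ L.normC (KK L) := by
  have h := njt_local L (mover_mem L i)
  have := mul_mem (mul_mem h (czt_local L (back L hg hc))) (inv_mem h)
  rwa [show mover L i * ((mover L i)⁻¹ * g * mover L i) * (mover L i)⁻¹ = g by group] at this

theorem jt_local : jt L.frame L.t ≤ L.normC (KK L) := (jt_le_njt L).trans (njt_local L)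

/-- Every subgroup of order prime to three of `C(t)` normalised by `π` is inside the product. -/
theorem sigK (X : Subgroup G) (hX : X ≤ ct L.t) (hcop : (Nat.card ↥X).Coprime 3)
    (hn : jt L.frame L.t ≤ normalizer (X : Set G)) : X ≤ KK L := by
  set A := plane L with hA
  have hAc : IsMulCommutative ↥A := ⟨⟨fun a b => Subtype.ext (jt_comm L a.2.2 b.2.2).eq⟩⟩
  have hA3 : IsPGroup 3 ↥A := fun a => ⟨1, Subtype.ext (by
    show (a : G) ^ 3 ^ 1 = 1
    rw [pow_one, pow_succ, pow_two, J_cube (Φ := L.frame) a.2.2.1])⟩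
  have hncyc : ¬ IsCyclic ↥A := by
    intro hcy
    obtain ⟨g, hg⟩ := hcy.exists_generator
    have h9 := card_plane L
    rw [← orderOf_eq_card_of_forall_mem_zpowers hg] at h9
    have h3 : orderOf g ≤ 3 := Nat.le_of_dvd (by norm_num) (orderOf_dvd_of_pow_eq_one (Subtype.ext (by
      show (g : G) ^ 3 = 1
      rw [pow_succ, pow_two, J_cube (Φ := L.frame) g.2.2.1])))
    omega
  obtain ⟨n, hn3⟩ := IsPGroup.iff_card.1 hA3
  have hnC : ∀ v : V3, jt L.frame L.t ≤ normalizer ((X ⊓ centralizer ({psi L v} : Set G) : Subgroup G) : Set G) := by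
    intro v y hy
    rw [mem_normalizer_iff]
    intro w
    refine and_congr (mem_normalizer_iff.1 (hn hy) w) ?_
    show _ ∈ centralizer _ ↔ _ ∈ centralizer _
    rw [mem_centralizer_singleton_iff, mem_centralizer_singleton_iff]
    have hya : y * psi L v = psi L v * y := (jt_comm L hy (psi_mem L v)).eq
    have e : y * psi L v * y⁻¹ = psi L v := by rw [hya, mul_inv_cancel_right]
    constructor <;> intro hw
    · have := conj_commute_iff (c := y) (show Commute w (psi L v) from hw)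
      rwa [e] at this
    · have := conj_commute_iff (c := y⁻¹) (show Commute (y * w * y⁻¹) (psi L v) from hw)
      rwa [inv_inv, show y⁻¹ * (y * w * y⁻¹) * y = w by group,
        show y⁻¹ * psi L v * y = psi L v by rw [mul_assoc, ← hya, inv_mul_cancel_left]] at this
  rw [← Coprime.iSup_centralizer_eq (A := A) (K := X) hncyc ((inf_le_right).trans hn)
    (by rw [hn3]; exact hcop.symm.pow_left n)]
  refine iSup₂_le fun b hb => ?_
  obtain ⟨hbA, hb1⟩ := hb
  obtain ⟨x, rfl⟩ := psi_surj L hbA.2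
  have hcop' : (Nat.card ↥(X ⊓ centralizer ({psi L x} : Set G) : Subgroup G)).Coprime 3 :=
    hcop.coprime_dvd_left (card_dvd_of_le inf_le_left)
  rcases roots_perp x ((psi_mem_Q L x).1 hbA.1.1) with ⟨d, rfl⟩ | ⟨k, l, hkl, -, -, rfl⟩
  · refine le_trans (max3 L _ ?_ hcop' (hnC _)) (RR_three L ▸ RR_KK L 3)
    rintro w ⟨hwX, hwc⟩
    refine ⟨hX hwX, mem_centralizer_singleton_iff.2 ?_⟩
    have hd : d = 1 ∨ d = 2 := by
      have h0 : d ≠ 0 := fun e => hb1 (by rw [e]; exact psi_zero L)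
      exact (show ∀ d : ZMod 3, d ≠ 0 → d = 1 ∨ d = 2 by decide) d h0
    have hcw : Commute w (psi L (d, d, d)) := mem_centralizer_singleton_iff.1 hwc
    rw [z_eq]
    rcases hd with rfl | rfl
    · exact hcw.eq
    · rw [show ((2, 2, 2) : V3) = -(1, 1, 1) by decide, psi_neg] at hcw
      simpa using hcw.inv_right.eq
  · exact root_max L hkl _ (fun w hw => ⟨hX hw.1, mem_centralizer_singleton_iff.1 hw.2⟩) hcop' (hnC _)

/-- The product contains its centralizer. -/
theorem self : ct L.t ⊓ centralizer (KK L : Set G) ≤ zpowers L.t := by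
  classical
  have : Fact (Nat.Prime 3) := ⟨Nat.prime_three⟩
  set X := ct L.t ⊓ centralizer (KK L : Set G) with hX
  have hXR : ∀ x ∈ X, ∀ i, ∀ r ∈ RR L i, Commute x r := fun x hx i r hr =>
    (mem_centralizer_iff.1 hx.2 r (RR_KK L i hr)).symm
  have key : ∀ y ∈ L.normC (KK L), ∀ x ∈ X, y * x * y⁻¹ ∈ X := by
    rintro y ⟨hyK, hyt⟩ x ⟨hxt, hxK⟩
    refine ⟨(ct L.t).mul_mem ((ct L.t).mul_mem hyt hxt) ((ct L.t).inv_mem hyt), mem_centralizer_iff.2 fun w hw => ?_⟩
    have hw' : y⁻¹ * w * y ∈ KK L := by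
      have := (mem_normalizer_iff.1 (inv_mem hyK) w).1 hw
      rwa [inv_inv] at this
    calc w * (y * x * y⁻¹) = y * ((y⁻¹ * w * y) * x) * y⁻¹ := by group
      _ = y * (x * (y⁻¹ * w * y)) * y⁻¹ := by rw [mem_centralizer_iff.1 hxK _ hw']
      _ = y * x * y⁻¹ * w := by group
  have hjX : jt L.frame L.t ≤ normalizer (X : Set G) := by
    intro y hy
    rw [mem_normalizer_iff]
    refine fun x => ⟨key y (jt_local L hy) x, fun hx => ?_⟩
    have := key y⁻¹ (inv_mem (jt_local L hy)) _ hx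
    rwa [show y⁻¹ * (y * x * y⁻¹) * y⁻¹⁻¹ = x by group] at this
  have hπ3 : IsPGroup 3 ↥(jt L.frame L.t) := IsPGroup.of_card (n := 3) (by rw [card_jt]; rfl)
  have h3 : ¬ 3 ∣ Nat.card ↥X := by
    intro h3
    set H := X ⊔ jt L.frame L.t with hH
    obtain ⟨S, hS⟩ := hπ3.of_equiv (subgroupOfEquivOfLe (le_sup_right : jt L.frame L.t ≤ H)).symm
      |>.exists_le_sylow
    have hXn : (X.subgroupOf H).Normal := normal_subgroupOf_of_le_normalizer
      (sup_le le_normalizer hjX)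
    set Y : Subgroup ↥H := ↑S ⊓ X.subgroupOf H with hY
    have h3' : 3 ∣ Nat.card ↥Y := by
      set X' := X.subgroupOf H
      have hX' : 3 ∣ Nat.card ↥X' := by
        rwa [Nat.card_congr (subgroupOfEquivOfLe (le_sup_left : X ≤ H)).toEquiv]
      obtain ⟨⟨y, hy⟩, hyo⟩ := exists_prime_orderOf_dvd_card' 3 hX'
      rw [orderOf_mk] at hyo
      obtain ⟨T, hT⟩ := (IsPGroup.of_card (p := 3) (n := 1) (by
        rw [Nat.card_zpowers, hyo]; rfl) : IsPGroup 3 ↥(zpowers y)).exists_le_sylow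
      obtain ⟨g, hg⟩ := MulAction.exists_smul_eq ↥H T S
      have h1 : g * y * g⁻¹ ∈ Y := by
        refine ⟨?_, hXn.conj_mem y hy g⟩
        rw [← hg]
        exact ⟨y, hT (mem_zpowers y), rfl⟩
      have h2 : orderOf (⟨_, h1⟩ : ↥Y) = 3 := by
        rw [orderOf_mk, ← hyo]; exact (MulAut.conj g).orderOf_eq y
      exact h2 ▸ orderOf_dvd_natCard _
    let act : MulAction ↥(S : Subgroup ↥H) ↥Y :=
      { smul := fun s y => ⟨s.1 * y.1 * s.1⁻¹, Subgroup.mul_mem _ (Subgroup.mul_mem _ s.2 (mem_inf.1 y.2).1) (Subgroup.inv_mem _ s.2),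
          hXn.conj_mem _ (mem_inf.1 y.2).2 _⟩
        one_smul := fun y => Subtype.ext (by show (1 : ↥H) * y.1 * 1⁻¹ = y.1; simp)
        mul_smul := fun a b y => Subtype.ext (by
          show (a.1 * b.1) * y.1 * (a.1 * b.1)⁻¹ = a.1 * (b.1 * y.1 * b.1⁻¹) * a.1⁻¹
          group) }
    obtain ⟨y, hy, hy1⟩ := S.2.exists_fixed_point_of_prime_dvd_card_of_fixed_point
      (α := ↥Y) h3' (a := 1) (fun s => Subtype.ext (by
        show s.1 * (1 : ↥H) * s.1⁻¹ = 1; simp))
    have hcomm : ∀ w ∈ jt L.frame L.t, Commute (y.1 : G) w := fun w hw => by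
      have hwS : (⟨w, (le_sup_right : jt L.frame L.t ≤ H) hw⟩ : ↥H) ∈ (↑S : Subgroup ↥H) := hS hw
      have := congrArg (fun u : ↥Y => (u.1 : G)) (hy ⟨_, hwS⟩)
      exact (mul_inv_eq_iff_eq_mul.1 this).symm
    rcases scalar L (x := (y.1 : G)) y.2.2.1 hcomm (hXR _ y.2.2) with e | e
    · exact hy1 (Subtype.ext (Subtype.ext e.symm))
    · obtain ⟨n, hn⟩ := S.2 ⟨y.1, y.2.1⟩
      have hn' : (y.1 : G) ^ 3 ^ n = 1 := congrArg (fun u : ↥(S : Subgroup ↥H) => ((u : ↥H) : G)) hn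
      have hodd : Odd (3 ^ n) := Odd.pow (by decide)
      obtain ⟨q, hq⟩ := hodd
      rw [e, hq, pow_succ, pow_mul, pow_two, t_sq, one_pow, one_mul] at hn'
      exact t_ne L hn'
  intro x hx
  have hxK : x ∈ KK L := sigK L X inf_le_left ((Nat.prime_three.coprime_iff_not_dvd).2 h3).symm hjX hx
  rcases (four_KK L).1.centre x hxK (fun b hb => (mem_centralizer_iff.1 hx.2 b hb).symm) with e | e <;> rw [e]
  exacts [one_mem _, mem_zpowers _]

end Cfsg.Agent.CoTwoThree.B
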