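import Cfsg.Agent.CoTwoThree.B.Family
import Cfsg.Agent.CoTwoThree.B.Aut.Model

/-!
The centralizer of the root `a = j 0 1` and `t`: a normal extraspecial group of order 32 containing the
quaternion groups of the two other points, extended by part of the normalizer of `J`.
-/

set_option autoImplicit false
set_option linter.unusedSectionVars false

open Subgroup
open Cfsg.Agent.U62Three.K (Cover pt root ct jt frame_commute j_mem J_cube j_ne)

namespace Cfsg.Agent.CoTwoThree.B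

universe u

variable {G : Type u} [Group G] (L : Local G)

/-- The root. -/
abbrev av : V3 := (1, 2, 0)

/-- The centralizer of the root and `t`. -/
abbrev cat : Subgroup G := ct L.t ⊓ centralizer ({psi L av} : Set G)

theorem cop_eq_one [Finite G] {g : G} (h : g ^ 3 = 1) (hc : (orderOf g).Coprime 3) : g = 1 :=
  orderOf_eq_one_iff.1 (Nat.eq_one_of_dvd_coprimes hc (dvd_refl _) (orderOf_dvd_of_pow_eq_one h))

theorem cop_of_mem [Finite G] {X : Subgroup G} (hX : (Nat.card ↥X).Coprime 3) {x : G} (hx : x ∈ X) :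
    (orderOf x).Coprime 3 :=
  hX.coprime_dvd_left (by simpa using orderOf_dvd_natCard (⟨x, hx⟩ : ↥X))

/-- What is known at the root. -/
structure RootData where
  E : Subgroup G
  E_le : E ≤ cat L
  cardE : Nat.card ↥E = 32
  coverE : Cover L.t E
  normE : cat L ≤ normalizer (E : Set G)
  two : RR L 2 ≤ E
  three : RR L 3 ≤ E
  max : ∀ X : Subgroup G, X ≤ cat L → (Nat.card ↥X).Coprime 3 →
    jt L.frame L.t ≤ normalizer (X : Set G) → X ≤ E
  gen : ∀ g ∈ cat L, ∃ o ∈ E, ∃ n ∈ njt L, Commute n (psi L av) ∧ g = o * n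

theorem exists_rootData [Finite G] : Nonempty (RootData L) := by
  classical
  have : Fact (Nat.Prime 3) := ⟨Nat.prime_three⟩
  have haj : psi L av = L.j 0 1 := (a_eq L).symm
  set a := psi L av with ha
  set C := centralizer ({a} : Set G) with hC
  obtain ⟨hN, ⟨e⟩⟩ : ∃ (_ : ((zpowers a).subgroupOf C).Normal),
      Nonempty (↥C ⧸ (zpowers a).subgroupOf C ≃* MulAut (PSp 2 (ZMod 3))) := by
    rw [hC, haj]; exact L.quotA
  let q : ↥C →* MulAut (PSp 2 (ZMod 3)) := e.toMonoidHom.comp (QuotientGroup.mk' _)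
  have hq1 : ∀ g : ↥C, q g = 1 ↔ (g : G) ∈ zpowers a := fun g => by
    show e (QuotientGroup.mk g) = 1 ↔ _
    rw [map_eq_one_iff e e.injective, QuotientGroup.eq_one_iff, mem_subgroupOf]
  have hqs : Function.Surjective q := e.surjective.comp (QuotientGroup.mk'_surjective _)
  have ha3 : a ^ 3 = 1 := by rw [pow_succ, pow_two]; exact psi_cube L av
  have hza : ∀ d ∈ zpowers a, d ^ 3 = 1 := by
    rintro _ ⟨k, rfl⟩
    rw [← zpow_natCast, ← zpow_mul, mul_comm, zpow_mul, zpow_natCast, ha3, one_zpow]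
  have hinjE : ∀ d ∈ zpowers a, d ^ 4 = 1 → d = 1 := fun d hd h4 => by
    rw [pow_succ, hza d hd, one_mul] at h4
    exact h4
  have hπC : jt L.frame L.t ≤ C := fun y hy =>
    mem_centralizer_singleton_iff.2 (jt_comm L hy (psi_mem L av)).eq
  have hzπ : zpowers a ≤ jt L.frame L.t := zpowers_le.2 (psi_mem L av)
  have htC : L.t ∈ C := mem_centralizer_singleton_iff.2 (mem_centralizer_singleton_iff.1 (psi_mem L av).2).symm
  set τ := q ⟨L.t, htC⟩ with hτ
  have hτ1 : τ ≠ 1 := fun h => by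
    have h3 := hza _ ((hq1 _).1 h)
    rw [pow_succ, pow_two, t_sq, one_mul] at h3
    exact t_ne L h3
  have hτ2 : τ * τ = 1 := by
    rw [hτ, ← map_mul, ← map_one q]
    exact congrArg q (Subtype.ext (t_sq L))
  have hsq : ∃ r, r * r = τ := by
    obtain ⟨r, hr, hr1, hrt⟩ := exists_order_four L 3
    rw [RR_three] at hr
    have hrC : r ∈ C := mem_centralizer_singleton_iff.2 (haj ▸ L.commR r hr _ (a_EE L)).eq
    refine ⟨q ⟨r, hrC⟩, ?_⟩
    rw [hτ, ← map_mul]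
    exact congrArg q (Subtype.ext ((R_sq L hr).resolve_left hr1 |>.resolve_left hrt))
  -- the image of `π`
  let ρ : ↥(jt L.frame L.t) →* MulAut (PSp 2 (ZMod 3)) := q.comp (inclusion hπC)
  have hρker : Nat.card ↥ρ.ker = 3 := by
    have h : ρ.ker = (zpowers a).subgroupOf (jt L.frame L.t) := by
      ext y
      rw [MonoidHom.mem_ker, mem_subgroupOf]
      exact hq1 _
    rw [h, Nat.card_congr (subgroupOfEquivOfLe hzπ).toEquiv, Nat.card_zpowers]
    refine orderOf_eq_prime ha3 fun h0 => ?_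
    rw [ha, ← psi_zero L] at h0
    exact absurd (psi_inj L h0) (by decide)
  have hTcard : Nat.card ↥ρ.range = 9 := by
    have h := ρ.ker.card_eq_card_quotient_mul_card_subgroup
    rw [Nat.card_congr (QuotientGroup.quotientKerEquivRange ρ).toEquiv, hρker, card_jt] at h
    omega
  have hTτ : ρ.range ≤ centralizer ({τ} : Set (MulAut (PSp 2 (ZMod 3)))) := by
    rintro _ ⟨y, rfl⟩
    rw [mem_centralizer_singleton_iff]
    show q _ * q _ = q _ * q _
    rw [← map_mul, ← map_mul]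
    exact congrArg q (Subtype.ext (mem_centralizer_singleton_iff.1 y.2.2))
  obtain ⟨S⟩ := AutCode.exists_shape τ hτ1 hτ2 hsq
    (hTcard ▸ card_dvd_of_le hTτ)
  have hnP : ∀ c ∈ centralizer ({τ} : Set (MulAut (PSp 2 (ZMod 3)))), ∀ u ∈ S.P, c * u * c⁻¹ ∈ S.P :=
    fun c hc u hu => (mem_normalizer_iff.1 (S.normP hc) u).1 hu
  have hnO : ∀ c ∈ centralizer ({τ} : Set (MulAut (PSp 2 (ZMod 3)))), ∀ u ∈ S.O, c * u * c⁻¹ ∈ S.O :=
    fun c hc u hu => (mem_normalizer_iff.1 (S.normO hc) u).1 hu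
  -- elements of `P` of order prime to three lie in `O`
  have hPO : ∀ u ∈ S.P, (orderOf u).Coprime 3 → u ∈ S.O := by
    intro u hu hc
    have hn : (S.O.subgroupOf S.P).Normal := normal_subgroupOf_of_le_normalizer (S.P_le.trans S.normO)
    have hi : (S.O.subgroupOf S.P).index = 9 := by
      have h := (S.O.subgroupOf S.P).card_mul_index
      rw [Nat.card_congr (subgroupOfEquivOfLe S.O_le).toEquiv, S.cardO, S.cardP] at h
      omega
    have h9 : u ^ 9 ∈ S.O := by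
      have := (S.O.subgroupOf S.P).pow_index_mem ⟨u, hu⟩
      rw [hi] at this
      exact this
    obtain ⟨m, hm⟩ := exists_pow_eq_self_of_coprime (x := u) (n := 9) (by
      rw [show (9 : ℕ) = 3 ^ 2 by norm_num]
      exact hc.symm.pow_left 2)
    rw [← hm]
    exact pow_mem h9 m
  have hTP : ρ.range ≤ S.P := by
    intro u hu
    have huC := hTτ hu
    have hn : (S.P.subgroupOf (centralizer ({τ} : Set (MulAut (PSp 2 (ZMod 3)))))).Normal :=
      normal_subgroupOf_of_le_normalizer S.normP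
    have hi : (S.P.subgroupOf (centralizer ({τ} : Set (MulAut (PSp 2 (ZMod 3)))))).index = 4 := by
      have h := (S.P.subgroupOf (centralizer ({τ} : Set (MulAut (PSp 2 (ZMod 3)))))).card_mul_index
      rw [Nat.card_congr (subgroupOfEquivOfLe S.P_le).toEquiv, S.cardP, S.cardC] at h
      omega
    have h4 : u ^ 4 ∈ S.P := by
      have := (S.P.subgroupOf (centralizer ({τ} : Set (MulAut (PSp 2 (ZMod 3)))))).pow_index_mem ⟨u, huC⟩
      rw [hi] at this
      exact this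
    obtain ⟨y, rfl⟩ := hu
    rwa [pow_succ, ← map_pow ρ y 3, show y ^ 3 = 1 from Subtype.ext (by
      show (y : G) ^ 3 = 1
      rw [pow_succ, pow_two, J_cube (Φ := L.frame) y.2.1]), map_one, one_mul] at h4
  have hPgen : S.P = S.O ⊔ ρ.range := by
    refine (eq_of_le_of_card_ge (sup_le S.O_le hTP) ?_).symm
    rw [S.cardP]
    refine Nat.le_of_dvd Nat.card_pos ?_
    rw [show 288 = 32 * 9 by norm_num]
    exact Nat.Coprime.mul_dvd_of_dvd_of_dvd (by norm_num) (S.cardO ▸ card_dvd_of_le le_sup_left)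
      (hTcard ▸ card_dvd_of_le le_sup_right)
  -- the part over `O`
  have hct : ∀ g : ↥C, (g : G) ∈ ct L.t ↔ q g ∈ centralizer ({τ} : Set (MulAut (PSp 2 (ZMod 3)))) := by
    intro g
    rw [mem_centralizer_singleton_iff, mem_centralizer_singleton_iff, hτ, ← map_mul, ← map_mul]
    refine ⟨fun h => congrArg q (Subtype.ext h), fun h => ?_⟩
    have h1 := (hq1 (g * ⟨L.t, htC⟩ * (⟨L.t, htC⟩ * g)⁻¹)).1 (by rw [map_mul, map_inv, h, mul_inv_cancel])
    set d := ((g * ⟨L.t, htC⟩ * (⟨L.t, htC⟩ * g)⁻¹ : ↥C) : G) with hd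
    have hd' : d = (g : G) * L.t * (g : G)⁻¹ * L.t := by
      rw [hd]
      simp only [Subgroup.coe_mul, InvMemClass.coe_inv, mul_inv_rev, t_inv, mul_assoc]
    have hcom : Commute d L.t := (show Commute L.t d from by
      obtain ⟨k, hk⟩ := mem_zpowers_iff.1 h1
      exact hk ▸ (show Commute L.t a from mem_centralizer_singleton_iff.1 htC).zpow_right k).symm
    have h2 : d * d = 1 := by
      have e1 : (g : G) * L.t * (g : G)⁻¹ = d * L.t := by rw [hd', mul_assoc _ L.t L.t, t_sq, mul_one]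
      have e2 : d * L.t * (d * L.t) = 1 := by rw [← e1, conj_mul, t_sq, mul_one, mul_inv_cancel]
      rwa [hcom.symm.mul_mul_mul_comm, t_sq, mul_one] at e2
    have h3 : d = 1 := by
      have := hza d h1
      rwa [pow_succ, pow_two, h2, one_mul] at this
    rw [hd', mul_assoc _ (g : G)⁻¹, mul_eq_one_iff_eq_inv, mul_inv_rev, inv_inv, t_inv] at h3
    exact h3
  have hOcomm : ∀ A ∈ S.O, ∀ B ∈ S.O, (A * B)⁻¹ * (B * A) = 1 ∨ (A * B)⁻¹ * (B * A) = τ := by
    intro A hA B hB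
    have := S.cover.comm_cases hτ2 (inv_mem hB) (inv_mem hA)
    rwa [commutatorElement_def, inv_inv, inv_inv, ← mul_inv_rev, mul_assoc] at this
  let E : Subgroup G :=
    { carrier := {g | ∃ h : g ∈ C, q ⟨g, h⟩ ∈ S.O ∧ g ^ 4 = 1}
      one_mem' := ⟨one_mem _, by rw [show (⟨1, one_mem _⟩ : ↥C) = 1 from rfl, map_one]; exact one_mem _, one_pow _⟩
      inv_mem' := by
        rintro g ⟨hg, hO, h4⟩
        exact ⟨inv_mem hg, by rw [show (⟨g⁻¹, inv_mem hg⟩ : ↥C) = ⟨g, hg⟩⁻¹ from rfl, map_inv]; exact inv_mem hO,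
          by rw [inv_pow, h4, inv_one]⟩
      mul_mem' := by
        rintro g h ⟨hg, hgO, hg4⟩ ⟨hh, hhO, hh4⟩
        refine ⟨mul_mem hg hh, by rw [show (⟨g * h, mul_mem hg hh⟩ : ↥C) = ⟨g, hg⟩ * ⟨h, hh⟩ from rfl, map_mul]; exact mul_mem hgO hhO, ?_⟩
        set c := (g * h)⁻¹ * (h * g) with hc
        have hcases : c ∈ zpowers a ∨ L.t⁻¹ * c ∈ zpowers a := by
          rcases hOcomm _ hgO _ hhO with e | e
          · rw [← map_mul, ← map_mul, ← map_inv, ← map_mul] at e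
            exact Or.inl ((hq1 _).1 e)
          · rw [← map_mul, ← map_mul, ← map_inv, ← map_mul, hτ] at e
            exact Or.inr ((hq1 (⟨L.t, htC⟩⁻¹ * ((⟨g, hg⟩ * ⟨h, hh⟩)⁻¹ * (⟨h, hh⟩ * ⟨g, hg⟩)))).1
              (by rw [map_mul, map_inv, e, inv_mul_cancel]))
        have hgt : Commute g L.t :=
          mem_centralizer_singleton_iff.1 ((hct ⟨g, hg⟩).2 (S.P_le (S.O_le hgO)))
        have hht : Commute h L.t :=
          mem_centralizer_singleton_iff.1 ((hct ⟨h, hh⟩).2 (S.P_le (S.O_le hhO)))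
        have hga : ∀ d ∈ zpowers a, Commute g d := fun d hd => by
          obtain ⟨k, rfl⟩ := hd
          exact (show Commute g a from mem_centralizer_singleton_iff.1 hg).zpow_right k
        have hha : ∀ d ∈ zpowers a, Commute h d := fun d hd => by
          obtain ⟨k, rfl⟩ := hd
          exact (show Commute h a from mem_centralizer_singleton_iff.1 hh).zpow_right k
        have hta : ∀ d ∈ zpowers a, Commute L.t d := fun d hd => by
          obtain ⟨k, rfl⟩ := hd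
          exact (show Commute L.t a from mem_centralizer_singleton_iff.1 htC).zpow_right k
        obtain ⟨hcg, hch, hc6⟩ : Commute g c ∧ Commute h c ∧ c ^ 6 = 1 := by
          rcases hcases with e | e
          · exact ⟨hga c e, hha c e, by rw [show (6 : ℕ) = 3 * 2 by norm_num, pow_mul, hza c e, one_pow]⟩
          · have ec : c = L.t * (L.t⁻¹ * c) := by group
            refine ⟨ec ▸ hgt.mul_right (hga _ e), ec ▸ hht.mul_right (hha _ e), ?_⟩
            rw [ec, (hta _ e).mul_pow, show (6 : ℕ) = 2 * 3 by norm_num, pow_mul, pow_two, t_sq, one_pow, one_mul,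
              mul_comm 2 3, pow_mul, hza _ e, one_pow]
        have hhg : h * g = g * h * c := by rw [hc, mul_inv_cancel_left]
        have h2g : h ^ 2 * g = g * h ^ 2 * c ^ 2 := by
          calc h ^ 2 * g = h * (h * g) := by rw [pow_two, mul_assoc]
            _ = h * (g * h * c) := by rw [hhg]
            _ = h * g * (h * c) := by simp only [mul_assoc]
            _ = g * h * c * (h * c) := by rw [hhg]
            _ = g * h * (c * h) * c := by simp only [pow_succ, pow_zero, one_mul, mul_assoc]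
            _ = g * h ^ 2 * c ^ 2 := by rw [hch.symm.eq]; simp only [pow_succ, pow_zero, one_mul, mul_assoc]
        have h2g2 : h ^ 2 * g ^ 2 = g ^ 2 * h ^ 2 * c ^ 4 := by
          calc h ^ 2 * g ^ 2 = h ^ 2 * g * g := by simp only [pow_succ, pow_zero, one_mul, mul_assoc]
            _ = g * h ^ 2 * (c ^ 2 * g) := by rw [h2g]; simp only [pow_succ, pow_zero, one_mul, mul_assoc]
            _ = g * (h ^ 2 * g) * c ^ 2 := by rw [(hcg.pow_right 2).symm.eq]; simp only [pow_succ, pow_zero, one_mul, mul_assoc]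
            _ = g ^ 2 * h ^ 2 * c ^ 4 := by rw [h2g]; simp only [pow_succ, pow_zero, one_mul, mul_assoc]
        have hgh2 : (g * h) ^ 2 = g ^ 2 * h ^ 2 * c := by
          calc (g * h) ^ 2 = g * (h * g) * h := by simp only [pow_succ, pow_zero, one_mul, mul_assoc]
            _ = g * g * h * (c * h) := by rw [hhg]; simp only [pow_succ, pow_zero, one_mul, mul_assoc]
            _ = g ^ 2 * h ^ 2 * c := by rw [hch.symm.eq]; simp only [pow_succ, pow_zero, one_mul, mul_assoc]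
        calc (g * h) ^ 4 = (g * h) ^ 2 * (g * h) ^ 2 := by rw [← pow_add]
          _ = g ^ 2 * h ^ 2 * (c * (g ^ 2 * h ^ 2)) * c := by rw [hgh2]; simp only [pow_succ, pow_zero, one_mul, mul_assoc]
          _ = g ^ 2 * (h ^ 2 * g ^ 2) * h ^ 2 * c ^ 2 := by
            rw [((hcg.pow_left 2).mul_left (hch.pow_left 2)).symm.eq]; simp only [pow_succ, pow_zero, one_mul, mul_assoc]
          _ = g ^ 4 * h ^ 2 * (c ^ 4 * h ^ 2) * c ^ 2 := by rw [h2g2]; simp only [pow_succ, pow_zero, one_mul, mul_assoc]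
          _ = g ^ 4 * h ^ 4 * c ^ 6 := by rw [(hch.pow_pow 2 4).symm.eq]; simp only [pow_succ, pow_zero, one_mul, mul_assoc]
          _ = 1 := by rw [hg4, hh4, hc6, one_mul, one_mul] }
  have hEle : E ≤ cat L := fun g ⟨hg, hO, _⟩ => ⟨(hct ⟨g, hg⟩).2 (S.P_le (S.O_le hO)), hg⟩
  let f : ↥E → ↥S.O := fun g => ⟨q ⟨g, g.2.1⟩, g.2.2.1⟩
  have hone : ∀ g : G, ∀ hg : g ∈ C, g ∈ E → q ⟨g, hg⟩ = 1 → g = 1 := fun g hg ⟨_, _, h4⟩ h =>
    hinjE g ((hq1 ⟨g, hg⟩).1 h) h4
  have hfinj : Function.Injective f := by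
    intro g h hgh
    have h1 : q ⟨g, g.2.1⟩ = q ⟨h, h.2.1⟩ := congrArg Subtype.val hgh
    refine Subtype.ext (mul_inv_eq_one.1 (hone _ (mul_mem g.2.1 (inv_mem h.2.1)) (mul_mem g.2 (inv_mem h.2)) ?_))
    rw [show (⟨(g : G) * (h : G)⁻¹, _⟩ : ↥C) = ⟨g, g.2.1⟩ * ⟨h, h.2.1⟩⁻¹ from rfl, map_mul, map_inv, h1,
      mul_inv_cancel]
  have hO4 : ∀ o ∈ S.O, o ^ 4 = 1 := fun o ho => by
    rw [show (4 : ℕ) = 2 * 2 by norm_num, pow_mul, pow_two o, pow_two]
    rcases S.cover.sq o ho with e | e <;> rw [e]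
    exacts [one_mul 1, hτ2]
  have hfsurj : Function.Surjective f := by
    rintro ⟨o, ho⟩
    obtain ⟨g, rfl⟩ := hqs o
    have h4 : (g : G) ^ 4 ∈ zpowers a := (hq1 (g ^ 4)).1 (by rw [map_pow, hO4 _ ho])
    have hgC : (g : G) * ((g : G) ^ 4)⁻¹ ∈ C := mul_mem g.2 (inv_mem (pow_mem g.2 4))
    have hqg : q ⟨_, hgC⟩ = q g := by
      rw [show (⟨_, hgC⟩ : ↥C) = g * (g ^ 4)⁻¹ from rfl, map_mul, map_inv, map_pow, hO4 _ ho, inv_one, mul_one]
    refine ⟨⟨_, hgC, hqg ▸ ho, ?_⟩, Subtype.ext hqg⟩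
    rw [((Commute.refl (g : G)).pow_right 4).inv_right.mul_pow, inv_pow]
    calc (g : G) ^ 4 * (((g : G) ^ 4) ^ 4)⁻¹ = (g : G) ^ 4 * (((g : G) ^ 4) ^ 3 * (g : G) ^ 4)⁻¹ := by rw [← pow_succ]
      _ = 1 := by rw [hza _ h4, one_mul, mul_inv_cancel]
  have hnE : cat L ≤ normalizer (E : Set G) := by
    have key : ∀ c ∈ cat L, ∀ g ∈ E, c * g * c⁻¹ ∈ E := by
      rintro c ⟨hct', hcC⟩ g ⟨hg, hO, h4⟩
      refine ⟨mul_mem (mul_mem hcC hg) (inv_mem hcC), ?_, by rw [conj_pow, h4, mul_one, mul_inv_cancel]⟩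
      rw [show (⟨c * g * c⁻¹, _⟩ : ↥C) = ⟨c, hcC⟩ * ⟨g, hg⟩ * ⟨c, hcC⟩⁻¹ from rfl, map_mul, map_mul, map_inv]
      exact hnO _ ((hct ⟨c, hcC⟩).1 hct') _ hO
    intro c hc
    rw [mem_normalizer_iff]
    refine fun g => ⟨key c hc g, fun h => ?_⟩
    have := key c⁻¹ (inv_mem hc) _ h
    rwa [show c⁻¹ * (c * g * c⁻¹) * c⁻¹⁻¹ = g by group] at this
  have hmax : ∀ X : Subgroup G, X ≤ cat L → (Nat.card ↥X).Coprime 3 →
      jt L.frame L.t ≤ normalizer (X : Set G) → X ≤ E := by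
    intro X hX hcop hn x hx
    have hqcop : ∀ y (hy : y ∈ X), (orderOf (q ⟨y, (hX hy).2⟩)).Coprime 3 := fun y hy => by
      refine (cop_of_mem hcop hy).coprime_dvd_left ?_
      rw [← Subgroup.orderOf_mk y (hX hy).2]
      exact orderOf_map_dvd q _
    set A := q ⟨x, (hX hx).2⟩ with hA
    have hAC := (hct ⟨x, (hX hx).2⟩).1 (hX hx).1
    have hT : ∀ u ∈ ρ.range, A * u * A⁻¹ * u⁻¹ ∈ S.O := by
      rintro _ ⟨⟨y, hy⟩, rfl⟩
      refine hPO _ (mul_mem (hnP A hAC _ (hTP ⟨⟨y, hy⟩, rfl⟩)) (inv_mem (hTP ⟨⟨y, hy⟩, rfl⟩))) ?_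
      have hcX : x * y * x⁻¹ * y⁻¹ ∈ X := by
        rw [mul_assoc x, mul_assoc x]
        exact mul_mem hx ((mem_normalizer_iff.1 (hn hy) _).1 (inv_mem hx))
      have e1 : A * ρ ⟨y, hy⟩ * A⁻¹ * (ρ ⟨y, hy⟩)⁻¹ = q ⟨_, (hX hcX).2⟩ := by
        show q _ * q _ * (q _)⁻¹ * (q _)⁻¹ = _
        rw [← map_inv, ← map_inv, ← map_mul, ← map_mul, ← map_mul]
        rfl
      rw [e1]
      exact hqcop _ hcX
    have hP : ∀ u ∈ S.P, A * u * A⁻¹ * u⁻¹ ∈ S.O := by
      intro u hu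
      rw [hPgen, ← closure_eq (S.O ⊔ ρ.range), ← closure_eq S.O, ← closure_eq ρ.range, ← Subgroup.closure_union,
        closure_eq] at hu
      induction hu using closure_induction with
      | mem u hu =>
        rcases hu with hu | hu
        · exact mul_mem (hnO A hAC u hu) (inv_mem hu)
        · exact hT u hu
      | one => simp
      | mul u v hu hv h1 h2 =>
        have huC : u ∈ centralizer ({τ} : Set (MulAut (PSp 2 (ZMod 3)))) :=
          (closure_le _).2 (Set.union_subset (fun _ h => S.P_le (S.O_le h)) hTτ) hu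
        rw [show A * (u * v) * A⁻¹ * (u * v)⁻¹ = A * u * A⁻¹ * u⁻¹ * (u * (A * v * A⁻¹ * v⁻¹) * u⁻¹) by group]
        exact mul_mem h1 (hnO u huC _ h2)
      | inv u hu h1 =>
        have huC : u ∈ centralizer ({τ} : Set (MulAut (PSp 2 (ZMod 3)))) :=
          (closure_le _).2 (Set.union_subset (fun _ h => S.P_le (S.O_le h)) hTτ) hu
        rw [show A * u⁻¹ * A⁻¹ * u⁻¹⁻¹ = u⁻¹ * (A * u * A⁻¹ * u⁻¹)⁻¹ * u⁻¹⁻¹ by group]
        exact hnO _ (inv_mem huC) _ (inv_mem h1)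
    have hO : A ∈ S.O := hPO A (S.only A hAC hP) (hqcop x hx)
    refine ⟨(hX hx).2, hO, ?_⟩
    have h4 : x ^ 4 ∈ zpowers a := (hq1 (⟨x, (hX hx).2⟩ ^ 4)).1 (by rw [map_pow]; exact hO4 _ hO)
    exact cop_eq_one (hza _ h4) (cop_of_mem hcop (pow_mem hx 4))
  have hRR : ∀ i, i = 2 ∨ i = 3 → RR L i ≤ E := by
    intro i hi
    refine hmax _ (fun r hr => ⟨(RR_le L i r hr).1, mem_centralizer_singleton_iff.2
      (comm_RR L ?_ hr).symm.eq⟩) (by rw [card_RR]; decide) (jt_norm_RR L i)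
    rcases hi with rfl | rfl <;> (unfold kerAt; decide)
  refine ⟨{
    E := E, E_le := hEle
    cardE := by rw [Nat.card_eq_of_bijective f ⟨hfinj, hfsurj⟩, S.cardO]
    coverE :=
      { mem := ⟨htC, S.cover.mem, by rw [show (4 : ℕ) = 2 * 2 by norm_num, pow_mul, pow_two L.t, t_sq, one_pow]⟩
        sq := by
          rintro g ⟨hg, hO, h4⟩
          have hgE : g ∈ E := ⟨hg, hO, h4⟩
          have hqg : q ⟨g * g, mul_mem hg hg⟩ = q ⟨g, hg⟩ * q ⟨g, hg⟩ := by
            rw [show (⟨g * g, mul_mem hg hg⟩ : ↥C) = ⟨g, hg⟩ * ⟨g, hg⟩ from rfl, map_mul]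
          rcases S.cover.sq _ hO with e | e
          · exact Or.inl (hone _ _ (mul_mem hgE hgE) (hqg.trans e))
          · exact Or.inr (congrArg Subtype.val (hfinj (a₁ := ⟨g * g, mul_mem hgE hgE⟩)
              (a₂ := ⟨L.t, htC, S.cover.mem, by rw [show (4 : ℕ) = 2 * 2 by norm_num, pow_mul, pow_two L.t, t_sq, one_pow]⟩)
              (Subtype.ext (hqg.trans e))))
        central := fun g hg => mem_centralizer_singleton_iff.1 (hEle hg).1
        centre := by
          rintro g hgE hall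
          rcases S.cover.centre (q ⟨g, hgE.1⟩) hgE.2.1 (fun o ho => by
            obtain ⟨h, hh⟩ := hfsurj ⟨o, ho⟩
            have e : q ⟨h, h.2.1⟩ = o := congrArg Subtype.val hh
            rw [← e, commute_iff_eq, ← map_mul, ← map_mul]
            exact congrArg q (Subtype.ext (hall h h.2).eq)) with e | e
          · exact Or.inl (hone _ _ hgE e)
          · exact Or.inr (congrArg Subtype.val (hfinj (a₁ := ⟨g, hgE⟩)
              (a₂ := ⟨L.t, htC, S.cover.mem, by rw [show (4 : ℕ) = 2 * 2 by norm_num, pow_mul, pow_two L.t, t_sq, one_pow]⟩)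
              (Subtype.ext e))) }
    normE := hnE
    two := hRR 2 (Or.inl rfl)
    three := hRR 3 (Or.inr rfl)
    max := hmax
    gen := ?_ }⟩
  rintro g ⟨hgt, hgC⟩
  set A := q ⟨g, hgC⟩ with hA
  have hAC := (hct ⟨g, hgC⟩).1 hgt
  set T := ρ.range with hT
  set T' := T.map (MulAut.conj A).toMonoidHom with hT'
  have hT'P : T' ≤ S.P := by
    rintro _ ⟨u, hu, rfl⟩
    exact hnP A hAC u (hTP hu)
  have hpow : 3 ^ (Nat.card ↥S.P).factorization 3 = 9 := by
    rw [S.cardP, show 288 = 2 ^ 5 * 3 ^ 2 by norm_num, Nat.factorization_mul (by norm_num) (by norm_num),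
      Nat.Prime.factorization_pow Nat.prime_two, Nat.Prime.factorization_pow Nat.prime_three]
    simp
  let S1 : Sylow 3 ↥S.P := Sylow.ofCard (T'.subgroupOf S.P) (by
    rw [hpow, Nat.card_congr (subgroupOfEquivOfLe hT'P).toEquiv,
      card_map_of_injective (MulAut.conj A).injective, hTcard])
  let S2 : Sylow 3 ↥S.P := Sylow.ofCard (T.subgroupOf S.P) (by
    rw [hpow, Nat.card_congr (subgroupOfEquivOfLe hTP).toEquiv, hTcard])
  obtain ⟨p, hp⟩ := MulAction.exists_smul_eq ↥S.P S1 S2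
  have hpmem : ∀ w ∈ T', (p : MulAut (PSp 2 (ZMod 3))) * w * (p : MulAut (PSp 2 (ZMod 3)))⁻¹ ∈ T := by
    intro w hw
    have h1 : p * ⟨w, hT'P hw⟩ * p⁻¹ ∈ (S2 : Subgroup ↥S.P) := by
      rw [← hp]
      exact Subgroup.smul_mem_pointwise_smul (⟨w, hT'P hw⟩ : ↥S.P) (MulAut.conj p) _ hw
    exact h1
  obtain ⟨o, ho, u, hu, hpe⟩ : ∃ o ∈ S.O, ∃ u ∈ T, (p : MulAut (PSp 2 (ZMod 3))) = o * u := by
    have hm : (p : MulAut (PSp 2 (ZMod 3))) ∈ ((S.O ⊔ T : Subgroup _) : Set (MulAut (PSp 2 (ZMod 3)))) :=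
      (hPgen ▸ p.2 : (p : MulAut (PSp 2 (ZMod 3))) ∈ S.O ⊔ T)
    rw [Subgroup.coe_mul_of_right_le_normalizer_left S.O T (hTτ.trans S.normO)] at hm
    obtain ⟨o, ho, u, hu, h⟩ := hm
    exact ⟨o, ho, u, hu, h.symm⟩
  obtain ⟨⟨e2, he2⟩, he2o⟩ := hfsurj ⟨u⁻¹ * o * u, by simpa using hnO _ (inv_mem (hTτ hu)) _ ho⟩
  have hq2 : q ⟨e2, he2.1⟩ = u⁻¹ * o * u := congrArg Subtype.val he2o
  have hnc : e2 * g ∈ cat L := mul_mem (hEle he2) ⟨hgt, hgC⟩
  have hn : ∀ y ∈ jt L.frame L.t, e2 * g * y * (e2 * g)⁻¹ ∈ jt L.frame L.t := by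
    intro y hy
    have hk : q (⟨e2, he2.1⟩ * ⟨g, hgC⟩ * ⟨y, hπC hy⟩ * (⟨e2, he2.1⟩ * ⟨g, hgC⟩)⁻¹) ∈ T := by
      rw [map_mul, map_mul, map_inv, map_mul, hq2, ← hA]
      have h1 := hpmem _ (⟨ρ ⟨y, hy⟩, ⟨⟨y, hy⟩, rfl⟩, rfl⟩ : MulAut.conj A (ρ ⟨y, hy⟩) ∈ T')
      rw [hpe, MulAut.conj_apply] at h1
      have h2 := mul_mem (mul_mem (inv_mem hu) h1) hu
      rw [show q ⟨y, hπC hy⟩ = ρ ⟨y, hy⟩ from rfl,
        show u⁻¹ * o * u * A * ρ ⟨y, hy⟩ * (u⁻¹ * o * u * A)⁻¹ =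
          u⁻¹ * (o * u * (A * ρ ⟨y, hy⟩ * A⁻¹) * (o * u)⁻¹) * u by group]
      exact h2
    obtain ⟨⟨y', hy'⟩, hye⟩ := hk
    set M : ↥C := ⟨e2, he2.1⟩ * ⟨g, hgC⟩ * ⟨y, hπC hy⟩ * (⟨e2, he2.1⟩ * ⟨g, hgC⟩)⁻¹ with hM
    have h1 := (hq1 ((⟨y', hπC hy'⟩ : ↥C)⁻¹ * M)).1 (by
      rw [map_mul, map_inv]
      show (ρ ⟨y', hy'⟩)⁻¹ * _ = 1
      rw [hye, inv_mul_cancel])
    have h2 : y' * (y'⁻¹ * (e2 * g * y * (e2 * g)⁻¹)) ∈ jt L.frame L.t := mul_mem hy' (hzπ h1)
    rwa [mul_inv_cancel_left] at h2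
  refine ⟨e2⁻¹, inv_mem he2, e2 * g, norm_jt_le L hnc.1 hn, mem_centralizer_singleton_iff.1 hnc.2, ?_⟩
  group

end Cfsg.Agent.CoTwoThree.B
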