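import Cfsg.Agent.CoTwoThree.B.Quot

/-!
The three kinds of elements of `π` and their fixed points on the product.
-/

set_option autoImplicit false
set_option linter.unusedSectionVars false

open Subgroup Cfsg
open Cfsg.Agent.U62Three.K (Cover pt root ct jt frame_commute j_mem J_cube)

namespace Cfsg.Agent.CoTwoThree.B

universe u

/-- A point or its opposite. -/
def IsPt (x : V3) : Prop := ∃ i, x = pv i ∨ x = -pv i

/-- A root. -/
def IsRt (x : V3) : Prop := ∃ k l : Fin 4, k ≠ l ∧ x = pv k - pv l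

/-- A sum of two points or its opposite. -/
def IsB (x : V3) : Prop := ∃ i k : Fin 4, i ≠ k ∧ (x = pv i + pv k ∨ x = -(pv i + pv k))

theorem kinds : ∀ x : V3, x ≠ 0 → IsPt x ∨ IsRt x ∨ IsB x := by
  unfold IsPt IsRt IsB
  decide +kernel

theorem ker_B : ∀ x : V3, IsB x → ∀ i, ¬ kerAt i x := by
  unfold IsB kerAt
  decide +kernel

theorem rt_not_pt : ∀ x : V3, IsRt x → ¬ IsPt x ∧ x ≠ 0 := by
  unfold IsPt IsRt
  decide +kernel

theorem b_not_rt : ∀ (σ : Equiv.Perm (Fin 4)) (i k : Fin 4), i ≠ k →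
    pv (σ i) + pv (σ k) ≠ av ∧ -(pv (σ i) + pv (σ k)) ≠ av := by
  decide +kernel

set_option synthInstance.maxSize 4000 in
set_option synthInstance.maxHeartbeats 400000 in
theorem b_line : ∀ x : V3, IsB x → ∀ y : V3, y ≠ 0 → y ≠ x → y ≠ -x →
    IsPt (x + y) ∨ IsRt (x + y) ∨ IsPt (x - y) ∨ IsRt (x - y) ∨ IsPt y ∨ IsRt y := by
  unfold IsPt IsRt IsB
  decide +kernel

theorem pt_move : ∀ x y : V3, IsPt x → IsPt y →
    ∃ σ : Equiv.Perm (Fin 4), ∀ i, (x = pv i → y = pv (σ i) ∨ y = -pv (σ i)) ∧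
      (x = -pv i → y = pv (σ i) ∨ y = -pv (σ i)) := by
  unfold IsPt
  decide +kernel

variable {G : Type u} [Group G] [Finite G] (L : Local G)

theorem isConj_of_pt {x : V3} (hx : IsPt x) : IsConj L.z (psi L x) := by
  obtain ⟨i, rfl | rfl⟩ := hx
  · exact isConj_pt L i
  · obtain ⟨n, -, hn⟩ := exists_neg L
    refine (isConj_pt L i).trans (isConj_iff.2 ⟨n, ?_⟩)
    rw [hn _ (psi_mem L _).1, psi_neg]

/-- The normalizer of `J` in `C(t)` is transitive on the points. -/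
theorem move_pt {x y : V3} (hx : IsPt x) (hy : IsPt y) : ∃ n ∈ njt L, n * psi L x * n⁻¹ = psi L y := by
  obtain ⟨σ, hσ⟩ := pt_move x y hx hy
  obtain ⟨i, hi⟩ := hx
  obtain ⟨n, hn, hna⟩ := exists_perm L σ
  obtain ⟨m, hm, hneg⟩ := exists_neg L
  have hm' : ∀ v : V3, m * psi L v * m⁻¹ = psi L (-v) := fun v => by rw [hneg _ (psi_mem L v).1, psi_neg]
  rcases hi with rfl | rfl
  · rcases (hσ i).1 rfl with rfl | rfl
    · exact ⟨n, hn, hna i⟩
    · refine ⟨m * n, mul_mem hm hn, ?_⟩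
      rw [show m * n * psi L (pv i) * (m * n)⁻¹ = m * (n * psi L (pv i) * n⁻¹) * m⁻¹ by group, hna, hm']
  · rcases (hσ i).2 rfl with rfl | rfl
    · refine ⟨n * m, mul_mem hn hm, ?_⟩
      rw [show n * m * psi L (-pv i) * (n * m)⁻¹ = n * (m * psi L (-pv i) * m⁻¹) * n⁻¹ by group, hm', neg_neg, hna]
    · refine ⟨n, hn, ?_⟩
      rw [psi_neg, ← conj_inv, hna, psi_neg]

/-- The normalizer of `J` in `C(t)` is transitive on the roots. -/
theorem move_rt {x y : V3} (hx : IsRt x) (hy : IsRt y) : ∃ n ∈ njt L, n * psi L x * n⁻¹ = psi L y := by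
  obtain ⟨k, l, hkl, rfl⟩ := hx
  obtain ⟨k', l', hkl', rfl⟩ := hy
  have key : ∀ k l k' l' : Fin 4, k ≠ l → k' ≠ l' → ∃ σ : Equiv.Perm (Fin 4), σ k = k' ∧ σ l = l' := by
    decide +kernel
  obtain ⟨σ, hk, hl⟩ := key k l k' l' hkl hkl'
  obtain ⟨n, hn, hna⟩ := exists_perm L σ
  exact ⟨n, hn, by rw [psi_sub, ← conj_mul, ← conj_inv, hna, hna, hk, hl, psi_sub]⟩

/-- What centralizes a point or a root in `C(t)` normalises the product. -/
theorem kind_local {x : V3} (hx : IsPt x ∨ IsRt x) {g : G} (hg : g ∈ ct L.t) (hc : Commute g (psi L x)) :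
    g ∈ L.normC (KK L) := by
  rcases hx with ⟨i, rfl | rfl⟩ | ⟨k, l, hkl, rfl⟩
  · exact pt_local L i hg hc
  · rw [psi_neg] at hc
    exact pt_local L i hg (by simpa using hc.inv_right)
  · exact root_local L hkl hg hc

theorem comm_of_mod_t {y k : G} (hy : y * y * y = 1) (hyt : Commute y L.t)
    (h : y * k * y⁻¹ = k ∨ y * k * y⁻¹ = k * L.t) : Commute y k := by
  rcases h with h | h
  · exact mul_inv_eq_iff_eq_mul.1 h
  exfalso
  have h2 : y * (k * L.t) * y⁻¹ = k := by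
    rw [← conj_mul, h, hyt.eq, mul_inv_cancel_right, mul_assoc, t_sq, mul_one]
  have h3 : y * y * y * k * (y * y * y)⁻¹ = k * L.t := by
    calc y * y * y * k * (y * y * y)⁻¹ = y * (y * (y * k * y⁻¹) * y⁻¹) * y⁻¹ := by group
      _ = k * L.t := by rw [h, h2, h]
  rw [hy, one_mul, inv_one, mul_one] at h3
  exact t_ne L (mul_eq_left.1 h3.symm)

theorem zpow_t {w : G} (h : w ∈ zpowers L.t) : w = 1 ∨ w = L.t := by
  obtain ⟨m, rfl⟩ := h
  rcases Int.even_or_odd m with ⟨n, rfl⟩ | ⟨n, rfl⟩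
  · left; show L.t ^ (n + n) = 1; rw [← two_mul, zpow_mul, zpow_two, t_sq, one_zpow]
  · right; show L.t ^ (2 * n + 1) = L.t; rw [zpow_add_one, zpow_mul, zpow_two, t_sq, one_zpow, one_mul]

/-- A product of the four groups has trivial components only. -/
theorem KK_decomp {k : G} (hk : k ∈ KK L) :
    ∃ r : Fin 4 → G, (∀ i, r i ∈ RR L i) ∧ k = r 0 * r 1 * r 2 * r 3 := by
  have hc : ∀ {i j : Fin 4}, i ≠ j → ∀ a ∈ RR L i, ∀ b ∈ RR L j, Commute a b := fun h => comm_pair L h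
  obtain ⟨h01, -, m01⟩ := (cover_RR L 0).sup (t_ne L) (t_sq L) (cover_RR L 1) (hc (by decide))
  obtain ⟨h012, -, m012⟩ := h01.sup (t_ne L) (t_sq L) (cover_RR L 2) fun x hx b hb => by
    obtain ⟨a, ha, c, hc', rfl⟩ := m01 x hx
    exact (hc (show (0 : Fin 4) ≠ 2 by decide) a ha b hb).mul_left (hc (show (1 : Fin 4) ≠ 2 by decide) c hc' b hb)
  obtain ⟨-, -, m⟩ := h012.sup (t_ne L) (t_sq L) (cover_RR L 3) fun x hx b hb => by
    obtain ⟨y, hy, d, hd, rfl⟩ := m012 x hx
    obtain ⟨a, ha, c, hc', rfl⟩ := m01 y hy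
    exact ((hc (show (0 : Fin 4) ≠ 3 by decide) a ha b hb).mul_left
      (hc (show (1 : Fin 4) ≠ 3 by decide) c hc' b hb)).mul_left (hc (show (2 : Fin 4) ≠ 3 by decide) d hd b hb)
  have hle : KK L ≤ RR L 0 ⊔ RR L 1 ⊔ RR L 2 ⊔ RR L 3 := iSup_le fun i => by
    fin_cases i
    exacts [le_sup_of_le_left (le_sup_of_le_left le_sup_left), le_sup_of_le_left (le_sup_of_le_left le_sup_right),
      le_sup_of_le_left le_sup_right, le_sup_right]
  obtain ⟨w, hw, d, hd, rfl⟩ := m k (hle hk)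
  obtain ⟨v, hv, c, hc', rfl⟩ := m012 w hw
  obtain ⟨a, ha, b, hb, rfl⟩ := m01 v hv
  exact ⟨![a, b, c, d], fun i => by fin_cases i <;> assumption, rfl⟩

/-- A sum of two points fixes only `1` and `t` in the product. -/
theorem fpf {x : V3} (hx : IsB x) {k : G} (hk : k ∈ KK L) (hc : Commute (psi L x) k) : k ∈ zpowers L.t := by
  obtain ⟨r, hr, rfl⟩ := KK_decomp L hk
  set y := psi L x with hy
  have hyn : ∀ i, ∀ s ∈ RR L i, y * s * y⁻¹ ∈ RR L i := fun i s hs =>
    (mem_normalizer_iff.1 (jt_norm_RR L i (psi_mem L x)) s).1 hs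
  let d : Fin 4 → G := fun i => y * r i * y⁻¹
  have hd : ∀ i, d i ∈ RR L i := fun i => hyn i _ (hr i)
  have heq : d 0 * d 1 * d 2 * d 3 = r 0 * r 1 * r 2 * r 3 := by
    simp only [d, conj_mul]
    rw [hc.eq, mul_inv_cancel_right]
  have key : ∀ i, (d i)⁻¹ * r i = 1 ∨ (d i)⁻¹ * r i = L.t := by
    intro i
    refine (cover_RR L i).centre _ (mul_mem (inv_mem (hd i)) (hr i)) fun b hb => ?_
    have hcb : ∀ j, j ≠ i → Commute (d j) b ∧ Commute (r j) b := fun j hj =>
      ⟨comm_pair L hj _ (hd j) b hb, comm_pair L hj _ (hr j) b hb⟩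
    have hcd : ∀ j k : Fin 4, j ≠ k → Commute (d j) (d k) ∧ Commute (r j) (r k) ∧ Commute (d j) (r k) := fun j k h =>
      ⟨comm_pair L h _ (hd j) _ (hd k), comm_pair L h _ (hr j) _ (hr k), comm_pair L h _ (hd j) _ (hr k)⟩
    fin_cases i
    · have e : (d 0)⁻¹ * r 0 = d 1 * d 2 * d 3 * (r 1 * r 2 * r 3)⁻¹ := by
        rw [inv_mul_eq_iff_eq_mul, ← mul_assoc, eq_mul_inv_iff_mul_eq]
        calc r 0 * (r 1 * r 2 * r 3) = r 0 * r 1 * r 2 * r 3 := by group
          _ = d 0 * (d 1 * d 2 * d 3) := by rw [← heq]; group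
      show Commute ((d 0)⁻¹ * r 0) b
      rw [e]
      exact ((((hcb 1 (by decide)).1.mul_left (hcb 2 (by decide)).1).mul_left (hcb 3 (by decide)).1)).mul_left
        (((hcb 1 (by decide)).2.mul_left (hcb 2 (by decide)).2).mul_left (hcb 3 (by decide)).2).inv_left
    · have e : (d 1)⁻¹ * r 1 = d 2 * d 3 * d 0 * (r 2 * r 3 * r 0)⁻¹ := by
        rw [inv_mul_eq_iff_eq_mul, ← mul_assoc, eq_mul_inv_iff_mul_eq]
        calc r 1 * (r 2 * r 3 * r 0) = r 0 * r 1 * r 2 * r 3 := by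
              rw [← mul_assoc, ← mul_assoc, (((hcd 0 1 (by decide)).2.1.mul_right (hcd 0 2 (by decide)).2.1).mul_right (hcd 0 3 (by decide)).2.1).symm.eq]
              group
          _ = d 0 * (d 1 * d 2 * d 3) := by rw [← heq]; group
          _ = d 1 * d 2 * d 3 * d 0 := (((hcd 0 1 (by decide)).1.mul_right (hcd 0 2 (by decide)).1).mul_right (hcd 0 3 (by decide)).1).eq
          _ = d 1 * (d 2 * d 3 * d 0) := by group
      show Commute ((d 1)⁻¹ * r 1) b
      rw [e]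
      exact ((((hcb 2 (by decide)).1.mul_left (hcb 3 (by decide)).1).mul_left (hcb 0 (by decide)).1)).mul_left
        (((hcb 2 (by decide)).2.mul_left (hcb 3 (by decide)).2).mul_left (hcb 0 (by decide)).2).inv_left
    · have e : (d 2)⁻¹ * r 2 = d 3 * (d 0 * d 1) * (r 3 * (r 0 * r 1))⁻¹ := by
        rw [inv_mul_eq_iff_eq_mul, ← mul_assoc, eq_mul_inv_iff_mul_eq]
        calc r 2 * (r 3 * (r 0 * r 1)) = r 0 * r 1 * r 2 * r 3 := by
              rw [← mul_assoc, (((hcd 2 0 (by decide)).2.1.mul_right (hcd 2 1 (by decide)).2.1).mul_left ((hcd 3 0 (by decide)).2.1.mul_right (hcd 3 1 (by decide)).2.1)).eq]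
              group
          _ = d 0 * d 1 * (d 2 * d 3) := by rw [← heq]; group
          _ = d 2 * d 3 * (d 0 * d 1) :=
              (((hcd 2 0 (by decide)).1.mul_right (hcd 2 1 (by decide)).1).mul_left ((hcd 3 0 (by decide)).1.mul_right (hcd 3 1 (by decide)).1)).symm.eq
          _ = d 2 * (d 3 * (d 0 * d 1)) := by group
      show Commute ((d 2)⁻¹ * r 2) b
      rw [e]
      exact ((hcb 3 (by decide)).1.mul_left ((hcb 0 (by decide)).1.mul_left (hcb 1 (by decide)).1)).mul_left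
        ((hcb 3 (by decide)).2.mul_left ((hcb 0 (by decide)).2.mul_left (hcb 1 (by decide)).2)).inv_left
    · have e : (d 3)⁻¹ * r 3 = d 0 * d 1 * d 2 * (r 0 * r 1 * r 2)⁻¹ := by
        rw [inv_mul_eq_iff_eq_mul, ← mul_assoc, eq_mul_inv_iff_mul_eq]
        calc r 3 * (r 0 * r 1 * r 2) = r 0 * r 1 * r 2 * r 3 :=
              (((hcd 3 0 (by decide)).2.1.mul_right (hcd 3 1 (by decide)).2.1).mul_right (hcd 3 2 (by decide)).2.1).eq
          _ = d 0 * d 1 * d 2 * d 3 := heq.symm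
          _ = d 3 * (d 0 * d 1 * d 2) :=
              (((hcd 3 0 (by decide)).1.mul_right (hcd 3 1 (by decide)).1).mul_right (hcd 3 2 (by decide)).1).symm.eq
      show Commute ((d 3)⁻¹ * r 3) b
      rw [e]
      exact (((hcb 0 (by decide)).1.mul_left (hcb 1 (by decide)).1).mul_left (hcb 2 (by decide)).1).mul_left
        (((hcb 0 (by decide)).2.mul_left (hcb 1 (by decide)).2).mul_left (hcb 2 (by decide)).2).inv_left
  have hall : ∀ i, r i ∈ zpowers L.t := by
    intro i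
    have hcr : Commute y (r i) := by
      refine comm_of_mod_t L (psi_cube L x) (mem_centralizer_singleton_iff.1 (psi_mem L x).2) ?_
      rcases key i with e | e
      · exact Or.inl (inv_mul_eq_one.1 e)
      · refine Or.inr ?_
        rw [inv_mul_eq_iff_eq_mul] at e
        show d i = r i * L.t
        rw [e, mul_assoc, t_sq, mul_one]
    obtain h0 | ⟨m, hm, v, hv, hxv⟩ := kerAt_or i x
    · exact absurd h0 (ker_B x hx i)
    have hv' := comm_RR L hv (hr i)
    have h1 : Commute (psi L (pv m)) (r i) := by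
      rcases hxv with e | e
      · have := hcr.mul_left hv'.inv_left
        rwa [hy, e, psi_add, mul_inv_cancel_right] at this
      · have := (hcr.mul_left hv'.inv_left).inv_left
        rwa [hy, e, psi_add, mul_inv_cancel_right, psi_neg, inv_inv] at this
    rcases free_RR L hm.symm (hr i) h1 with e | e <;> rw [e]
    exacts [one_mem _, mem_zpowers _]
  exact mul_mem (mul_mem (mul_mem (hall 0) (hall 1)) (hall 2)) (hall 3)

end Cfsg.Agent.CoTwoThree.B
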